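import Mathlib.AlgebraicGeometry.AffineTransitionLimit
import Mathlib.AlgebraicGeometry.Morphisms.FinitePresentation
import Mathlib.RingTheory.FinitePresentation
import Mathlib.Algebra.Category.Ring.Under.Basic
import Mathlib.CategoryTheory.Filtered.Connected

/-! Finite presentation is detected by directed systems. -/

set_option autoImplicit false
set_option linter.style.haveILetI false
universe u

namespace Groth.Agent.LimitsH94

open CategoryTheory Limits Opposite

section Alg

variable {R B : Type u} [CommRing R] [CommRing B] [Algebra R B]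

theorem isColimit_under {J : Type u} [Preorder J] [IsDirectedOrder J] [Nonempty J]
    {A : CommRingCat.{u}} (F : J ⥤ Under A) (c : Cocone F)
    (hsurj : ∀ z : c.pt.right, ∃ j, ∃ x : (F.obj j).right, (c.ι.app j).right x = z)
    (hinj : ∀ (j : J) (x y : (F.obj j).right), (c.ι.app j).right x = (c.ι.app j).right y →
      ∃ (k : J) (h : j ≤ k), (F.map (homOfLE h)).right x = (F.map (homOfLE h)).right y) :
    Nonempty (IsColimit c) := by
  haveI : PreservesColimit (F ⋙ Under.forget _) (forget CommRingCat.{u}) := inferInstance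
  haveI : ReflectsColimit (F ⋙ Under.forget _) (forget CommRingCat.{u}) :=
    reflectsColimit_of_reflectsIsomorphisms _ _
  haveI : IsConnected J := IsFiltered.isConnected _
  refine ⟨isColimitOfReflects (Under.forget _) (isColimitOfReflects (forget CommRingCat.{u}) ?_)⟩
  refine Types.FilteredColimit.isColimitOf' _ _ (fun z => ?_) fun j x y h => ?_
  · obtain ⟨j, x, hx⟩ := hsurj z
    exact ⟨j, x, hx.symm⟩
  · obtain ⟨k, hk, e⟩ := hinj j x y h
    exact ⟨k, homOfLE hk, e⟩

theorem finitePresentation_of_retract {C : Type u} [CommRing C] [Algebra R C]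
    [Algebra.FinitePresentation R C] (ρ : C →ₐ[R] B) (s : B →ₐ[R] C)
    (h : ∀ b, ρ (s b) = b) : Algebra.FinitePresentation R B := by
  obtain ⟨n, φ, hφ, -⟩ := (‹Algebra.FinitePresentation R C›).out
  let g : Fin n → C := fun i => φ (MvPolynomial.X i) - s (ρ (φ (MvPolynomial.X i)))
  let L : Ideal C := Ideal.span (Set.range g)
  have hker : RingHom.ker ρ = L := by
    refine le_antisymm (fun z hz => ?_) (Ideal.span_le.mpr ?_)
    · have key : (Ideal.Quotient.mkₐ R L).comp φ =
          ((Ideal.Quotient.mkₐ R L).comp (s.comp ρ)).comp φ := by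
        refine MvPolynomial.algHom_ext fun i => ?_
        simp only [AlgHom.comp_apply, Ideal.Quotient.mkₐ_eq_mk, Ideal.Quotient.mk_eq_mk_iff_sub_mem]
        exact Ideal.subset_span ⟨i, rfl⟩
      obtain ⟨w, rfl⟩ := hφ z
      have e := congr($key w)
      simp only [AlgHom.comp_apply, RingHom.mem_ker.mp hz, map_zero, Ideal.Quotient.mkₐ_eq_mk] at e
      exact Ideal.Quotient.eq_zero_iff_mem.mp e
    · rintro _ ⟨i, rfl⟩
      simp [g, h]
  have hfg : (RingHom.ker ρ.toRingHom).FG := by
    change (RingHom.ker ρ).FG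
    rw [hker]
    exact Submodule.fg_span (Set.finite_range _)
  exact Algebra.FinitePresentation.of_surjective (fun b => ⟨s b, h b⟩) hfg

end Alg

variable {A B : CommRingCat.{u}} (f : A ⟶ B)

/-- Every directed system with colimit `B` admits a section from `B` at some stage. -/
def HasSections : Prop :=
  ∀ (J : Type u) [Preorder J] [IsDirectedOrder J] [Nonempty J] (F : J ⥤ Under A)
    (τ : F ⟶ (Functor.const J).obj (Under.mk f)), IsColimit (Cocone.mk _ τ) →
    ∃ (j : J) (s : Under.mk f ⟶ F.obj j), s ≫ τ.app j = 𝟙 _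

theorem finiteType_of_hasSections (h : HasSections f) : f.hom.FiniteType := by
  letI := f.hom.toAlgebra
  let J := {S : Subalgebra A B // S.FG}
  haveI : Nonempty J := ⟨⟨⊥, Subalgebra.fg_bot⟩⟩
  haveI : IsDirectedOrder J :=
    ⟨fun S T => ⟨⟨S.1 ⊔ T.1, S.2.sup T.2⟩, show S.1 ≤ _ from le_sup_left, show T.1 ≤ _ from le_sup_right⟩⟩
  let F : J ⥤ Under A :=
    { obj S := Under.mk (CommRingCat.ofHom (algebraMap A S.1))
      map {S T} e := Under.homMk (CommRingCat.ofHom (Subalgebra.inclusion (leOfHom e : S.1 ≤ T.1)).toRingHom) (by ext; rfl)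
      map_id S := by ext; rfl
      map_comp _ _ := by ext; rfl }
  let τ : F ⟶ (Functor.const J).obj (Under.mk f) :=
    { app S := Under.homMk (CommRingCat.ofHom S.1.val.toRingHom) (by ext; rfl)
      naturality _ _ _ := by ext; rfl }
  obtain ⟨hc⟩ := isColimit_under F (Cocone.mk _ τ)
    (fun z => ⟨⟨Algebra.adjoin A {(z : B)}, by simpa using Subalgebra.fg_adjoin_finset ({(z : B)} : Finset B)⟩,
      ⟨z, Algebra.subset_adjoin rfl⟩, rfl⟩)
    (fun j x y e => ⟨j, le_rfl, congrArg _ (Subtype.ext (p := fun b : B => b ∈ j.1) e)⟩)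
  obtain ⟨S, s, hs⟩ := h J F τ hc
  have : S.1 = ⊤ := top_le_iff.mp fun z _ => by
    let z' : S.1 := s.right.hom z
    have e : (z' : B) = z := congr((($hs).right).hom z)
    exact e ▸ z'.2
  show Algebra.FiniteType A B
  exact ⟨this ▸ S.2⟩

theorem finitePresentation_of_hasSections (h : HasSections f) : f.hom.FinitePresentation := by
  letI := f.hom.toAlgebra
  obtain ⟨n, π, hπ⟩ := Algebra.FiniteType.iff_quotient_mvPolynomial''.mp
    (show Algebra.FiniteType A B from finiteType_of_hasSections f h)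
  let J := {K : Ideal (MvPolynomial (Fin n) A) // K.FG ∧ K ≤ RingHom.ker π}
  haveI : Nonempty J := ⟨⟨⊥, Submodule.fg_bot, bot_le⟩⟩
  haveI : IsDirectedOrder J := ⟨fun S T => ⟨⟨S.1 ⊔ T.1, Submodule.FG.sup S.2.1 T.2.1, sup_le S.2.2 T.2.2⟩,
    show S.1 ≤ _ from le_sup_left, show T.1 ≤ _ from le_sup_right⟩⟩
  let F : J ⥤ Under A :=
    { obj K := Under.mk (CommRingCat.ofHom (algebraMap A (MvPolynomial (Fin n) A ⧸ K.1)))
      map {K K'} e := Under.homMk (CommRingCat.ofHom (Ideal.Quotient.factorₐ A (leOfHom e : K.1 ≤ K'.1)).toRingHom)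
        (by ext a; exact (Ideal.Quotient.factorₐ A (leOfHom e : K.1 ≤ K'.1)).commutes a)
      map_id K := by
        apply Under.UnderMorphism.ext
        ext x
        obtain ⟨x, rfl⟩ := Ideal.Quotient.mk_surjective x
        rfl
      map_comp _ _ := by
        apply Under.UnderMorphism.ext
        ext x
        obtain ⟨x, rfl⟩ := Ideal.Quotient.mk_surjective x
        rfl }
  let τ : F ⟶ (Functor.const J).obj (Under.mk f) :=
    { app K := Under.homMk (CommRingCat.ofHom (Ideal.Quotient.liftₐ K.1 π fun x hx => K.2.2 hx).toRingHom)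
        (by ext a; exact (Ideal.Quotient.liftₐ K.1 π fun x hx => K.2.2 hx).commutes a)
      naturality K K' e := by
        apply Under.UnderMorphism.ext
        ext x
        obtain ⟨x, rfl⟩ := Ideal.Quotient.mk_surjective x
        rfl }
  obtain ⟨hc⟩ := isColimit_under F (Cocone.mk _ τ)
    (fun z => by
      obtain ⟨w, hw⟩ := hπ z
      exact ⟨Classical.arbitrary J, Ideal.Quotient.mk _ w, hw⟩)
    (fun K x y e => by
      obtain ⟨x, rfl⟩ := Ideal.Quotient.mk_surjective x
      obtain ⟨y, rfl⟩ := Ideal.Quotient.mk_surjective y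
      have hxy : x - y ∈ RingHom.ker π := by
        rw [RingHom.mem_ker, map_sub, sub_eq_zero]
        exact e
      refine ⟨⟨K.1 ⊔ Ideal.span {x - y}, Submodule.FG.sup K.2.1 (Submodule.fg_span_singleton _),
        sup_le K.2.2 ((Ideal.span_singleton_le_iff_mem _).mpr hxy)⟩, show K.1 ≤ _ from le_sup_left, ?_⟩
      exact Ideal.Quotient.eq.mpr (Ideal.mem_sup_right (Ideal.mem_span_singleton_self _)))
  obtain ⟨K, s, hs⟩ := h J F τ hc
  haveI : Algebra.FinitePresentation A (MvPolynomial (Fin n) A ⧸ K.1) :=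
    Algebra.FinitePresentation.quotient K.2.1
  exact finitePresentation_of_retract (R := A) (B := B)
    (Ideal.Quotient.liftₐ K.1 π fun x hx => K.2.2 hx)
    { s.right.hom with commutes' := fun a => congr($(Under.w s).hom a) }
    fun b => congr((($hs).right).hom b)

section Scheme

open AlgebraicGeometry

variable {X S : Scheme.{u}}

theorem locallyOfFinitePresentation_of_factor (g : X ⟶ S)
    (h : ∀ (U : S.Opens), IsAffineOpen U → ∀ (J : Type u) [Preorder J] [IsDirectedOrder J] [Nonempty J]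
      (D : Jᵒᵖ ⥤ Scheme.{u}) (t : D ⟶ (Functor.const Jᵒᵖ).obj (U : Scheme.{u})) (c : Cone D),
      IsLimit c → (∀ j, IsAffine (D.obj j)) → ∀ (j₀ : Jᵒᵖ) (a : c.pt ⟶ X),
        a ≫ g = c.π.app j₀ ≫ t.app j₀ ≫ U.ι →
        ∃ (j : Jᵒᵖ) (aj : D.obj j ⟶ X), aj ≫ g = t.app j ≫ U.ι ∧ c.π.app j ≫ aj = a) :
    LocallyOfFinitePresentation g := by
  rw [HasRingHomProperty.iff_appLE (P := @LocallyOfFinitePresentation)]
  intro ⟨U, hU'⟩ ⟨V, hV'⟩ e
  have hU : IsAffineOpen U := hU'
  have hV : IsAffineOpen V := hV'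
  refine finitePresentation_of_hasSections (g.appLE U V e) fun J _ _ _ F τ hc => ?_
  haveI : IsConnected J := IsFiltered.isConnected _
  let c₀ : Cocone (F ⋙ Under.forget _) := (Under.forget _).mapCocone (Cocone.mk _ τ)
  have hc₀ : IsColimit c₀ := isColimitOfPreserves (Under.forget _) hc
  let D : Jᵒᵖ ⥤ Scheme.{u} := (F ⋙ Under.forget _).op ⋙ Scheme.Spec
  let c : Cone D := Scheme.Spec.mapCone c₀.op
  have hcl : IsLimit c := isLimitOfPreserves Scheme.Spec hc₀.op
  let t : D ⟶ (Functor.const Jᵒᵖ).obj (U : Scheme.{u}) :=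
    { app j := Spec.map (F.obj j.unop).hom ≫ hU.isoSpec.inv
      naturality i j φ := by
        have w := Under.w (F.map φ.unop)
        change Spec.map (F.map φ.unop).right ≫ Spec.map (F.obj j.unop).hom ≫ hU.isoSpec.inv =
          (Spec.map (F.obj i.unop).hom ≫ hU.isoSpec.inv) ≫ 𝟙 _
        rw [Category.comp_id, ← Category.assoc, ← Spec.map_comp, w] }
  have : ∀ j, IsAffine (D.obj j) := fun j => by
    change IsAffine (Spec (F.obj j.unop).right); infer_instance
  let j₀ : Jᵒᵖ := op (Classical.arbitrary J)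
  obtain ⟨j, aj, haj, haj'⟩ := h U hU J D t c hcl inferInstance j₀ hV.fromSpec (by
    refine (hU.SpecMap_appLE_fromSpec g hV e).symm.trans ?_
    change _ = Spec.map (τ.app j₀.unop).right ≫ (Spec.map (F.obj j₀.unop).hom ≫ hU.isoSpec.inv) ≫ U.ι
    rw [Category.assoc, IsAffineOpen.isoSpec_inv_ι, ← Category.assoc, ← Spec.map_comp, Under.w (τ.app j₀.unop)]
    rfl)
  have hW : c.π.app j ⁻¹ᵁ (aj ⁻¹ᵁ V) = ⊤ := by
    rw [← Scheme.Hom.comp_preimage, haj']
    exact hV.fromSpec_preimage_self
  obtain ⟨k, φ, hk⟩ := exists_map_eq_top D c hcl (aj ⁻¹ᵁ V) hW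
  have hr : Set.range (D.map φ ≫ aj).base ⊆ Set.range hV.fromSpec.base := by
    rintro _ ⟨x, rfl⟩
    rw [hV.range_fromSpec]
    exact (hk.symm ▸ Set.mem_univ x : x ∈ D.map φ ⁻¹ᵁ (aj ⁻¹ᵁ V))
  let b := IsOpenImmersion.lift hV.fromSpec (D.map φ ≫ aj) hr
  have hb : b ≫ hV.fromSpec = D.map φ ≫ aj := IsOpenImmersion.lift_fac _ _ _
  let s₀ : Γ(X, V) ⟶ (F.obj k.unop).right := Spec.preimage b
  have hs₀ : Spec.map s₀ = b := Spec.map_preimage b
  refine ⟨k.unop, Under.homMk s₀ (Spec.map_injective ((cancel_mono hU.fromSpec).mp ?_)), ?_⟩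
  · change Spec.map (g.appLE U V e ≫ s₀) ≫ hU.fromSpec = Spec.map (F.obj k.unop).hom ≫ hU.fromSpec
    rw [Spec.map_comp, hs₀]
    refine (Category.assoc _ _ _).trans ?_
    refine (congrArg (b ≫ ·) (hU.SpecMap_appLE_fromSpec g hV e)).trans ?_
    refine (Category.assoc _ _ _).symm.trans ?_
    refine (congrArg (· ≫ g) hb).trans ?_
    refine (Category.assoc _ _ _).trans ?_
    refine (congrArg (D.map φ ≫ ·) haj).trans ?_
    refine (Category.assoc _ _ _).symm.trans ?_
    refine (congrArg (· ≫ U.ι) ((t.naturality φ).trans (Category.comp_id _))).trans ?_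
    change (Spec.map (F.obj k.unop).hom ≫ hU.isoSpec.inv) ≫ U.ι = _
    rw [Category.assoc, IsAffineOpen.isoSpec_inv_ι]
  · refine Under.UnderMorphism.ext (Spec.map_injective ((cancel_mono hV.fromSpec).mp ?_))
    change Spec.map (s₀ ≫ (τ.app k.unop).right) ≫ hV.fromSpec = Spec.map (𝟙 _) ≫ hV.fromSpec
    rw [Spec.map_comp, hs₀, Spec.map_id, Category.id_comp]
    refine (Category.assoc _ _ _).trans ?_
    refine (congrArg (Spec.map (τ.app k.unop).right ≫ ·) hb).trans ?_
    refine (Category.assoc _ _ _).symm.trans ?_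
    exact (congrArg (· ≫ aj) (c.w φ)).trans haj'

end Scheme

end Groth.Agent.LimitsH94
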