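import Groth.Agent.DirColim.Basic
import Mathlib.RingTheory.Flat.EquationalCriterion
import Mathlib.RingTheory.IsTensorProduct
import Mathlib.RingTheory.Finiteness.Basic

/-! Projectivity and ideals along a filtered colimit of algebras. -/

set_option autoImplicit false
set_option linter.style.haveILetI false
universe u

namespace Groth.Agent.LimitsH94

open TensorProduct DirColim

variable {R : Type u} [CommRing R] {ι : Type u} {G : ι → Type u} [∀ i, CommRing (G i)]
  [∀ i, Algebra R (G i)] {A : Type u} [CommRing A] [Algebra R A] {g : ∀ i, G i →ₐ[R] A}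

/-- An ideal killed by a map into the colimit is killed at a stage. -/
theorem exists_stage_map_eq_bot (hG : IsColim g) {J : Ideal R} (hJ : J.FG)
    (h : J.map (algebraMap R A) = ⊥) (i : ι) :
    ∃ j, Nonempty (Trans g i j) ∧ J.map (algebraMap R (G j)) = ⊥ := by
  classical
  obtain ⟨s, rfl⟩ := hJ
  obtain ⟨j, φ, hφ⟩ := hG.ker_finset s i (algebraMap R (G i)) fun r hr => by
    rw [AlgHom.commutes]
    exact (Ideal.mem_bot).mp (h ▸ Ideal.mem_map_of_mem _ (Ideal.subset_span hr))
  refine ⟨j, ⟨φ⟩, ?_⟩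
  rw [Ideal.map_span, Ideal.span_eq_bot]
  rintro _ ⟨r, hr, rfl⟩
  rw [← φ.1.commutes]
  exact hφ r hr

/-- An ideal generating the unit ideal in the colimit does so at a stage. -/
theorem exists_stage_map_eq_top (hG : IsColim g) {J : Ideal R} (hJ : J.FG)
    (h : J.map (algebraMap R A) = ⊤) (i : ι) :
    ∃ j, Nonempty (Trans g i j) ∧ J.map (algebraMap R (G j)) = ⊤ := by
  classical
  obtain ⟨s, rfl⟩ := hJ
  have h1 : (1 : A) ∈ Ideal.span (Set.range fun r : s => algebraMap R A r) := by
    have : (1 : A) ∈ (Ideal.span (s : Set R)).map (algebraMap R A) := h ▸ Submodule.mem_top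
    rw [Ideal.map_span] at this
    convert this using 2
    ext
    simp
  obtain ⟨a, ha⟩ := (Ideal.mem_span_range_iff_exists_fun).mp h1
  obtain ⟨k, x, hx⟩ := hG.surj_fintype a
  obtain ⟨l, ⟨φ⟩, ⟨ψ⟩⟩ := hG.directed i k
  obtain ⟨j, χ, hj⟩ := hG.eq_of_apply_eq l (∑ r, ψ.1 (x r) * algebraMap R (G l) r) 1 (by
    rw [map_sum, map_one, ← ha]
    exact Finset.sum_congr rfl fun r _ => by rw [map_mul, ψ.apply, hx, AlgHom.commutes])
  refine ⟨j, ⟨χ.comp φ⟩, (Ideal.eq_top_iff_one _).mpr ?_⟩
  rw [← map_one χ.1, ← hj, map_sum]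
  refine Ideal.sum_mem _ fun r _ => ?_
  rw [map_mul, AlgHom.commutes]
  exact Ideal.mul_mem_left _ _ (Ideal.mem_map_of_mem _ (Ideal.subset_span r.2))

variable (M : Type u) [AddCommGroup M] [Module R M]

/-- The presentation map after extending scalars. -/
noncomputable def pres {n : ℕ} (x : Fin n → M) (C : Type u) [CommRing C] [Algebra R C] :
    (Fin n → C) →ₗ[C] C ⊗[R] M :=
  Fintype.linearCombination C fun l => (1 : C) ⊗ₜ[R] x l

theorem pres_apply {n : ℕ} (x : Fin n → M) (C : Type u) [CommRing C] [Algebra R C] (v : Fin n → C) :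
    pres (R := R) M x C v = ∑ l, v l ⊗ₜ[R] x l := by
  simp [pres, Fintype.linearCombination_apply, TensorProduct.smul_tmul']

theorem pres_map {n : ℕ} (x : Fin n → M) {C C' : Type u} [CommRing C] [Algebra R C] [CommRing C']
    [Algebra R C'] (f : C →ₐ[R] C') (v : Fin n → C) :
    pres (R := R) M x C' (fun l => f (v l)) = f.toLinearMap.rTensor M (pres (R := R) M x C v) := by
  simp [pres_apply]

theorem surjective_pres {n : ℕ} (x : Fin n → M) (hx : Submodule.span R (Set.range x) = ⊤) (C : Type u)
    [CommRing C] [Algebra R C] : Function.Surjective (pres (R := R) M x C) := by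
  rw [← LinearMap.range_eq_top, pres, Fintype.range_linearCombination, eq_top_iff]
  intro z hz
  clear hz
  induction z using TensorProduct.induction_on with
  | zero => exact zero_mem _
  | add a b ha hb => exact add_mem ha hb
  | tmul c m =>
    rw [show c ⊗ₜ[R] m = c • ((1 : C) ⊗ₜ[R] m) by simp [TensorProduct.smul_tmul']]
    refine Submodule.smul_mem _ _ ?_
    have hm : m ∈ Submodule.span R (Set.range x) := hx ▸ Submodule.mem_top
    induction hm using Submodule.span_induction with
    | mem z hz => obtain ⟨l, rfl⟩ := hz; exact Submodule.subset_span ⟨l, rfl⟩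
    | zero => rw [tmul_zero]; exact zero_mem _
    | add a b _ _ ha hb => rw [tmul_add]; exact add_mem ha hb
    | smul r a _ ha =>
      rw [tmul_smul, ← algebraMap_smul C r]
      exact Submodule.smul_mem _ _ ha

/-- A finitely presented module projective over the colimit is projective at a stage. -/
theorem exists_stage_projective (hG : IsColim g) [Module.FinitePresentation R M]
    [Module.Projective A (A ⊗[R] M)] (i : ι) :
    ∃ j, Nonempty (Trans g i j) ∧ Module.Projective (G j) (G j ⊗[R] M) := by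
  classical
  obtain ⟨n, x, hx⟩ := Module.Finite.exists_fin (R := R) (M := M)
  let π : (Fin n → R) →ₗ[R] M := Fintype.linearCombination R x
  have hπ : Function.Surjective π := by
    rw [← LinearMap.range_eq_top, Fintype.range_linearCombination, hx]
  obtain ⟨K, hK⟩ := Module.FinitePresentation.fg_ker π hπ
  obtain ⟨s, hs⟩ := Module.projective_lifting_property (pres (R := R) M x A) LinearMap.id (surjective_pres (R := R) M x hx A)
  let t : Fin n → Fin n → A := fun l => s ((1 : A) ⊗ₜ x l)
  obtain ⟨k, a, ha⟩ := hG.surj_fintype (fun p : Fin n × Fin n => t p.1 p.2)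
  obtain ⟨i₁, ⟨φ₀⟩, ⟨ψ₀⟩⟩ := hG.directed i k
  let θ : ∀ j, Trans g i₁ j → (Fin n → R) →ₗ[R] (Fin n → G j) := fun j χ =>
    Fintype.linearCombination R fun l m => χ.1 (ψ₀.1 (a (l, m)))
  have hθ : ∀ j χ v m, g j (θ j χ v m) = s ((1 : A) ⊗ₜ π v) m := by
    intro j χ v m
    simp only [θ, π, Fintype.linearCombination_apply, Finset.sum_apply, Pi.smul_apply, map_sum,
      map_smul, tmul_sum, χ.apply, ψ₀.apply, ha, t, tmul_smul]
    refine Finset.sum_congr rfl fun l _ => ?_
    rw [← algebraMap_smul A (v l) ((1 : A) ⊗ₜ[R] x l), map_smul, Pi.smul_apply, algebraMap_smul]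
  let hid : Trans g i₁ i₁ := ⟨AlgHom.id R (G i₁), AlgHom.comp_id _⟩
  obtain ⟨i₂, χ₂, hχ₂⟩ := hG.ker_finset (K ×ˢ (Finset.univ : Finset (Fin n))) i₁
    (fun p => θ i₁ hid p.1 p.2) fun p hp => by
      have : π p.1 = 0 := LinearMap.mem_ker.mp (hK ▸ Submodule.subset_span (Finset.mem_product.mp hp).1)
      rw [hθ, this, tmul_zero, map_zero, Pi.zero_apply]
  have hker : LinearMap.ker π ≤ LinearMap.ker (θ i₂ χ₂) := by
    rw [← hK, Submodule.span_le]
    intro v hv
    refine LinearMap.mem_ker.mpr (funext fun m => ?_)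
    have := hχ₂ (v, m) (Finset.mem_product.mpr ⟨hv, Finset.mem_univ m⟩)
    refine Eq.trans ?_ this
    simp [θ, hid, Fintype.linearCombination_apply]
  let T : M →ₗ[R] (Fin n → G i₂) :=
    ((LinearMap.ker π).liftQ (θ i₂ χ₂) hker).comp (π.quotKerEquivOfSurjective hπ).symm.toLinearMap
  have hT : ∀ v, T (π v) = θ i₂ χ₂ v := fun v => by
    simp [T, LinearMap.quotKerEquivOfSurjective_symm_apply]
  let d : Fin n → G i₂ ⊗[R] M := fun l => pres (R := R) M x (G i₂) (T (x l)) - 1 ⊗ₜ x l
  have hd : ∀ l, (g i₂).toLinearMap.lTensor M (TensorProduct.comm R (G i₂) M (d l)) = 0 := by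
    intro l
    rw [LinearMap.lTensor, TensorProduct.map_comm]
    refine (TensorProduct.comm R A M).map_eq_zero_iff.mpr ?_
    show (g i₂).toLinearMap.rTensor M _ = 0
    rw [map_sub, ← pres_map]
    have e : (fun m => g i₂ (T (x l) m)) = s ((1 : A) ⊗ₜ x l) := by
      funext m
      have : x l = π (Pi.single l 1) := by simp [π, Fintype.linearCombination_apply_single]
      rw [this, hT, hθ]
    rw [e, LinearMap.rTensor_tmul, AlgHom.toLinearMap_apply, map_one]
    exact sub_eq_zero.mpr (congr($hs ((1 : A) ⊗ₜ x l)))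
  have key : ∀ l, ∃ j, ∃ ω : Trans g i₂ j, ω.1.toLinearMap.lTensor M (TensorProduct.comm R (G i₂) M (d l)) = 0 :=
    fun l => hG.exists_tensor_eq_zero M i₂ _ (hd l)
  obtain ⟨j, hj⟩ := hG.eventually_forall
    (fun (l : Option (Fin n)) j => ∃ ω : Trans g i₂ j, ∀ l' ∈ l,
      ω.1.toLinearMap.lTensor M (TensorProduct.comm R (G i₂) M (d l')) = 0)
    (fun l j j' ν ⟨ω, hω⟩ => ⟨ν.comp ω, fun l' hl' => by
      rw [show (ν.comp ω).1.toLinearMap = ν.1.toLinearMap.comp ω.1.toLinearMap from rfl,
        LinearMap.lTensor_comp_apply, hω l' hl', map_zero]⟩)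
    Finset.univ (fun l _ => by
      cases l with
      | none => exact ⟨i₂, ⟨AlgHom.id R (G i₂), AlgHom.comp_id _⟩, by simp⟩
      | some l => obtain ⟨j, ω, h⟩ := key l; exact ⟨j, ω, fun l' hl' => by
          rw [Option.mem_some_iff] at hl'; exact hl' ▸ h⟩)
  -- synchronise the transition maps at a common later stage
  choose ω hω using fun l => hj l (Finset.mem_univ l)
  obtain ⟨k', ν, hν⟩ := hG.ker_finset (Finset.univ : Finset (Option (Fin n) × Fin n × Fin n)) j
    (fun p => (ω p.1).1 (T (x p.2.1) p.2.2) - (ω none).1 (T (x p.2.1) p.2.2))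
    fun p _ => by rw [map_sub, (ω p.1).apply, (ω none).apply, sub_self]
  let F : Trans g i₂ k' := ν.comp (ω none)
  refine ⟨k', ⟨F.comp ((χ₂.comp φ₀))⟩, ?_⟩
  let T' : M →ₗ[R] (Fin n → G k') := (LinearMap.pi fun m => F.1.toLinearMap.comp (LinearMap.proj m)).comp T
  have hsec : ∀ m, pres (R := R) M x (G k') (T' m) = 1 ⊗ₜ m := by
    have hl : ∀ l, pres (R := R) M x (G k') (T' (x l)) = 1 ⊗ₜ x l := by
      intro l
      have h0 : (ω (some l)).1.toLinearMap.rTensor M (d l) = 0 := by
        have := hω (some l) l rfl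
        rw [LinearMap.lTensor, TensorProduct.map_comm] at this
        exact (TensorProduct.comm R (G j) M).map_eq_zero_iff.mp this
      have h1 := congrArg (ν.1.toLinearMap.rTensor M) h0
      rw [map_zero, map_sub, map_sub, ← pres_map, ← pres_map, sub_eq_zero] at h1
      simp only [LinearMap.rTensor_tmul, AlgHom.toLinearMap_apply, map_one] at h1
      refine Eq.trans (congrArg (pres (R := R) M x (G k')) (funext fun m => ?_)) h1
      have := hν (some l, l, m) (Finset.mem_univ _)
      rw [map_sub, sub_eq_zero] at this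
      exact this.symm
    intro m
    have hm : m ∈ Submodule.span R (Set.range x) := hx ▸ Submodule.mem_top
    induction hm using Submodule.span_induction with
    | mem z hz => obtain ⟨l, rfl⟩ := hz; exact hl l
    | zero => simp
    | add a b _ _ ha hb => rw [map_add, map_add, ha, hb, tmul_add]
    | smul r a _ ha => rw [map_smul, LinearMap.map_smul_of_tower, ha, tmul_smul]
  refine Module.Projective.of_split (T'.liftBaseChange (G k')) (pres (R := R) M x (G k')) ?_
  ext m
  simp [hsec]

end Groth.Agent.LimitsH94
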