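import Groth.Agent.LimitsH94.LimMod
import Groth.Agent.LimitsH94.LimAlg
import Groth.Agent.FittX.Sheaf

/-! Local freeness along an affine cofiltered limit. -/

set_option autoImplicit false
set_option linter.style.haveILetI false
universe u

namespace Groth.Agent.LimitsH94.LM

open CategoryTheory Limits AlgebraicGeometry TopologicalSpace TensorProduct

section Criterion

theorem exists_mem_affine {X : Scheme.{u}} (x : X) : ∃ U : X.affineOpens, x ∈ U.1 :=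
  Opens.mem_iSup.mp ((iSup_affineOpens_eq_top X).symm ▸ Opens.mem_top x)

variable {X : Scheme.{u}} {M : X.Modules}

theorem isFinLocFree_iff_projective (hfp : CohB1.IsFP M) {κ : Type*} (U : κ → X.Opens)
    (haff : ∀ k, IsAffineOpen (U k)) (hU : ∀ x : X, ∃ k, x ∈ U k) :
    FlatMod.IsFinLocFree M ↔ ∀ k, Module.Projective Γ(X, U k) Γ(M, U k) := by
  have hM := QCoh.isQCoh_of_isFP hfp
  rw [← QCoh.isFlat_and_isFP_iff]
  constructor
  · intro h k
    haveI := QCoh.finitePresentation_of_isFP hfp (haff k)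
    haveI := (QCoh.flat_sections_iff hM (haff k)).2 fun x _ => h.1 x
    exact Module.Flat.projective_of_finitePresentation
  · intro h
    refine ⟨fun x => ?_, hfp⟩
    obtain ⟨k, hk⟩ := hU x
    haveI := h k
    exact (QCoh.flat_sections_iff hM (haff k)).1 inferInstance x hk

variable {Y : Scheme.{u}} (φ : Y ⟶ X) [IsAffineHom φ]

theorem exists_equiv_pullback (hM : Coh.IsQCoh M) {U : X.Opens} (hU : IsAffineOpen U) :
    letI := (φ.app U).hom.toAlgebra
    Nonempty (Γ(Y, φ ⁻¹ᵁ U) ⊗[Γ(X, U)] Γ(M, U) ≃ₗ[Γ(Y, φ ⁻¹ᵁ U)]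
      Γ((Scheme.Modules.pullback φ).obj M, φ ⁻¹ᵁ U)) := by
  letI := (φ.app U).hom.toAlgebra
  let N := (Scheme.Modules.pullback φ).obj M
  letI : Module Γ(X, U) Γ(N, φ ⁻¹ᵁ U) := Module.compHom _ (φ.app U).hom
  haveI : IsScalarTower Γ(X, U) Γ(Y, φ ⁻¹ᵁ U) Γ(N, φ ⁻¹ᵁ U) :=
    IsScalarTower.of_algebraMap_smul fun _ _ => rfl
  let l : Γ(M, U) →ₗ[Γ(X, U)] Γ(N, φ ⁻¹ᵁ U) :=
    { toFun := QCoh.pullSec φ M le_rfl
      map_add' := QCoh.pullSec_add φ M le_rfl
      map_smul' := fun r x => (QCoh.pullSec_smul φ M le_rfl r x).trans (by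
        rw [Scheme.Hom.appLE_eq_app]; rfl) }
  exact ⟨(QCoh.isBaseChange_pullback hU φ (hU.preimage φ) hM le_rfl
    (fun r => by rw [Scheme.Hom.appLE_eq_app]; rfl) l fun _ => rfl).equiv⟩

theorem projective_pullback_iff (hM : Coh.IsQCoh M) {U : X.Opens} (hU : IsAffineOpen U) :
    letI := (φ.app U).hom.toAlgebra
    Module.Projective Γ(Y, φ ⁻¹ᵁ U) Γ((Scheme.Modules.pullback φ).obj M, φ ⁻¹ᵁ U) ↔
      Module.Projective Γ(Y, φ ⁻¹ᵁ U) (Γ(Y, φ ⁻¹ᵁ U) ⊗[Γ(X, U)] Γ(M, U)) := by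
  letI := (φ.app U).hom.toAlgebra
  obtain ⟨e⟩ := exists_equiv_pullback φ hM hU
  exact ⟨fun h => Module.Projective.of_equiv e.symm, fun h => Module.Projective.of_equiv e⟩

theorem isFinLocFree_pullback (h : FlatMod.IsFinLocFree M) :
    FlatMod.IsFinLocFree ((Scheme.Modules.pullback φ).obj M) := by
  have hfp := QCoh.isFP_of_isFinLocFree h
  have hM := QCoh.isQCoh_of_isFP hfp
  have hP := (isFinLocFree_iff_projective hfp (fun U : X.affineOpens => U.1) (fun U => U.2) exists_mem_affine).1 h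
  refine (isFinLocFree_iff_projective (isFP_pullback φ hfp) (fun U : X.affineOpens => φ ⁻¹ᵁ U.1)
    (fun U => U.2.preimage φ) (fun y => exists_mem_affine (φ y))).2 fun U => (projective_pullback_iff φ hM U.2).2 ?_
  letI := (φ.app U.1).hom.toAlgebra
  haveI : Module.Projective Γ(X, U.1) Γ(M, U.1) := hP U
  exact Module.Projective.tensorProduct

theorem fitt_pullback (hM : Coh.IsQCoh M) (hMt : CohB1.IsFT M) {U : X.Opens} (hU : IsAffineOpen U) (k : ℕ) :
    Fitt.ideal Γ(Y, φ ⁻¹ᵁ U) Γ((Scheme.Modules.pullback φ).obj M, φ ⁻¹ᵁ U) k =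
      (Fitt.ideal Γ(X, U) Γ(M, U) k).map (φ.app U).hom := by
  haveI := QCoh.finite_of_isFT hM hMt hU
  letI := (φ.app U).hom.toAlgebra
  let N := (Scheme.Modules.pullback φ).obj M
  letI : Module Γ(X, U) Γ(N, φ ⁻¹ᵁ U) := Module.compHom _ (φ.app U).hom
  haveI : IsScalarTower Γ(X, U) Γ(Y, φ ⁻¹ᵁ U) Γ(N, φ ⁻¹ᵁ U) :=
    IsScalarTower.of_algebraMap_smul fun _ _ => rfl
  let l : Γ(M, U) →ₗ[Γ(X, U)] Γ(N, φ ⁻¹ᵁ U) :=
    { toFun := QCoh.pullSec φ M le_rfl
      map_add' := QCoh.pullSec_add φ M le_rfl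
      map_smul' := fun r x => (QCoh.pullSec_smul φ M le_rfl r x).trans (by
        rw [Scheme.Hom.appLE_eq_app]; rfl) }
  exact FittX.ideal_baseChange (QCoh.isBaseChange_pullback hU φ (hU.preimage φ) hM le_rfl
    (fun r => by rw [Scheme.Hom.appLE_eq_app]; rfl) l fun _ => rfl) k

/-- Rank in terms of the Fitting ideals on an affine cover. -/
theorem isFinLocFreeOfRank_iff_fitt (hM : Coh.IsQCoh M) (hMt : CohB1.IsFT M) (r : ℕ) {κ : Type*}
    (U : κ → X.Opens) (haff : ∀ k, IsAffineOpen (U k)) (hU : ∀ x : X, ∃ k, x ∈ U k) :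
    FlatMod.IsFinLocFreeOfRank r M ↔
      ∀ k, (∀ l, l < r → Fitt.ideal Γ(X, U k) Γ(M, U k) l = ⊥) ∧
        Fitt.ideal Γ(X, U k) Γ(M, U k) r = ⊤ := by
  rw [FittX.isFinLocFreeOfRank_iff hM hMt]
  constructor
  · intro h k
    have e : ∀ l, (Fitt.sheafIdeal M l).ideal ⟨U k, haff k⟩ = Fitt.ideal Γ(X, U k) Γ(M, U k) l :=
      fun l => FittX.sheafIdeal_ideal hM hMt l ⟨U k, haff k⟩
    exact ⟨fun l hl => by rw [← e, h.1 l hl, Scheme.IdealSheafData.ideal_bot]; rfl,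
      by rw [← e, h.2 r le_rfl, Scheme.IdealSheafData.ideal_top]; rfl⟩
  · intro h
    refine ⟨fun l hl => FittX.eq_of_cover fun x => ?_, fun l hl => FittX.eq_of_cover fun x => ?_⟩ <;>
      obtain ⟨k, hk⟩ := hU x
    · exact ⟨⟨U k, haff k⟩, hk, by
        rw [FittX.sheafIdeal_ideal hM hMt, (h k).1 l hl, Scheme.IdealSheafData.ideal_bot]; rfl⟩
    · haveI := QCoh.finite_of_isFT hM hMt (haff k)
      exact ⟨⟨U k, haff k⟩, hk, (FittX.sheafIdeal_ideal hM hMt l ⟨U k, haff k⟩).trans ((top_le_iff.mp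
        ((h k).2.ge.trans (FittX.ideal_mono (R := Γ(X, U k)) (M := Γ(M, U k)) hl))).trans (by
          rw [Scheme.IdealSheafData.ideal_top]; rfl))⟩

theorem isFinLocFree_of_iso {N : X.Modules} (e : M ≅ N) (h : FlatMod.IsFinLocFree M) :
    FlatMod.IsFinLocFree N := fun x =>
  let ⟨U, n, hx, ⟨a⟩⟩ := h x
  ⟨U, n, hx, ⟨((Scheme.Modules.restrictFunctor U.ι).mapIso e).symm ≪≫ a⟩⟩

theorem isFinLocFreeOfRank_of_iso {N : X.Modules} (e : M ≅ N) (n : ℕ)
    (h : FlatMod.IsFinLocFreeOfRank n M) : FlatMod.IsFinLocFreeOfRank n N := fun x =>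
  let ⟨U, hx, ⟨a⟩⟩ := h x
  ⟨U, hx, ⟨((Scheme.Modules.restrictFunctor U.ι).mapIso e).symm ≪≫ a⟩⟩

end Criterion

variable {I : Type u} [SmallCategory I] [IsCofiltered I] {D : I ⥤ Scheme.{u}} {c : Cone D}
  [∀ (a b : I) (f : a ⟶ b), IsAffineHom (D.map f)] {i : I}

omit [IsCofiltered I] [∀ (a b : I) (f : a ⟶ b), IsAffineHom (D.map f)] in
theorem exists_affine_cover_obj [CompactSpace (D.obj i)] :
    ∃ (κ : Type u) (_ : Fintype κ) (U : κ → (D.obj i).Opens),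
      (∀ k, IsAffineOpen (U k)) ∧ ∀ x, ∃ k, x ∈ U k := by
  obtain ⟨S, hS⟩ := isCompact_univ.elim_finite_subcover (fun U : (D.obj i).affineOpens => (U.1 : Set (D.obj i)))
    (fun U => U.1.2) (fun x _ => by
      obtain ⟨_, ⟨U, hU, rfl⟩, hx, -⟩ := (D.obj i).isBasis_affineOpens.exists_subset_of_mem_open
        (Set.mem_univ x) isOpen_univ
      exact Set.mem_iUnion.mpr ⟨⟨U, hU⟩, hx⟩)
  exact ⟨S, inferInstance, fun U => U.1.1, fun U => U.1.2, fun x => by
    obtain ⟨U, hU, hx⟩ := Set.mem_iUnion₂.mp (hS (Set.mem_univ x))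
    exact ⟨⟨U, hU⟩, hx⟩⟩

theorem exists_stage_isFinLocFree (hc : IsLimit c) [CompactSpace (D.obj i)] {A : (D.obj i).Modules}
    (hA : Coh.IsQCoh A) (hAp : CohB1.IsFP A)
    (h : FlatMod.IsFinLocFree ((Scheme.Modules.pullback (c.π.app i)).obj A)) :
    ∃ (j : I) (φ : j ⟶ i), FlatMod.IsFinLocFree ((Scheme.Modules.pullback (D.map φ)).obj A) := by
  haveI : IsAffineHom (c.π.app i) := isAffineHom_π_app D c hc i
  obtain ⟨κ, _, U, hU, hcov⟩ := exists_affine_cover_obj (D := D) (i := i)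
  have hP := (isFinLocFree_iff_projective (isFP_pullback (c.π.app i) hAp)
    (fun k => c.π.app i ⁻¹ᵁ U k) (fun k => (hU k).preimage _) (fun x => hcov _)).1 h
  have key : ∀ k, ∃ j : Over i, ∀ j' : Over i, ∀ (_ : j' ⟶ j),
      Module.Projective (Sec (U k) j') (Sec (U k) j' ⊗[Γ(D.obj i, U k)] Γ(A, U k)) := fun k => by
    haveI := QCoh.finitePresentation_of_isFP hAp (hU k)
    haveI : Module.Projective (SecLim c (U k)) (SecLim c (U k) ⊗[Γ(D.obj i, U k)] Γ(A, U k)) :=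
      (projective_pullback_iff (c.π.app i) hA (hU k)).1 (hP k)
    obtain ⟨j, -, hj⟩ := exists_stage_projective Γ(A, U k) (isColim hc (hU k)) (Over.mk (𝟙 i))
    refine ⟨j, fun j' f => ?_⟩
    letI : Algebra (Sec (U k) j) (Sec (U k) j') := (tr c (U k) f).1.toRingHom.toAlgebra
    haveI : IsScalarTower Γ(D.obj i, U k) (Sec (U k) j) (Sec (U k) j') :=
      IsScalarTower.of_algebraMap_eq fun r => ((tr c (U k) f).1.commutes r).symm
    exact Module.Projective.of_equiv (AlgebraTensorModule.cancelBaseChange Γ(D.obj i, U k) (Sec (U k) j)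
      (Sec (U k) j') (Sec (U k) j') Γ(A, U k))
  choose j hj using key
  obtain ⟨l, hl⟩ := exists_le_all Finset.univ j
  refine ⟨l.left, l.hom, (isFinLocFree_iff_projective (isFP_pullback (D.map l.hom) hAp)
    (fun k => D.map l.hom ⁻¹ᵁ U k) (fun k => (hU k).preimage _) (fun x => hcov _)).2 fun k => ?_⟩
  exact (projective_pullback_iff (D.map l.hom) hA (hU k)).2 (hj k l (hl k (Finset.mem_univ k)).some)

theorem exists_stage_isFinLocFreeOfRank (hc : IsLimit c) [CompactSpace (D.obj i)] {A : (D.obj i).Modules}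
    (hA : Coh.IsQCoh A) (hAp : CohB1.IsFP A) (n : ℕ)
    (h : FlatMod.IsFinLocFreeOfRank n ((Scheme.Modules.pullback (c.π.app i)).obj A)) :
    ∃ (j : I) (φ : j ⟶ i), FlatMod.IsFinLocFreeOfRank n ((Scheme.Modules.pullback (D.map φ)).obj A) := by
  classical
  haveI : IsAffineHom (c.π.app i) := isAffineHom_π_app D c hc i
  have hAt := QCoh.isFT_of_isFP hAp
  obtain ⟨κ, _, U, hU, hcov⟩ := exists_affine_cover_obj (D := D) (i := i)
  have hF := (isFinLocFreeOfRank_iff_fitt (QCoh.isQCoh_pullback _ hA) (isFT_pullback (c.π.app i) hA hAt) n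
    (fun k => c.π.app i ⁻¹ᵁ U k) (fun k => (hU k).preimage _) (fun x => hcov _)).1 h
  have mono : ∀ k (J : Ideal Γ(D.obj i, U k)) (j j' : Over i) (_ : j' ⟶ j),
      (J.map (algebraMap _ (Sec (U k) j)) = ⊥ → J.map (algebraMap _ (Sec (U k) j')) = ⊥) ∧
      (J.map (algebraMap _ (Sec (U k) j)) = ⊤ → J.map (algebraMap _ (Sec (U k) j')) = ⊤) := by
    intro k J j j' f
    have e : J.map (algebraMap _ (Sec (U k) j')) =
        (J.map (algebraMap _ (Sec (U k) j))).map (tr c (U k) f).1.toRingHom := by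
      rw [Ideal.map_map]
      exact congrArg (J.map ·) (tr c (U k) f).1.comp_algebraMap.symm
    exact ⟨fun h => by rw [e, h, Ideal.map_bot], fun h => by rw [e, h, Ideal.map_top]⟩
  have key : ∀ (p : κ × Fin (n + 1)), ∃ j : Over i, ∀ j' : Over i, ∀ (_ : j' ⟶ j),
      ((p.2 : ℕ) < n → (Fitt.ideal Γ(D.obj i, U p.1) Γ(A, U p.1) p.2).map (algebraMap _ (Sec (U p.1) j')) = ⊥) ∧
      ((p.2 : ℕ) = n → (Fitt.ideal Γ(D.obj i, U p.1) Γ(A, U p.1) p.2).map (algebraMap _ (Sec (U p.1) j')) = ⊤) := by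
    rintro ⟨k, l⟩
    haveI := QCoh.finitePresentation_of_isFP hAp (hU k)
    rcases lt_or_eq_of_le (Nat.lt_succ_iff.mp l.2) with hl | hl
    · obtain ⟨j, -, hj⟩ := exists_stage_map_eq_bot (isColim hc (hU k)) (FittX.ideal_fg _)
        (by rw [← (hF k).1 l hl, fitt_pullback (c.π.app i) hA hAt (hU k)]; rfl) (Over.mk (𝟙 i))
      exact ⟨j, fun j' f => ⟨fun _ => (mono k _ j j' f).1 hj, fun e => absurd e (ne_of_lt hl)⟩⟩
    · obtain ⟨j, -, hj⟩ := exists_stage_map_eq_top (isColim hc (hU k)) (FittX.ideal_fg _)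
        (show (Fitt.ideal Γ(D.obj i, U k) Γ(A, U k) l).map (algebraMap _ (SecLim c (U k))) = ⊤ by
          rw [← (hF k).2, fitt_pullback (c.π.app i) hA hAt (hU k), hl]; rfl) (Over.mk (𝟙 i))
      exact ⟨j, fun j' f => ⟨fun e => absurd hl (ne_of_lt e), fun _ => (mono k _ j j' f).2 hj⟩⟩
  choose j hj using key
  obtain ⟨l, hl⟩ := exists_le_all Finset.univ j
  refine ⟨l.left, l.hom, (isFinLocFreeOfRank_iff_fitt (QCoh.isQCoh_pullback _ hA) (isFT_pullback (D.map l.hom) hA hAt) n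
    (fun k => D.map l.hom ⁻¹ᵁ U k) (fun k => (hU k).preimage _) (fun x => hcov _)).2 fun k => ⟨fun m hm => ?_, ?_⟩⟩
  · rw [fitt_pullback (D.map l.hom) hA hAt (hU k)]
    exact (hj (k, ⟨m, by omega⟩) l (hl _ (Finset.mem_univ _)).some).1 hm
  · rw [fitt_pullback (D.map l.hom) hA hAt (hU k)]
    exact (hj (k, ⟨n, by omega⟩) l (hl _ (Finset.mem_univ _)).some).2 rfl

theorem isFinLocFreeOfRank_pullback {X Y : Scheme.{u}} (φ : Y ⟶ X) [IsAffineHom φ] {M : X.Modules}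
    (hM : Coh.IsQCoh M) (hMt : CohB1.IsFT M) (n : ℕ) (h : FlatMod.IsFinLocFreeOfRank n M) :
    FlatMod.IsFinLocFreeOfRank n ((Scheme.Modules.pullback φ).obj M) := by
  have hc : ∀ x : X, ∃ U : X.affineOpens, x ∈ U.1 := exists_mem_affine
  have hF := (isFinLocFreeOfRank_iff_fitt hM hMt n (fun U : X.affineOpens => U.1) (fun U => U.2) hc).1 h
  refine (isFinLocFreeOfRank_iff_fitt (QCoh.isQCoh_pullback _ hM) (isFT_pullback φ hM hMt) n
    (fun U : X.affineOpens => φ ⁻¹ᵁ U.1) (fun U => U.2.preimage φ) (fun y => hc (φ y))).2 fun U => ⟨fun m hm => ?_, ?_⟩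
  · rw [fitt_pullback φ hM hMt U.2, (hF U).1 m hm, Ideal.map_bot]
  · rw [fitt_pullback φ hM hMt U.2, (hF U).2, Ideal.map_top]

end Groth.Agent.LimitsH94.LM
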