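import Groth.Agent.LimitsH94.LimHom
import Groth.Agent.AmpleX.Basis
import Groth.Agent.AmpleX.Pow
import Groth.Agent.InvX.GenLocusPull
import Groth.Agent.H23.PicMul
import Groth.Agent.PicClLib.Basic
import Groth.Agent.H23.PullPush

/-! Ampleness descends along limits with affine transition maps. -/

set_option autoImplicit false
set_option backward.isDefEq.respectTransparency false
set_option backward.isDefEq.respectTransparency.types false
set_option linter.style.haveILetI false
universe u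

open CategoryTheory Limits AlgebraicGeometry TopologicalSpace
open scoped Groth.Agent.H23.PicMul

namespace Groth.Agent.LimitsH94.LimAmple

variable {X Y : Scheme.{u}}

/-- The pullback of the structure module is the structure module. -/
noncomputable def unitIso (g : Y ⟶ X) :
    (Scheme.Modules.pullback g).obj (Coh.structureModule X) ≅ Coh.structureModule Y :=
  (PicClLib.nonempty_pullback_structureModule g).some

theorem isQCoh_of_isInvertible {M : X.Modules} (hM : PicF.IsInvertible M) : Coh.IsQCoh M :=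
  QCoh.isQCoh_of_isFP (QCoh.isFP_of_isFinLocFree (H23.PullPush.isFinLocFree_of_isInvertible hM))

theorem isCompact_genLocus [CompactSpace X] {M : X.Modules} (hM : PicF.IsInvertible M)
    (s : Coh.structureModule X ⟶ M) : IsCompact (CohB1.genLocus M s : Set X) := by
  obtain ⟨S, -, hS⟩ := LimHom.exists_affine_finset (X := X) (O := ⊤) isCompact_univ
  have : (CohB1.genLocus M s : Set X) = ⋃ U ∈ S, ((U.1 ⊓ CohB1.genLocus M s : X.Opens) : Set X) := by
    ext x
    simp only [Set.mem_iUnion, Opens.coe_inf, Set.mem_inter_iff]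
    exact ⟨fun h => (hS x trivial).elim fun U hU => ⟨U, hU.1, hU.2, h⟩, fun ⟨U, _, _, h⟩ => h⟩
  rw [this]
  exact S.finite_toSet.isCompact_biUnion fun U _ => (AmpleX.isAffineOpen_inf_genLocus hM U.2 s).isCompact

theorem exists_pulled_section (u : Y ⟶ X) {M : X.Modules} (hM : PicF.IsInvertible M)
    (s : Coh.structureModule X ⟶ M) :
    ∃ t : Coh.structureModule Y ⟶ (Scheme.Modules.pullback u).obj M,
      CohB1.genLocus _ t = u ⁻¹ᵁ CohB1.genLocus M s :=
  ⟨(unitIso u).inv ≫ (Scheme.Modules.pullback u).map s,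
    InvX.genLocus_pullback u hM s (unitIso u).symm⟩

variable {I : Type u} [SmallCategory I] [IsCofiltered I] {D : I ⥤ Scheme.{u}} {c : Cone D}
  [∀ (a b : I) (f : a ⟶ b), IsAffineHom (D.map f)]

/-- Sections on the limit of an invertible module come from a stage, with their generating loci. -/
theorem exists_stage_section (hc : IsLimit c) {i : I} [CompactSpace (D.obj i)] [QuasiSeparatedSpace (D.obj i)]
    {G : (D.obj i).Modules} (hG : PicF.IsInvertible G)
    (t : Coh.structureModule c.pt ⟶ (Scheme.Modules.pullback (c.π.app i)).obj G) :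
    ∃ (j : I) (φ : j ⟶ i) (s : Coh.structureModule (D.obj j) ⟶ (Scheme.Modules.pullback (D.map φ)).obj G),
      c.π.app j ⁻¹ᵁ CohB1.genLocus _ s = CohB1.genLocus _ t := by
  have hO : CohB1.IsFP (Coh.structureModule (D.obj i)) :=
    QCoh.isFP_of_isFinLocFree (H23.PullPush.isFinLocFree_of_isInvertible InvX.isInvertible_structureModule)
  let ρ := unitIso (c.π.app i)
  obtain ⟨j, φ, hj, hh⟩ := LimHom.exists_stage_hom (isQCoh_of_isInvertible hG) hc (QCoh.isQCoh_of_isFP hO) hO
    (ρ.hom ≫ t)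
  let ρj := unitIso (D.map φ)
  let s := ρj.inv ≫ hj
  let e' : Coh.structureModule c.pt ≅ (Scheme.Modules.pullback (c.π.app j)).obj (Coh.structureModule (D.obj j)) :=
    ρ.symm ≪≫ (LM.limIso c φ).symm.app _ ≪≫ (Scheme.Modules.pullback (c.π.app j)).mapIso ρj
  have hs : t = (e'.hom ≫ (Scheme.Modules.pullback (c.π.app j)).map s) ≫ ((LM.limIso c φ).app G).hom := by
    rw [← ρ.inv_hom_id_assoc t, ← hh]
    simp [e', s, ← Functor.map_comp_assoc]
  refine ⟨j, φ, s, ?_⟩
  rw [hs, InvX.genLocus_comp_iso, InvX.genLocus_pullback _ (PicClLib.isInvertible_pullback _ hG) s e']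

/-- A finite family of arrows to one object can be equalised. -/
theorem exists_common {i : I} {α : Type*} [Finite α] (k : α → Over i) :
    ∃ (l : Over i), ∀ a, Nonempty (l ⟶ k a) := by
  classical
  haveI : Nonempty (Over i) := ⟨Over.mk (𝟙 i)⟩
  cases nonempty_fintype α
  obtain ⟨l, hl⟩ := IsCofiltered.inf_objs_exists (Finset.univ.image k)
  exact ⟨l, fun a => hl (Finset.mem_image_of_mem k (Finset.mem_univ a))⟩

omit [IsCofiltered I] [∀ (a b : I) (f : a ⟶ b), IsAffineHom (D.map f)] in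
/-- Preimages of opens of stages in the limit. -/
theorem preimage_π {i : I} {j k : Over i} (f : k ⟶ j) (V : (D.obj j.left).Opens) :
    c.π.app k.left ⁻¹ᵁ (D.map f.left ⁻¹ᵁ V) = c.π.app j.left ⁻¹ᵁ V := by
  rw [← Scheme.Hom.comp_preimage, c.w]

variable [∀ a, CompactSpace (D.obj a)] [∀ a, QuasiSeparatedSpace (D.obj a)]

omit [∀ a, CompactSpace (D.obj a)] in
/-- An open of a stage whose preimage in the limit is affine becomes affine at a later stage. -/
theorem exists_stage_isAffineOpen (hc : IsLimit c) {i : I} (U : (D.obj i).Opens)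
    (hU : IsCompact (U : Set (D.obj i))) (h : IsAffineOpen (c.π.app i ⁻¹ᵁ U)) :
    ∃ (j : I) (φ : j ⟶ i), IsAffineOpen (D.map φ ⁻¹ᵁ U) := by
  have (j : Over i) : CompactSpace ((opensDiagram D i U).obj j) :=
    isCompact_iff_compactSpace.mp (QuasiCompact.isCompact_preimage _ U.2 hU)
  have (j : Over i) : QuasiSeparatedSpace ((opensDiagram D i U).obj j) :=
    (isQuasiSeparated_iff_quasiSeparatedSpace _ (D.map _ ⁻¹ᵁ _).2).mp (.of_quasiSeparatedSpace _)
  have : IsAffine (opensCone D c i U).pt := h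
  obtain ⟨j, hj⟩ := Scheme.exists_isAffine_of_isLimit _ _ (isLimitOpensCone D c hc i U)
  exact ⟨j.left, j.hom, hj⟩

/-- Ampleness of the pullback to the limit comes from a stage. -/
theorem exists_stage_isAmple (hc : IsLimit c) {i : I} {L : (D.obj i).Modules} (hL : PicF.IsInvertible L)
    (h : CohB1.IsAmple ((Scheme.Modules.pullback (c.π.app i)).obj L)) :
    ∃ (j : I) (φ : j ⟶ i), CohB1.IsAmple ((Scheme.Modules.pullback (D.map φ)).obj L) := by
  classical
  haveI := isAffineHom_π_app D c hc i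
  haveI : CompactSpace c.pt := QuasiCompact.compactSpace_of_compactSpace (c.π.app i)
  obtain ⟨-, -, hx⟩ := AmpleX.isAmple_iff.1 h
  choose m hm s hxs hs using hx
  obtain ⟨S, hS⟩ := isCompact_univ.elim_finite_subcover
    (fun x : c.pt => ((CohB1.genLocus _ (s x) : c.pt.Opens) : Set c.pt)) (fun x => (CohB1.genLocus _ (s x)).2)
    fun x _ => Set.mem_iUnion.2 ⟨x, hxs x⟩
  -- lift the sections
  have h1 : ∀ a : S, ∃ (k : Over i) (t : Coh.structureModule (D.obj k.left) ⟶
      (Scheme.Modules.pullback (D.map k.hom)).obj (CohB1.tensorPow L (m a.1))),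
      c.π.app k.left ⁻¹ᵁ CohB1.genLocus _ t = CohB1.genLocus _ (s a.1) := by
    intro a
    obtain ⟨e⟩ : Nonempty ((Scheme.Modules.pullback (c.π.app i)).obj (CohB1.tensorPow L (m a.1)) ≅
        CohB1.tensorPow ((Scheme.Modules.pullback (c.π.app i)).obj L) (m a.1)) := H23.PicMul.cl_eq_iff.1 (by
      show PicF.pullCl (c.π.app i) (PicF.cl (CohB1.tensorPow L (m a.1))) = _
      rw [H23.PicMul.cl_tensorPow, H23.PicMul.pullCl_pow, H23.PicMul.cl_tensorPow]
      rfl)
    obtain ⟨j, φ, t, ht⟩ := exists_stage_section hc (InvX.isInvertible_tensorPow hL (m a.1)) (s a.1 ≫ e.inv)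
    exact ⟨Over.mk φ, t, ht.trans (InvX.genLocus_comp_iso (s a.1) e.symm)⟩
  choose k t ht using h1
  -- make the loci affine
  have h2 : ∀ a : S, ∃ (l : Over i) (f : l ⟶ k a), IsAffineOpen (D.map f.left ⁻¹ᵁ CohB1.genLocus _ (t a)) := by
    intro a
    obtain ⟨j, ψ, hj⟩ := exists_stage_isAffineOpen hc (CohB1.genLocus _ (t a))
      (isCompact_genLocus (PicClLib.isInvertible_pullback _ (InvX.isInvertible_tensorPow hL _)) (t a))
      ((ht a).symm ▸ hs a.1)
    exact ⟨Over.mk (ψ ≫ (k a).hom), Over.homMk ψ rfl, hj⟩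
  choose l f hf using h2
  obtain ⟨p, hp⟩ := exists_common l
  let g : ∀ a : S, p ⟶ k a := fun a => (hp a).some ≫ f a
  have haff : ∀ a : S, IsAffineOpen (D.map (g a).left ⁻¹ᵁ CohB1.genLocus _ (t a)) := by
    intro a
    rw [Over.comp_left, D.map_comp, Scheme.Hom.comp_preimage]
    exact (hf a).preimage _
  -- make them cover
  let V : (D.obj p.left).Opens := ⨆ a : S, D.map (g a).left ⁻¹ᵁ CohB1.genLocus _ (t a)
  have hV : c.π.app p.left ⁻¹ᵁ V = ⊤ := by
    refine top_le_iff.1 fun x _ => ?_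
    obtain ⟨a, ha, hxa⟩ := Set.mem_iUnion₂.1 (hS (Set.mem_univ x))
    rw [Scheme.Hom.preimage_iSup]
    refine Opens.mem_iSup.2 ⟨⟨a, ha⟩, ?_⟩
    rw [preimage_π, ht]
    exact hxa
  obtain ⟨q, ψ, hq⟩ := exists_map_eq_top D c hc V hV
  refine ⟨q, ψ ≫ p.hom, AmpleX.isAmple_iff.2 ⟨PicClLib.isInvertible_pullback _ hL, inferInstance, fun x => ?_⟩⟩
  obtain ⟨a, hxa⟩ := Opens.mem_iSup.1 (hq.ge (show x ∈ ⊤ from trivial) :)
  have hw : D.map (ψ ≫ p.hom) = D.map (ψ ≫ (g a).left) ≫ D.map (k a).hom := by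
    rw [← D.map_comp, Category.assoc, Over.w]
  obtain ⟨t', ht'⟩ := exists_pulled_section (D.map (ψ ≫ (g a).left))
    (PicClLib.isInvertible_pullback _ (InvX.isInvertible_tensorPow hL _)) (t a)
  obtain ⟨u, hu⟩ := AmpleX.exists_section_of_cl_eq
    (B := CohB1.tensorPow ((Scheme.Modules.pullback (D.map (ψ ≫ p.hom))).obj L) (m a.1))
    (by
      show PicF.pullCl (D.map (ψ ≫ (g a).left)) (PicF.pullCl (D.map (k a).hom) (PicF.cl (CohB1.tensorPow L (m a.1)))) = _
      rw [PicClLib.pullCl_comp, ← hw, H23.PicMul.cl_tensorPow, H23.PicMul.pullCl_pow, H23.PicMul.cl_tensorPow]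
      rfl) t'
  have hpre : D.map (ψ ≫ (g a).left) ⁻¹ᵁ CohB1.genLocus _ (t a) =
      D.map ψ ⁻¹ᵁ (D.map (g a).left ⁻¹ᵁ CohB1.genLocus _ (t a)) := by
    rw [← Scheme.Hom.comp_preimage, ← D.map_comp]
  refine ⟨m a.1, hm a.1, u, ?_, ?_⟩
  · rw [hu, ht', hpre]; exact hxa
  · rw [hu, ht', hpre]; exact (haff a).preimage _

end Groth.Agent.LimitsH94.LimAmple
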