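import Groth.Agent.ArtFunLib.FamilyHom
import Groth.Agent.FormalSch78.QCohRes
import Groth.Agent.DirColim.Basic
import Mathlib.Algebra.Module.FinitePresentation

/-! Gluing morphisms of quasi-coherent modules from linear maps on an affine cover, and lifting linear maps
out of finitely presented modules along directed colimits of algebras. -/

set_option autoImplicit false
set_option backward.isDefEq.respectTransparency false
set_option linter.style.haveILetI false
universe u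

open CategoryTheory AlgebraicGeometry Opposite TopologicalSpace

namespace Groth.Agent.LimitsH94.GlueHom

open ArtFunLib.FamilyHom (map_map)

variable {X : Scheme.{u}} {M N : X.Modules}

/-- `l` extends `θ` along a restriction. -/
def Ext {U W : X.Opens} (h : W ≤ U) (θ : Γ(M, U) → Γ(N, U)) (l : Γ(M, W) → Γ(N, W)) : Prop :=
  ∀ s, l (M.presheaf.map (homOfLE h).op s) = N.presheaf.map (homOfLE h).op (θ s)

theorem exists_ext (hM : Coh.IsQCoh M) {U W : X.Opens} (hU : IsAffineOpen U) (hW : IsAffineOpen W) (h : W ≤ U)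
    (θ : Γ(M, U) →ₗ[Γ(X, U)] Γ(N, U)) :
    ∃ l : Γ(M, W) →ₗ[Γ(X, W)] Γ(N, W), Ext h θ l := by
  letI := (X.presheaf.map (homOfLE h).op).hom.toAlgebra
  letI : Module Γ(X, U) Γ(M, W) := Module.compHom _ (X.presheaf.map (homOfLE h).op).hom
  letI : Module Γ(X, U) Γ(N, W) := Module.compHom _ (X.presheaf.map (homOfLE h).op).hom
  haveI : IsScalarTower Γ(X, U) Γ(X, W) Γ(M, W) := IsScalarTower.of_algebraMap_smul fun _ _ => rfl
  haveI : IsScalarTower Γ(X, U) Γ(X, W) Γ(N, W) := IsScalarTower.of_algebraMap_smul fun _ _ => rfl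
  let r : Γ(M, U) →ₗ[Γ(X, U)] Γ(M, W) :=
    { toFun := M.presheaf.map (homOfLE h).op
      map_add' := map_add _
      map_smul' := fun a x => Scheme.Modules.map_smul M _ a x }
  let r' : Γ(M, U) →ₗ[Γ(X, U)] Γ(N, W) :=
    { toFun := fun s => N.presheaf.map (homOfLE h).op (θ s)
      map_add' := fun x y => by rw [map_add, map_add]
      map_smul' := fun a x => by
        rw [map_smul]
        exact Scheme.Modules.map_smul N _ a _ }
  have hr := FormalSch78.isBaseChange_res hM hU hW h (fun _ => rfl) r fun _ => rfl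
  exact ⟨hr.lift r', hr.lift_eq r'⟩

theorem ext_nat (hM : Coh.IsQCoh M) {U W W' : X.Opens} (hU : IsAffineOpen U) (hW : IsAffineOpen W)
    (h : W ≤ U) (h' : W' ≤ W) {θ : Γ(M, U) → Γ(N, U)} {l : Γ(M, W) →ₗ[Γ(X, W)] Γ(N, W)}
    {l' : Γ(M, W') →ₗ[Γ(X, W')] Γ(N, W')} (hl : Ext h θ l) (hl' : Ext (h'.trans h) θ l') (s : Γ(M, W)) :
    N.presheaf.map (homOfLE h').op (l s) = l' (M.presheaf.map (homOfLE h').op s) := by
  letI := (X.presheaf.map (homOfLE h).op).hom.toAlgebra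
  letI : Module Γ(X, U) Γ(M, W) := Module.compHom _ (X.presheaf.map (homOfLE h).op).hom
  haveI : IsScalarTower Γ(X, U) Γ(X, W) Γ(M, W) := IsScalarTower.of_algebraMap_smul fun _ _ => rfl
  let r : Γ(M, U) →ₗ[Γ(X, U)] Γ(M, W) :=
    { toFun := M.presheaf.map (homOfLE h).op
      map_add' := map_add _
      map_smul' := fun a x => Scheme.Modules.map_smul M _ a x }
  have hr := FormalSch78.isBaseChange_res hM hU hW h (fun _ => rfl) r fun _ => rfl
  induction s using hr.inductionOn with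
  | zero => simp only [map_zero]
  | add a b ha hb => simp only [map_add, ha, hb]
  | smul a x hx =>
    rw [map_smul, Scheme.Modules.map_smul, Scheme.Modules.map_smul, map_smul, hx]
  | tmul x =>
    show N.presheaf.map _ (l (M.presheaf.map (homOfLE h).op x)) = l' (M.presheaf.map _ (M.presheaf.map _ x))
    rw [hl, map_map, map_map, hl']

theorem ext_trans {U W W' : X.Opens} (h : W ≤ U) (h' : W' ≤ W) {θ : Γ(M, U) → Γ(N, U)}
    {l : Γ(M, W) → Γ(N, W)} {l' : Γ(M, W') → Γ(N, W')} (hl : Ext h θ l)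
    (hn : ∀ s, N.presheaf.map (homOfLE h').op (l s) = l' (M.presheaf.map (homOfLE h').op s)) :
    Ext (h'.trans h) θ l' := fun s => by
  rw [← map_map M h' h, ← hn, hl, map_map]

/-- A compatible linear family on a basis of affine opens extends to a morphism. -/
theorem exists_hom_of_basis (p : X.affineOpens → Prop) (hp : ∀ U W : X.affineOpens, W.1 ≤ U.1 → p U → p W)
    (hcov : ∀ x : X, ∃ U, p U ∧ x ∈ U.1) (f : ∀ U : X.affineOpens, p U → (Γ(M, U.1) →ₗ[Γ(X, U.1)] Γ(N, U.1)))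
    (hnat : ∀ (U W : X.affineOpens) (hu : p U) (hw : p W) (h : W.1 ≤ U.1) (s : Γ(M, U.1)),
      N.presheaf.map (homOfLE h).op (f U hu s) = f W hw (M.presheaf.map (homOfLE h).op s)) :
    ∃ φ : M ⟶ N, ∀ (U : X.affineOpens) (hu : p U) (s : Γ(M, U.1)), φ.app U.1 s = f U hu s := by
  have hc : ∀ (V : X.Opens), ∀ x ∈ V, ∃ W : X.affineOpens, p W ∧ W.1 ≤ V ∧ x ∈ W.1 := by
    intro V x hx
    obtain ⟨U, hU, hxU⟩ := hcov x
    obtain ⟨W, hW, hxW, hWV⟩ := exists_isAffineOpen_mem_and_subset (x := x) (U := V ⊓ U.1) ⟨hx, hxU⟩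
    exact ⟨⟨W, hW⟩, hp U ⟨W, hW⟩ (fun y hy => (hWV hy).2) hU, fun y hy => (hWV hy).1, hxW⟩
  have ext : ∀ (V : X.Opens) (s t : Γ(N, V)), (∀ (W : X.affineOpens) (_ : p W) (hW : W.1 ≤ V),
      N.presheaf.map (homOfLE hW).op s = N.presheaf.map (homOfLE hW).op t) → s = t := fun V s t h =>
    TopCat.Sheaf.eq_of_locally_eq' ⟨N.presheaf, Scheme.Modules.isSheaf N⟩
      (fun i : {W : X.affineOpens // p W ∧ W.1 ≤ V} => i.1.1) V (fun i => homOfLE i.2.2) (fun x hx => by
        obtain ⟨W, hW, hWV, hxW⟩ := hc V x hx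
        exact Opens.mem_iSup.2 ⟨⟨W, hW, hWV⟩, hxW⟩) s t (fun i => h i.1 i.2.1 i.2.2)
  have hg : ∀ (U : X.affineOpens) (s : Γ(M, U.1)), ∃ t : Γ(N, U.1), ∀ (W : X.affineOpens) (hw : p W)
      (hW : W.1 ≤ U.1), N.presheaf.map (homOfLE hW).op t = f W hw (M.presheaf.map (homOfLE hW).op s) := by
    intro U s
    obtain ⟨t, ht, -⟩ := TopCat.Sheaf.existsUnique_gluing' ⟨N.presheaf, Scheme.Modules.isSheaf N⟩
      (fun i : {W : X.affineOpens // p W ∧ W.1 ≤ U.1} => i.1.1) U.1 (fun i => homOfLE i.2.2)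
      (fun x hx => by
        obtain ⟨W, hW, hWV, hxW⟩ := hc U.1 x hx
        exact Opens.mem_iSup.2 ⟨⟨W, hW, hWV⟩, hxW⟩)
      (fun i => f i.1 i.2.1 (M.presheaf.map (homOfLE i.2.2).op s)) (fun i j => ext _ _ _ fun W hw hW => by
        show N.presheaf.map _ (N.presheaf.map (homOfLE inf_le_left).op _) =
          N.presheaf.map _ (N.presheaf.map (homOfLE inf_le_right).op _)
        rw [map_map, map_map, hnat i.1 W i.2.1 hw (hW.trans inf_le_left),
          hnat j.1 W j.2.1 hw (hW.trans inf_le_right), map_map, map_map])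
    exact ⟨t, fun W hw hW => ht ⟨W, hw, hW⟩⟩
  choose g hg' using hg
  have huniq : ∀ (U : X.affineOpens) (s : Γ(M, U.1)) (t : Γ(N, U.1)), (∀ (W : X.affineOpens) (hw : p W)
      (hW : W.1 ≤ U.1), N.presheaf.map (homOfLE hW).op t = f W hw (M.presheaf.map (homOfLE hW).op s)) →
      g U s = t := fun U s t h => ext _ _ _ fun W hw hW => (hg' U s W hw hW).trans (h W hw hW).symm
  have hadd : ∀ U s s', g U (s + s') = g U s + g U s' := fun U s s' => huniq U _ _ fun W hw hW => by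
    rw [map_add, hg', hg', map_add (M.presheaf.map _).hom, map_add]
  obtain ⟨φ, hφ⟩ := ArtFunLib.FamilyHom.exists_hom_of_family (fun U => AddMonoidHom.mk' (g U) (hadd U))
    (fun U W h s => (huniq W _ _ fun W' hw hW' => by
      show N.presheaf.map _ (N.presheaf.map _ (g U s)) = _
      rw [map_map, hg' U s W' hw (hW'.trans h), map_map]).symm)
    (fun U r s => huniq U _ _ fun W hw hW => by
      show N.presheaf.map _ (r • g U s) = _
      rw [Scheme.Modules.map_smul, Scheme.Modules.map_smul, hg' U s W hw hW, map_smul])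
  exact ⟨φ, fun U hu s => (hφ U s).trans (huniq U s _ fun W hw hW => hnat U W hu hw hW s)⟩

/-- Morphisms glue from linear maps on the members of an affine cover. -/
theorem exists_hom_of_cover (hM : Coh.IsQCoh M) {ι : Type*} (U : ι → X.affineOpens)
    (hcov : ∀ x : X, ∃ a, x ∈ (U a).1) (θ : ∀ a, Γ(M, (U a).1) →ₗ[Γ(X, (U a).1)] Γ(N, (U a).1))
    (hagree : ∀ a b, ∀ x ∈ (U a).1 ⊓ (U b).1, ∃ (V : X.Opens) (_ : IsAffineOpen V) (ha : V ≤ (U a).1)
      (hb : V ≤ (U b).1), x ∈ V ∧ ∃ l : Γ(M, V) →ₗ[Γ(X, V)] Γ(N, V), Ext ha (θ a) l ∧ Ext hb (θ b) l) :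
    ∃ φ : M ⟶ N, ∀ a s, φ.app (U a).1 s = θ a s := by
  classical
  choose E hE using fun a (W : X.affineOpens) (h : W.1 ≤ (U a).1) => exists_ext hM (U a).2 W.2 h (θ a)
  have key : ∀ a b (W : X.affineOpens) (ha : W.1 ≤ (U a).1) (hb : W.1 ≤ (U b).1) s, E a W ha s = E b W hb s := by
    intro a b W ha hb s
    refine ArtFunLib.FamilyHom.ext_affine N W.1 _ _ fun W₁ hW₁ => ?_
    refine ArtFunLib.FamilyHom.ext_affine N W₁.1 _ _ fun W₂ hW₂ => ?_
    rw [map_map, map_map]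
    generalize hW₂.trans hW₁ = h2
    refine TopCat.Sheaf.eq_of_locally_eq' ⟨N.presheaf, Scheme.Modules.isSheaf N⟩
      (fun i : {T : X.affineOpens // T.1 ≤ W₂.1 ∧ ∃ (l : Γ(M, T.1) →ₗ[Γ(X, T.1)] Γ(N, T.1))
        (h : T.1 ≤ W.1), Ext (h.trans ha) (θ a) l ∧ Ext (h.trans hb) (θ b) l} => i.1.1)
      W₂.1 (fun i => homOfLE i.2.1) (fun x hx => ?_) _ _ fun i => ?_
    · obtain ⟨V, hV, hVa, hVb, hxV, l, hla, hlb⟩ := hagree a b x ⟨ha (h2 hx), hb (h2 hx)⟩
      obtain ⟨T, hT, hxT, hTV⟩ := exists_isAffineOpen_mem_and_subset (x := x) (U := V ⊓ W₂.1) ⟨hxV, hx⟩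
      have hT1 : T ≤ V := fun y hy => (hTV hy).1
      obtain ⟨l', hl'⟩ := exists_ext hM (U a).2 hT (hT1.trans hVa) (θ a)
      exact Opens.mem_iSup.2 ⟨⟨⟨T, hT⟩, fun y hy => (hTV hy).2, l', fun y hy => h2 (hTV hy).2, hl',
        ext_trans hVb hT1 hlb (ext_nat hM (U a).2 hV hVa hT1 hla hl')⟩, hxT⟩
    · obtain ⟨l, h, hla, hlb⟩ := i.2.2
      show N.presheaf.map (homOfLE i.2.1).op (N.presheaf.map _ _) =
        N.presheaf.map (homOfLE i.2.1).op (N.presheaf.map _ _)
      rw [map_map, map_map, ext_nat hM (U a).2 W.2 ha h (hE a W ha) hla,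
        ext_nat hM (U b).2 W.2 hb h (hE b W hb) hlb]
  let p : X.affineOpens → Prop := fun W => ∃ a, W.1 ≤ (U a).1
  obtain ⟨φ, hφ⟩ := exists_hom_of_basis p (fun V W h ⟨a, ha⟩ => ⟨a, h.trans ha⟩)
    (fun x => by obtain ⟨a, ha⟩ := hcov x; exact ⟨U a, ⟨a, le_rfl⟩, ha⟩)
    (fun W hW => E hW.choose W hW.choose_spec) (fun V W hv hw h s => by
      rw [key hw.choose hv.choose W hw.choose_spec (h.trans hv.choose_spec)]
      exact ext_nat hM (U hv.choose).2 V.2 hv.choose_spec h (hE _ _ _) (hE _ _ _) s)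
  refine ⟨φ, fun a s => ?_⟩
  have := hE a (U a) le_rfl s
  rw [ArtFunLib.FamilyHom.map_refl, ArtFunLib.FamilyHom.map_refl] at this
  rw [hφ (U a) ⟨a, le_rfl⟩ s, key _ a (U a) _ le_rfl, this]

end Groth.Agent.LimitsH94.GlueHom

namespace Groth.Agent.LimitsH94.Algebraic

open TensorProduct

variable {R A : Type u} [CommRing R] [CommRing A] [Algebra R A] {ι : Type*} {G : ι → Type u}
  [∀ i, CommRing (G i)] [∀ i, Algebra R (G i)] {g : ∀ i, G i →ₐ[R] A}

theorem exists_stage_eq (hG : DirColim.IsColim g) {M N : Type u} [AddCommGroup M] [Module R M]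
    [AddCommGroup N] [Module R N] [Module.Finite R M] (i : ι) (θ θ' : M →ₗ[R] G i ⊗[R] N)
    (h : ∀ m, (g i).toLinearMap.rTensor N (θ m) = (g i).toLinearMap.rTensor N (θ' m)) :
    ∃ j, ∃ φ : DirColim.Trans g i j, ∀ m, φ.1.toLinearMap.rTensor N (θ m) = φ.1.toLinearMap.rTensor N (θ' m) := by
  classical
  obtain ⟨S, hS⟩ := Module.Finite.fg_top (R := R) (M := M)
  have key : ∀ m, ∃ j, ∃ φ : DirColim.Trans g i j,
      φ.1.toLinearMap.rTensor N (θ m - θ' m) = 0 := fun m =>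
    hG.exists_rTensor_eq_zero N i _ (by rw [map_sub, h, sub_self])
  have hev : ∀ S : Finset M, ∃ j, ∃ φ : DirColim.Trans g i j, ∀ m ∈ S,
      φ.1.toLinearMap.rTensor N (θ m - θ' m) = 0 := by
    intro S
    induction S using Finset.induction_on with
    | empty => exact ⟨i, ⟨AlgHom.id R _, AlgHom.comp_id _⟩, by simp⟩
    | insert a S _ ih =>
      obtain ⟨j, φ, hj⟩ := ih
      obtain ⟨k, ψ, hk⟩ := hG.exists_rTensor_eq_zero N j (φ.1.toLinearMap.rTensor N (θ a - θ' a)) (by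
        rw [← LinearMap.rTensor_comp_apply, ← AlgHom.comp_toLinearMap, φ.2, map_sub, h, sub_self])
      refine ⟨k, ψ.comp φ, fun m hm => ?_⟩
      show (ψ.1.comp φ.1).toLinearMap.rTensor N _ = 0
      rw [AlgHom.comp_toLinearMap, LinearMap.rTensor_comp_apply]
      rcases Finset.mem_insert.1 hm with rfl | hm
      · exact hk
      · rw [hj m hm, map_zero]
  obtain ⟨j, φ, hj⟩ := hev S
  refine ⟨j, φ, fun m => sub_eq_zero.1 ?_⟩
  rw [← map_sub]
  have hm : m ∈ Submodule.span R (S : Set M) := hS ▸ Submodule.mem_top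
  exact (Submodule.span_le.2 (fun x hx => by simpa using hj x hx) :
    Submodule.span R (S : Set M) ≤ LinearMap.ker ((φ.1.toLinearMap.rTensor N).comp (θ - θ'))) hm

theorem exists_stage_hom [Nonempty ι] (hG : DirColim.IsColim g) {M N : Type u} [AddCommGroup M] [Module R M]
    [AddCommGroup N] [Module R N] [Module.FinitePresentation R M] (ξ : M →ₗ[R] A ⊗[R] N) :
    ∃ i, ∃ θ : M →ₗ[R] G i ⊗[R] N, ∀ m, (g i).toLinearMap.rTensor N (θ m) = ξ m := by
  classical
  obtain ⟨n, π, hπ⟩ := Module.Finite.exists_fin' R M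
  have hker : (LinearMap.ker π).FG := Module.FinitePresentation.fg_ker π hπ
  choose a x hx using fun b : Fin n => hG.exists_rTensor_eq N (ξ (π (Pi.single b 1)))
  obtain ⟨i, hi⟩ := hG.eventually_forall (fun b j => ∃ y, (g j).toLinearMap.rTensor N y = ξ (π (Pi.single b 1)))
    (fun b j k φ ⟨y, hy⟩ => ⟨φ.1.toLinearMap.rTensor N y, by
      rw [← LinearMap.rTensor_comp_apply, ← AlgHom.comp_toLinearMap, φ.2, hy]⟩)
    Finset.univ fun b _ => ⟨a b, x b, hx b⟩
  choose y hy using fun b => hi b (Finset.mem_univ b)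
  let Θ : (Fin n → R) →ₗ[R] G i ⊗[R] N := (Pi.basisFun R (Fin n)).constr R y
  have hΘ : ∀ v, (g i).toLinearMap.rTensor N (Θ v) = ξ (π v) := fun v => by
    refine LinearMap.congr_fun ((Pi.basisFun R (Fin n)).ext fun b => ?_ :
      ((g i).toLinearMap.rTensor N).comp Θ = ξ.comp π) v
    simp [Θ, hy]
  haveI : Module.Finite R (LinearMap.ker π) := Module.Finite.iff_fg.2 hker
  obtain ⟨j, φ, hj⟩ := exists_stage_eq hG i (Θ.comp (LinearMap.ker π).subtype) 0 fun v => by
    rw [LinearMap.comp_apply, hΘ, Submodule.subtype_apply, LinearMap.mem_ker.1 v.2, map_zero,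
      LinearMap.zero_apply, map_zero]
  let Θ' := (φ.1.toLinearMap.rTensor N).comp Θ
  have hle : LinearMap.ker π ≤ LinearMap.ker Θ' := fun v hv => by
    have := hj ⟨v, hv⟩
    rw [LinearMap.zero_apply, map_zero] at this
    exact this
  refine ⟨j, (Submodule.liftQ _ Θ' hle).comp (π.quotKerEquivOfSurjective hπ).symm.toLinearMap, fun m => ?_⟩
  obtain ⟨v, rfl⟩ := hπ m
  rw [LinearMap.comp_apply, LinearEquiv.coe_coe, LinearMap.quotKerEquivOfSurjective_symm_apply,
    Submodule.liftQ_apply, LinearMap.comp_apply, ← LinearMap.rTensor_comp_apply,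
    ← AlgHom.comp_toLinearMap, φ.2, hΘ]

end Groth.Agent.LimitsH94.Algebraic
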