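import Groth.Agent.LimitsH94.LimAffine
import Groth.Agent.QCoh.LocFree

/-! Properties of maps of quasi-coherent modules along an affine cofiltered limit. -/

set_option autoImplicit false
set_option linter.style.haveILetI false
universe u

namespace Groth.Agent.LimitsH94.LM

open CategoryTheory Limits AlgebraicGeometry TopologicalSpace

section General

variable {X Y : Scheme.{u}} {A B : X.Modules}

theorem isFT_cokernel (hA : Coh.IsQCoh A) (hB : Coh.IsQCoh B) (hBt : CohB1.IsFT B) (f : A ⟶ B) :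
    CohB1.IsFT (cokernel f) := by
  have hQ := QCoh.isQCoh_cokernel hA hB f
  refine (QCoh.isFT_iff hQ).2 fun U => ?_
  haveI := QCoh.finite_of_isFT hB hBt U.2
  exact Module.Finite.of_surjective (QCoh.appLin (cokernel.π f) U.1)
    (QCoh.app_surjective_of_epi hB hQ (cokernel.π f) U.2)

theorem isFT_kernel (hA : Coh.IsQCoh A) (hAt : CohB1.IsFT A) (hB : Coh.IsQCoh B) (hBp : CohB1.IsFP B)
    (f : A ⟶ B) [Epi f] : CohB1.IsFT (kernel f) := by
  have hK := QCoh.isQCoh_kernel hA hB f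
  refine (QCoh.isFT_iff hK).2 fun U => ?_
  haveI := QCoh.finite_of_isFT hA hAt U.2
  haveI := QCoh.finitePresentation_of_isFP hBp U.2
  let l := QCoh.appLin (kernel.ι f) U.1
  have hl : Function.Injective l := QCoh.app_injective (kernel.ι f) U.1
  have hr : LinearMap.range l = LinearMap.ker (QCoh.appLin f U.1) := by
    refine le_antisymm ?_ fun x hx => ?_
    · rintro _ ⟨x, rfl⟩
      exact congr(($(kernel.condition f)).app U.1 x)
    · exact QCoh.exists_app_f_eq (S := ShortComplex.mk (kernel.ι f) f (kernel.condition f))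
        { exact := ShortComplex.exact_kernel f, mono_f := inferInstance, epi_g := inferInstance }
        U.1 x hx
  haveI : Module.Finite Γ(X, U.1) (LinearMap.ker (QCoh.appLin f U.1)) :=
    Module.Finite.iff_fg.mpr (Module.FinitePresentation.fg_ker _
      (QCoh.app_surjective_of_epi hA hB f U.2))
  exact Module.Finite.equiv ((LinearEquiv.ofInjective l hl).trans (LinearEquiv.ofEq _ _ hr)).symm

theorem isFP_pullback (φ : Y ⟶ X) [IsAffineHom φ] (hA : CohB1.IsFP A) :
    CohB1.IsFP ((Scheme.Modules.pullback φ).obj A) := by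
  have hM : Coh.IsQCoh A := QCoh.isQCoh_of_isFP hA
  refine QCoh.isFP_of_finitePresentation (QCoh.isQCoh_pullback φ hM)
    (fun U : X.affineOpens => φ ⁻¹ᵁ U.1) ?_ (fun U => U.2.preimage φ) fun U => ?_
  · show iSup _ = ⊤
    rw [← Scheme.Hom.preimage_iSup, iSup_affineOpens_eq_top, Scheme.Hom.preimage_top]
  · haveI := QCoh.finitePresentation_of_isFP hA U.2
    let N := (Scheme.Modules.pullback φ).obj A
    letI : Algebra Γ(X, U.1) Γ(Y, φ ⁻¹ᵁ U.1) := (φ.appLE U.1 (φ ⁻¹ᵁ U.1) le_rfl).hom.toAlgebra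
    letI : Module Γ(X, U.1) Γ(N, φ ⁻¹ᵁ U.1) := Module.compHom _ (φ.appLE U.1 (φ ⁻¹ᵁ U.1) le_rfl).hom
    haveI : IsScalarTower Γ(X, U.1) Γ(Y, φ ⁻¹ᵁ U.1) Γ(N, φ ⁻¹ᵁ U.1) :=
      ⟨fun a b c => mul_smul ((φ.appLE U.1 (φ ⁻¹ᵁ U.1) le_rfl).hom a) b c⟩
    let l : Γ(A, U.1) →ₗ[Γ(X, U.1)] Γ(N, φ ⁻¹ᵁ U.1) :=
      { toFun := QCoh.pullSec φ A le_rfl
        map_add' := QCoh.pullSec_add φ A le_rfl
        map_smul' := QCoh.pullSec_smul φ A le_rfl }
    exact Module.FinitePresentation.of_equiv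
      (QCoh.isBaseChange_pullback U.2 φ (U.2.preimage φ) hM le_rfl (fun r => rfl) l fun x => rfl).equiv

theorem isFT_pullback (φ : Y ⟶ X) [IsAffineHom φ] (hM : Coh.IsQCoh A) (hA : CohB1.IsFT A) :
    CohB1.IsFT ((Scheme.Modules.pullback φ).obj A) := by
  refine QCoh.isFT_of_finite (QCoh.isQCoh_pullback φ hM)
    (fun U : X.affineOpens => φ ⁻¹ᵁ U.1) ?_ (fun U => U.2.preimage φ) fun U => ?_
  · show iSup _ = ⊤
    rw [← Scheme.Hom.preimage_iSup, iSup_affineOpens_eq_top, Scheme.Hom.preimage_top]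
  · haveI := QCoh.finite_of_isFT hM hA U.2
    let N := (Scheme.Modules.pullback φ).obj A
    letI : Algebra Γ(X, U.1) Γ(Y, φ ⁻¹ᵁ U.1) := (φ.appLE U.1 (φ ⁻¹ᵁ U.1) le_rfl).hom.toAlgebra
    letI : Module Γ(X, U.1) Γ(N, φ ⁻¹ᵁ U.1) := Module.compHom _ (φ.appLE U.1 (φ ⁻¹ᵁ U.1) le_rfl).hom
    haveI : IsScalarTower Γ(X, U.1) Γ(Y, φ ⁻¹ᵁ U.1) Γ(N, φ ⁻¹ᵁ U.1) :=
      ⟨fun a b c => mul_smul ((φ.appLE U.1 (φ ⁻¹ᵁ U.1) le_rfl).hom a) b c⟩
    let l : Γ(A, U.1) →ₗ[Γ(X, U.1)] Γ(N, φ ⁻¹ᵁ U.1) :=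
      { toFun := QCoh.pullSec φ A le_rfl
        map_add' := QCoh.pullSec_add φ A le_rfl
        map_smul' := QCoh.pullSec_smul φ A le_rfl }
    exact Module.Finite.equiv
      (QCoh.isBaseChange_pullback U.2 φ (U.2.preimage φ) hM le_rfl (fun r => rfl) l fun x => rfl).equiv

end General

variable {I : Type u} [SmallCategory I] {D : I ⥤ Scheme.{u}} {c : Cone D}

theorem map_conj {C E : Type*} [Category C] [Category E] {F₁ F₂ : C ⥤ E} (e : F₁ ≅ F₂) {a b : C}
    (f : a ⟶ b) : F₂.map f = e.inv.app a ≫ F₁.map f ≫ e.hom.app b := by simp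

section Transfer

variable {i j : I} (φ : j ⟶ i)

/-- Pullback in two steps. -/
noncomputable def compIso {k : I} (ψ : k ⟶ j) :
    Scheme.Modules.pullback (D.map φ) ⋙ Scheme.Modules.pullback (D.map ψ) ≅
      Scheme.Modules.pullback (D.map (ψ ≫ φ)) :=
  Scheme.Modules.pullbackComp (D.map ψ) (D.map φ) ≪≫ Scheme.Modules.pullbackCongr (D.map_comp ψ φ).symm

variable (c) in
/-- Pullback to the limit through a stage. -/
noncomputable def limIso :
    Scheme.Modules.pullback (D.map φ) ⋙ Scheme.Modules.pullback (c.π.app j) ≅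
      Scheme.Modules.pullback (c.π.app i) :=
  Scheme.Modules.pullbackComp (c.π.app j) (D.map φ) ≪≫ Scheme.Modules.pullbackCongr (c.w φ)

variable {A B : (D.obj i).Modules} (f : A ⟶ B)

theorem zero_lim_iff : (Scheme.Modules.pullback (c.π.app j)).map ((Scheme.Modules.pullback (D.map φ)).map f) = 0 ↔
    (Scheme.Modules.pullback (c.π.app i)).map f = 0 := by
  rw [map_conj (limIso c φ) f]
  exact ⟨fun h => by rw [Functor.comp_map, h]; simp, fun h => by
    simpa using h⟩

theorem isIso_lim_iff : IsIso ((Scheme.Modules.pullback (c.π.app j)).map ((Scheme.Modules.pullback (D.map φ)).map f)) ↔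
    IsIso ((Scheme.Modules.pullback (c.π.app i)).map f) :=
  NatIso.isIso_map_iff (limIso c φ) f

theorem epi_lim_iff : Epi ((Scheme.Modules.pullback (c.π.app j)).map ((Scheme.Modules.pullback (D.map φ)).map f)) ↔
    Epi ((Scheme.Modules.pullback (c.π.app i)).map f) := by
  rw [map_conj (limIso c φ) f]
  refine ⟨fun h => ?_, fun h => ?_⟩
  · haveI : Epi ((Scheme.Modules.pullback (D.map φ) ⋙ Scheme.Modules.pullback (c.π.app j)).map f) := h
    infer_instance
  have : Epi ((limIso c φ).hom.app A ≫ ((limIso c φ).inv.app A ≫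
    (Scheme.Modules.pullback (D.map φ) ⋙ Scheme.Modules.pullback (c.π.app j)).map f ≫
      (limIso c φ).hom.app B) ≫ (limIso c φ).inv.app B) := inferInstance
  simpa using this

end Transfer

variable [IsCofiltered I] [∀ (a b : I) (f : a ⟶ b), IsAffineHom (D.map f)] {i : I}

omit [IsCofiltered I] in
theorem compactSpace_obj {j : I} (φ : j ⟶ i) [CompactSpace (D.obj i)] : CompactSpace (D.obj j) :=
  QuasiCompact.compactSpace_of_compactSpace (D.map φ)

theorem exists_stage_isZero (hc : IsLimit c) [CompactSpace (D.obj i)] {A : (D.obj i).Modules}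
    (hA : Coh.IsQCoh A) (hAt : CohB1.IsFT A) (h : IsZero ((Scheme.Modules.pullback (c.π.app i)).obj A)) :
    ∃ (j : I) (φ : j ⟶ i), IsZero ((Scheme.Modules.pullback (D.map φ)).obj A) := by
  obtain ⟨j, φ, hj⟩ := exists_stage_map_eq_zero hc hA hA hAt (𝟙 A) (h.eq_of_tgt _ _)
  refine ⟨j, φ, (IsZero.iff_id_eq_zero _).mpr ?_⟩
  rw [← CategoryTheory.Functor.map_id]
  exact hj

theorem exists_stage_epi (hc : IsLimit c) [CompactSpace (D.obj i)] {A B : (D.obj i).Modules}
    (hA : Coh.IsQCoh A) (hB : Coh.IsQCoh B) (hBt : CohB1.IsFT B) (f : A ⟶ B)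
    [h : Epi ((Scheme.Modules.pullback (c.π.app i)).map f)] :
    ∃ (j : I) (φ : j ⟶ i), Epi ((Scheme.Modules.pullback (D.map φ)).map f) := by
  have h0 : IsZero ((Scheme.Modules.pullback (c.π.app i)).obj (cokernel f)) :=
    IsZero.of_iso (isZero_cokernel_of_epi ((Scheme.Modules.pullback (c.π.app i)).map f))
      (PreservesCokernel.iso (Scheme.Modules.pullback (c.π.app i)) f)
  obtain ⟨j, φ, hj⟩ := exists_stage_isZero hc (QCoh.isQCoh_cokernel hA hB f) (isFT_cokernel hA hB hBt f) h0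
  refine ⟨j, φ, Abelian.epi_of_cokernel_π_eq_zero _ ?_⟩
  exact (hj.of_iso (PreservesCokernel.iso (Scheme.Modules.pullback (D.map φ)) f).symm).eq_of_tgt _ _

/-- An epimorphism whose kernel dies after a right exact functor becomes an isomorphism. -/
theorem isIso_map_of_kernel {C E : Type*} [Category C] [Abelian C] [Category E] [Abelian E] (P : C ⥤ E)
    [P.Additive] [PreservesColimitsOfShape WalkingParallelPair P] {A B : C} (f : A ⟶ B) [Epi f]
    (h : P.map (kernel.ι f) = 0) : IsIso (P.map f) := by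
  have hc := Abelian.epiIsCokernelOfKernel _ (kernelIsKernel f)
  exact CokernelCofork.IsColimit.isIso_π _
    ((CokernelCofork.mapIsColimit _ hc P) : IsColimit _) h

theorem exists_stage_isIso (hc : IsLimit c) [CompactSpace (D.obj i)] {A B : (D.obj i).Modules}
    (hA : Coh.IsQCoh A) (hAt : CohB1.IsFT A) (hB : Coh.IsQCoh B) (hBp : CohB1.IsFP B) (f : A ⟶ B)
    [h : IsIso ((Scheme.Modules.pullback (c.π.app i)).map f)] :
    ∃ (j : I) (φ : j ⟶ i), IsIso ((Scheme.Modules.pullback (D.map φ)).map f) := by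
  obtain ⟨j, φ, hj⟩ := exists_stage_epi hc hA hB (QCoh.isFT_of_isFP hBp) f
  haveI := compactSpace_obj (D := D) φ
  let f₁ := (Scheme.Modules.pullback (D.map φ)).map f
  have hA₁ := QCoh.isQCoh_pullback (D.map φ) hA
  have hB₁ := QCoh.isQCoh_pullback (D.map φ) hB
  haveI : IsIso ((Scheme.Modules.pullback (c.π.app j)).map f₁) := (isIso_lim_iff φ f).mpr h
  have hk : (Scheme.Modules.pullback (c.π.app j)).map (kernel.ι f₁) = 0 := by
    rw [← cancel_mono ((Scheme.Modules.pullback (c.π.app j)).map f₁), ← Functor.map_comp,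
      kernel.condition, zero_comp, Functor.map_zero]
  obtain ⟨k, ψ, hψ⟩ := exists_stage_map_eq_zero hc (QCoh.isQCoh_kernel hA₁ hB₁ f₁) hA₁
    (isFT_kernel hA₁ (isFT_pullback _ hA hAt) hB₁ (isFP_pullback _ hBp) f₁) (kernel.ι f₁) hk
  refine ⟨k, ψ ≫ φ, (NatIso.isIso_map_iff (compIso φ ψ) f).mp ?_⟩
  exact isIso_map_of_kernel (Scheme.Modules.pullback (D.map ψ)) f₁ hψ

end Groth.Agent.LimitsH94.LM

namespace Groth.Agent.LimitsH94.LM

open CategoryTheory Limits AlgebraicGeometry TopologicalSpace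

/-- Factorisation through an epimorphism after a right exact functor. -/
theorem exists_fac_map {C E : Type*} [Category C] [Abelian C] [Category E] [Abelian E] (P : C ⥤ E)
    [P.Additive] [PreservesColimitsOfShape WalkingParallelPair P] {A B B' : C} (p : A ⟶ B) (q : A ⟶ B')
    [Epi p] (h : P.map (kernel.ι p ≫ q) = 0) : ∃ k : P.obj B ⟶ P.obj B', P.map p ≫ k = P.map q := by
  have hc := Abelian.epiIsCokernelOfKernel _ (kernelIsKernel p)
  obtain ⟨l, hl⟩ := CokernelCofork.IsColimit.desc' (CokernelCofork.mapIsColimit _ hc P) (P.map q)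
    (by rw [← P.map_comp]; exact h)
  exact ⟨l, hl⟩

variable {I : Type u} [SmallCategory I] [IsCofiltered I] {D : I ⥤ Scheme.{u}} {c : Cone D}
  [∀ (a b : I) (f : a ⟶ b), IsAffineHom (D.map f)] {i : I}

omit [IsCofiltered I] [∀ (a b : I) (f : a ⟶ b), IsAffineHom (D.map f)] in
theorem map_eq_zero_of_stage {j k : I} (φ : j ⟶ i) (ψ : k ⟶ j) {A B : (D.obj i).Modules} (f : A ⟶ B)
    (h : (Scheme.Modules.pullback (D.map φ)).map f = 0) :
    (Scheme.Modules.pullback (D.map (ψ ≫ φ))).map f = 0 := by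
  rw [map_conj (compIso φ ψ) f, Functor.comp_map, h]
  simp

omit [IsCofiltered I] [∀ (a b : I) (f : a ⟶ b), IsAffineHom (D.map f)] in
theorem epi_of_stage {j k : I} (φ : j ⟶ i) (ψ : k ⟶ j) {A B : (D.obj i).Modules} (f : A ⟶ B)
    [h : Epi ((Scheme.Modules.pullback (D.map φ)).map f)] :
    Epi ((Scheme.Modules.pullback (D.map (ψ ≫ φ))).map f) := by
  haveI : Epi ((Scheme.Modules.pullback (D.map φ) ⋙ Scheme.Modules.pullback (D.map ψ)).map f) :=
    inferInstanceAs (Epi ((Scheme.Modules.pullback (D.map ψ)).map ((Scheme.Modules.pullback (D.map φ)).map f)))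
  rw [map_conj (compIso φ ψ) f]
  infer_instance

/-- Right exact sequences descend. -/
theorem exists_stage_rightExact (hc : IsLimit c) [CompactSpace (D.obj i)] {A B C : (D.obj i).Modules}
    (hA : Coh.IsQCoh A) (hAt : CohB1.IsFT A) (hB : Coh.IsQCoh B) (hBt : CohB1.IsFT B)
    (hC : Coh.IsQCoh C) (hCp : CohB1.IsFP C) (f : A ⟶ B) (g : B ⟶ C)
    (w : (Scheme.Modules.pullback (c.π.app i)).map f ≫ (Scheme.Modules.pullback (c.π.app i)).map g = 0)
    (hex : (ShortComplex.mk _ _ w).Exact) [hg : Epi ((Scheme.Modules.pullback (c.π.app i)).map g)] :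
    ∃ (j : I) (φ : j ⟶ i) (w : (Scheme.Modules.pullback (D.map φ)).map f ≫ (Scheme.Modules.pullback (D.map φ)).map g = 0),
      (ShortComplex.mk _ _ w).Exact ∧ Epi ((Scheme.Modules.pullback (D.map φ)).map g) := by
  obtain ⟨j, φ, hj⟩ := exists_stage_map_eq_zero hc hA hC hAt (f ≫ g) (by rw [Functor.map_comp]; exact w)
  haveI := compactSpace_obj (D := D) φ
  let f₁ := (Scheme.Modules.pullback (D.map φ)).map f
  let g₁ := (Scheme.Modules.pullback (D.map φ)).map g
  have w₁ : f₁ ≫ g₁ = 0 := by rw [← Functor.map_comp]; exact hj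
  let h := cokernel.desc f₁ g₁ w₁
  have hA₁ := QCoh.isQCoh_pullback (D.map φ) hA
  have hB₁ := QCoh.isQCoh_pullback (D.map φ) hB
  let P := Scheme.Modules.pullback (c.π.app j)
  haveI : IsIso (P.map h) := by
    have hexl := hex.gIsCokernel
    let eA := (limIso c φ).app A
    let eB := (limIso c φ).app B
    let eC := (limIso c φ).app C
    have wP : P.map f₁ ≫ P.map g₁ = 0 := by rw [← Functor.map_comp, w₁, Functor.map_zero]
    let S₁ := ShortComplex.mk (P.map f₁) (P.map g₁) wP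
    let e : S₁ ≅ ShortComplex.mk _ _ w :=
      ShortComplex.isoMk eA eB eC ((limIso c φ).hom.naturality f).symm ((limIso c φ).hom.naturality g).symm
    haveI : Epi S₁.g := (epi_lim_iff φ g).mpr hg
    have hc₁ := ((ShortComplex.exact_iff_of_iso e).mpr hex).gIsCokernel
    have hc₂ : IsColimit (CokernelCofork.ofπ (P.map (cokernel.π f₁))
        (by rw [← P.map_comp, cokernel.condition, P.map_zero]) : CokernelCofork (P.map f₁)) :=
      CokernelCofork.mapIsColimit _ (cokernelIsCokernel f₁) P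
    have : (hc₂.coconePointUniqueUpToIso hc₁).hom = P.map h := by
      refine Cofork.IsColimit.hom_ext hc₂ ?_
      have e₁ := hc₂.comp_coconePointUniqueUpToIso_hom hc₁ WalkingParallelPair.one
      refine e₁.trans ?_
      show P.map g₁ = P.map (cokernel.π f₁) ≫ P.map h
      rw [← P.map_comp, cokernel.π_desc]
    exact this ▸ inferInstance
  obtain ⟨k, ψ, hk⟩ := exists_stage_isIso hc (QCoh.isQCoh_cokernel hA₁ hB₁ f₁)
    (isFT_cokernel hA₁ hB₁ (isFT_pullback _ hB hBt) f₁) (QCoh.isQCoh_pullback _ hC) (isFP_pullback _ hCp) h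
  let Q := Scheme.Modules.pullback (D.map ψ)
  have wQ : Q.map f₁ ≫ Q.map g₁ = 0 := by rw [← Functor.map_comp, w₁, Functor.map_zero]
  have hc₂ : IsColimit (CokernelCofork.ofπ (Q.map (cokernel.π f₁))
      (by rw [← Q.map_comp, cokernel.condition, Q.map_zero]) : CokernelCofork (Q.map f₁)) :=
    CokernelCofork.mapIsColimit _ (cokernelIsCokernel f₁) Q
  have hc₃ : IsColimit (CokernelCofork.ofπ (Q.map g₁) wQ) :=
    hc₂.ofIsoColimit (Cofork.ext (asIso (Q.map h)) (by
      show Q.map (cokernel.π f₁) ≫ Q.map h = Q.map g₁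
      rw [← Q.map_comp, cokernel.π_desc]))
  have hex' : (ShortComplex.mk _ _ wQ).Exact := ShortComplex.exact_of_g_is_cokernel _ hc₃
  haveI : Epi (Q.map g₁) := Cofork.IsColimit.epi hc₃
  have e : (Scheme.Modules.pullback (D.map (ψ ≫ φ))).map f ≫ (Scheme.Modules.pullback (D.map (ψ ≫ φ))).map g = 0 := by
    rw [← Functor.map_comp]
    exact map_eq_zero_of_stage φ ψ _ hj
  refine ⟨k, ψ ≫ φ, e, ?_, ?_⟩
  · refine (ShortComplex.exact_iff_of_iso ?_).mp hex'
    exact ShortComplex.isoMk ((compIso φ ψ).app A) ((compIso φ ψ).app B) ((compIso φ ψ).app C)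
      ((compIso φ ψ).hom.naturality f).symm ((compIso φ ψ).hom.naturality g).symm
  · haveI : Epi ((Scheme.Modules.pullback (D.map φ) ⋙ Scheme.Modules.pullback (D.map ψ)).map g) :=
      ‹Epi (Q.map g₁)›
    rw [map_conj (compIso φ ψ) g]
    infer_instance

end Groth.Agent.LimitsH94.LM
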