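import Groth.Agent.LimitsH94.FPExtend3
import Groth.Agent.QCohColim92.Qcqs
import Groth.Agent.QCohColim92.FPHom

/-! A quasi-coherent module on a qcqs scheme is a filtered colimit of finitely presented ones. -/

set_option autoImplicit false
set_option backward.isDefEq.respectTransparency false
set_option backward.isDefEq.respectTransparency.types false
set_option linter.style.haveILetI false
universe u

open CategoryTheory Limits AlgebraicGeometry TopologicalSpace

namespace Groth.Agent.LimitsH94.FPColim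

variable {X : Scheme.{u}}

theorem isFP_of_iso {A B : X.Modules} (e : A ≅ B) (h : CohB1.IsFP A) : CohB1.IsFP B := by
  refine QCoh.isFP_of_finitePresentation ((QCoh.isQCoh_iff_iso e).1 (QCoh.isQCoh_of_isFP h))
    (fun U : X.affineOpens => U.1) (iSup_affineOpens_eq_top X) (fun U => U.2) fun U => ?_
  haveI := QCoh.finitePresentation_of_isFP h U.2
  exact Module.FinitePresentation.of_equiv (LinearEquiv.ofBijective (QCoh.appLin e.hom U.1)
    (ConcreteCategory.bijective_of_isIso (e.hom.app U.1)))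

/-- The image of a morphism which is injective on sections. -/
noncomputable def imgSub {A H : X.Modules} (i : A ⟶ H) (hi : ∀ O, Function.Injective (i.app O)) :
    QCoh.SubMod H where
  mem O := LinearMap.range (QCoh.appLin i O)
  map_mem {U V} h {s} hs := by
    obtain ⟨a, rfl⟩ := hs
    exact ⟨A.presheaf.map (homOfLE h).op a, QCoh.map_app_comm i (homOfLE h) a⟩
  of_locally U s hs := by
    choose V hV hxV a ha using fun x : U => hs x.1 x.2
    have ha' : ∀ x : U, i.app (V x) (a x) = AModX.res H (hV x) s := ha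
    obtain ⟨t, ht, -⟩ := AModX.existsUnique_glue (M := A) V hV (fun p hp => ⟨⟨p, hp⟩, hxV ⟨p, hp⟩⟩) a
      fun x y => hi _ (by rw [AModX.app_res, AModX.app_res, ha', ha', AModX.res_res, AModX.res_res])
    refine ⟨t, AModX.eq_of_locally _ _ fun p hp => ⟨V ⟨p, hp⟩, hV _, hxV _, ?_⟩⟩
    exact (AModX.app_res i (hV _) t).symm.trans ((congrArg (i.app _) (ht ⟨p, hp⟩)).trans (ha' ⟨p, hp⟩))

theorem nonempty_iso_imgSub {A H : X.Modules} (i : A ⟶ H) (hi : ∀ O, Function.Injective (i.app O)) :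
    Nonempty (A ≅ (imgSub i hi).toModules) := by
  let N := imgSub i hi
  have hmem : ∀ (U : X.Opens) (t : Γ(N.toModules, U)), ∃ a, i.app U a = N.ι.app U t :=
    fun U t => N.ι_app_mem U t
  choose g hg using hmem
  obtain ⟨φ, hφ⟩ := ArtFunLib.FamilyHom.exists_hom_of_family (M := N.toModules) (N := A)
    (fun U => AddMonoidHom.mk' (g U.1) fun x y => hi _ (by rw [map_add, hg, hg, hg, map_add]))
    (fun U W h s => hi _ (by
      show i.app W.1 (A.presheaf.map (homOfLE h).op (g U.1 s)) = i.app W.1 (g W.1 _)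
      rw [hg, QCoh.map_app_comm, hg]
      exact (QCoh.map_app_comm N.ι (homOfLE h) s).symm))
    (fun U r s => hi _ (by
      show i.app U.1 (g U.1 (r • s)) = i.app U.1 (r • g U.1 s)
      rw [Scheme.Modules.Hom.app_smul, hg, hg, Scheme.Modules.Hom.app_smul]))
  have hfac : ∀ (U : X.Opens) (t : Γ(N.toModules, U)), i.app U (φ.app U t) = N.ι.app U t := by
    intro U t
    refine AModX.eq_of_locally _ _ fun p hp => ?_
    obtain ⟨W, hW, hpW, hle⟩ := exists_isAffineOpen_mem_and_subset (x := p) (U := U) hp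
    refine ⟨W, hle, hpW, ?_⟩
    rw [← AModX.app_res, ← AModX.app_res, ← AModX.app_res]
    exact (congrArg (i.app W) (hφ ⟨W, hW⟩ _)).trans (hg W _)
  haveI : IsIso φ := Scheme.Modules.Hom.isIso_iff_isIso_app.2 fun U => by
    refine (ConcreteCategory.isIso_iff_bijective _).2 ⟨fun t t' h => ?_, fun a => ?_⟩
    · exact N.ι_app_injective U ((hfac U t).symm.trans ((congrArg (i.app U) h).trans (hfac U t')))
    · obtain ⟨t, ht⟩ := N.exists_app_eq (U := U) (s := i.app U a) ⟨a, rfl⟩
      exact ⟨t, hi U ((hfac U t).trans ht)⟩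
  exact ⟨(asIso φ).symm⟩

theorem app_comp_eq_zero {A B C : X.Modules} (f : A ⟶ B) (g : B ⟶ C) (O : X.Opens) {x : Γ(A, O)}
    (h : f.app O x = 0) : (f ≫ g).app O x = 0 :=
  (congrArg (g.app O) h).trans (map_zero _)

/-- Data describing the restriction of a module to finitely many affine opens. -/
structure Data (X : Scheme.{u}) : Type u where
  s : Finset X.affineOpens
  n : s → ℕ
  R : ∀ V : s, Submodule Γ(X, V.1.1) (Fin (n V) → Γ(X, V.1.1))

/-- The ambient module attached to the data. -/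
noncomputable def Data.H (d : Data X) : X.Modules :=
  ∏ᶜ fun V : d.s => (Scheme.Modules.pushforward V.1.2.fromSpec).obj
    (tilde (ModuleCat.of Γ(X, V.1.1) ((Fin (d.n V) → Γ(X, V.1.1)) ⧸ d.R V)))

/-- Every finitely presented module embeds into an ambient module. -/
theorem exists_data [CompactSpace X] {A : X.Modules} (hA : CohB1.IsFP A) :
    ∃ (d : Data X) (i : A ⟶ d.H), ∀ O, Function.Injective (i.app O) := by
  classical
  obtain ⟨s, hs⟩ := QCohColim92.exists_finite_affine_cover X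
  have hAq := QCoh.isQCoh_of_isFP hA
  have key : ∀ V : s, ∃ (n : ℕ) (R : Submodule Γ(X, V.1.1) (Fin n → Γ(X, V.1.1))),
      Nonempty (A.restrict V.1.2.fromSpec ≅ tilde (ModuleCat.of Γ(X, V.1.1) ((Fin n → Γ(X, V.1.1)) ⧸ R))) := by
    intro V
    haveI := QCoh.finitePresentation_of_isFP hA V.1.2
    obtain ⟨n, f, hf⟩ := Module.Finite.exists_fin' Γ(X, V.1.1) Γ(A, V.1.1)
    haveI : IsIso (A.restrict V.1.2.fromSpec).fromTildeΓ :=
      (isQuasicoherent_iff_isIso_fromTildeΓ _).1 (QCoh.isQCoh_restrict V.1.2.fromSpec hAq)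
    exact ⟨n, LinearMap.ker f, ⟨(asIso (A.restrict V.1.2.fromSpec).fromTildeΓ).symm ≪≫
      (tilde.functor _).mapIso ((LinearMap.quotKerEquivOfSurjective f hf).trans
        (QCoh.chartEquiv V.1.2 A)).toModuleIso.symm⟩⟩
  choose n R hR using key
  let p : ∀ V : s, A ⟶ (Scheme.Modules.pushforward V.1.2.fromSpec).obj
      (tilde (ModuleCat.of Γ(X, V.1.1) ((Fin (n V) → Γ(X, V.1.1)) ⧸ R V))) := fun V =>
    (Scheme.Modules.restrictAdjunction V.1.2.fromSpec).unit.app A ≫
      (Scheme.Modules.pushforward V.1.2.fromSpec).map (hR V).some.hom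
  refine ⟨⟨s, n, R⟩, Pi.lift p, fun O => (injective_iff_map_eq_zero _).2 fun x hx => ?_⟩
  refine AModX.eq_of_locally _ _ fun y hy => ?_
  obtain ⟨V, hyV⟩ := hs y
  refine ⟨O ⊓ V.1.1, inf_le_left, ⟨hy, hyV⟩, ?_⟩
  have h0 : (p V).app (O ⊓ V.1.1) (AModX.res A inf_le_left x) = 0 := by
    rw [AModX.app_res]
    have h1 : (p V).app O x = 0 := by
      rw [← Pi.lift_π p V]
      exact app_comp_eq_zero _ _ _ hx
    exact (congrArg (AModX.res _ inf_le_left) h1).trans (map_zero _)
  have hinj : Function.Injective ((p V).app (O ⊓ V.1.1)) := by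
    have e1 : Function.Bijective
        (((Scheme.Modules.pushforward V.1.2.fromSpec).map (hR V).some.hom).app (O ⊓ V.1.1)) :=
      ConcreteCategory.bijective_of_isIso _
    have e2 : Function.Bijective
        (((Scheme.Modules.restrictAdjunction V.1.2.fromSpec).unit.app A).app (O ⊓ V.1.1)) := by
      rw [Scheme.Modules.restrictAdjunction_unit_app_app]
      have he : V.1.2.fromSpec ''ᵁ V.1.2.fromSpec ⁻¹ᵁ (O ⊓ V.1.1) = O ⊓ V.1.1 := by
        rw [Scheme.Hom.image_preimage_eq_opensRange_inf, V.1.2.opensRange_fromSpec, inf_eq_right.2 inf_le_right]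
      have : IsIso (homOfLE (V.1.2.fromSpec.image_preimage_le (O ⊓ V.1.1))) :=
        ⟨homOfLE he.ge, Subsingleton.elim _ _, Subsingleton.elim _ _⟩
      exact ConcreteCategory.bijective_of_isIso _
    exact e1.1.comp e2.1
  refine (hinj (h0.trans (map_zero _).symm)).trans ?_
  exact (map_zero _).symm

/-- The finitely presented models. -/
def Model (X : Scheme.{u}) : Type u := Σ d : Data X, {N : QCoh.SubMod d.H // CohB1.IsFP N.toModules}

noncomputable def Model.obj (m : Model X) : X.Modules := m.2.1.toModules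

theorem exists_model [CompactSpace X] {A : X.Modules} (hA : CohB1.IsFP A) :
    ∃ m : Model X, Nonempty (A ≅ m.obj) := by
  obtain ⟨d, i, hi⟩ := exists_data hA
  obtain ⟨e⟩ := nonempty_iso_imgSub i hi
  exact ⟨⟨d, imgSub i hi, isFP_of_iso e hA⟩, ⟨e⟩⟩

variable (F : X.Modules)

/-- The index type: models with a map to the module. -/
def Idx : Type u := Σ m : Model X, (m.obj ⟶ F)

noncomputable def Idx.over (i : Idx F) : Over F := Over.mk i.2

abbrev IdxCat : Type u := InducedCategory (Over F) (Idx.over F)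

noncomputable abbrev diag : IdxCat F ⥤ X.Modules := inducedFunctor (Idx.over F) ⋙ Over.forget F

noncomputable def cocone : Cocone (diag F) := (Over.forgetCocone F).whisker (inducedFunctor (Idx.over F))

theorem isFP_diag (i : IdxCat F) : CohB1.IsFP ((diag F).obj i) := i.1.2.2

theorem exists_idx [CompactSpace X] {E : X.Modules} (hE : CohB1.IsFP E) (e : E ⟶ F) :
    ∃ (i : IdxCat F) (σ : E ≅ (diag F).obj i), σ.hom ≫ (cocone F).ι.app i = e := by
  obtain ⟨m, ⟨σ⟩⟩ := exists_model hE
  exact ⟨⟨m, σ.inv ≫ e⟩, σ, σ.hom_inv_id_assoc e⟩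

variable {F} in
theorem w {i j : IdxCat F} (f : i ⟶ j) : (diag F).map f ≫ j.2 = i.2 := Over.w f.hom

variable [CompactSpace X] [QuasiSeparatedSpace X]

omit [QuasiSeparatedSpace X] in
theorem exists_from {E : X.Modules} (hE : CohB1.IsFP E) (e : E ⟶ F) (i : IdxCat F) (a : i.1.obj ⟶ E)
    (ha : a ≫ e = i.2) : ∃ (j : IdxCat F) (σ : E ≅ (diag F).obj j) (f : i ⟶ j),
      σ.hom ≫ (cocone F).ι.app j = e ∧ (diag F).map f = a ≫ σ.hom := by
  obtain ⟨j, σ, hσ⟩ := exists_idx F hE e
  exact ⟨j, σ, InducedCategory.homMk (Over.homMk (a ≫ σ.hom) (((Category.assoc _ _ _).trans (congrArg (a ≫ ·) hσ)).trans ha)), hσ, rfl⟩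

instance isFiltered : IsFiltered (IdxCat F) where
  cocone_objs i j := by
    obtain ⟨k, σ, hσ⟩ := exists_idx F (FPExtend.isFP_biprod i.1.2.2 j.1.2.2) (biprod.desc i.2 j.2)
    exact ⟨k,
      InducedCategory.homMk (Over.homMk (biprod.inl ≫ σ.hom)
        (((Category.assoc _ _ _).trans (congrArg (biprod.inl ≫ ·) hσ)).trans (biprod.inl_desc _ _))),
      InducedCategory.homMk (Over.homMk (biprod.inr ≫ σ.hom)
        (((Category.assoc _ _ _).trans (congrArg (biprod.inr ≫ ·) hσ)).trans (biprod.inr_desc _ _))), trivial⟩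
  cocone_maps i j f g := by
    let a : i.1.obj ⟶ j.1.obj := (diag F).map f - (diag F).map g
    have ha : a ≫ j.2 = 0 := by
      show ((diag F).map f - (diag F).map g) ≫ j.2 = 0
      rw [Preadditive.sub_comp, w f, w g, sub_self]
    have hC : CohB1.IsFP (cokernel a) := isFP_cokernel (QCoh.isQCoh_of_isFP i.1.2.2)
      (QCoh.isFT_of_isFP i.1.2.2) (QCoh.isQCoh_of_isFP j.1.2.2) j.1.2.2 a
    obtain ⟨k, σ, h, -, hh⟩ := exists_from F hC (cokernel.desc a j.2 ha) j (cokernel.π a) (cokernel.π_desc _ _ _)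
    refine ⟨k, h, InducedCategory.hom_ext (Over.OverMorphism.ext ?_)⟩
    show (diag F).map f ≫ (diag F).map h = (diag F).map g ≫ (diag F).map h
    rw [← sub_eq_zero, ← Preadditive.sub_comp, hh, ← Category.assoc]
    exact (congrArg (· ≫ σ.hom) (cokernel.condition a)).trans zero_comp
  nonempty := by
    obtain ⟨E, e, hE, -⟩ := FPExtend.exists_hom_hitting F ∅
    exact ⟨(exists_idx F hE e).choose⟩

theorem exists_surj (hF : Coh.IsQCoh F) {V : X.Opens} (hV : IsAffineOpen V) (x : Γ(F, V)) :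
    ∃ (i : IdxCat F) (t : Γ((diag F).obj i, V)), ((cocone F).ι.app i).app V t = x := by
  obtain ⟨N, hN, hx⟩ := QCoh.exists_ftOn_contains hF hV (QCoh.extStep_qcqs hV.isCompact) {x}
    (Set.finite_singleton _)
  obtain ⟨b, hb⟩ := N.exists_app_eq (hx rfl)
  obtain ⟨E, e, hE, he⟩ := FPExtend.exists_fp_surjective (QCoh.isQCoh_of_ftOn hF hN)
    (QCoh.isFT_of_ftOn hF hN) {⟨V, hV⟩}
  obtain ⟨z, hz⟩ := he ⟨V, hV⟩ (Finset.mem_singleton_self _) b
  obtain ⟨i, σ, hσ⟩ := exists_idx F hE (e ≫ N.ι)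
  exact ⟨i, σ.hom.app V z, (congr(($hσ).app V z)).trans ((congrArg (N.ι.app V) hz).trans hb)⟩

theorem exists_kill (hF : Coh.IsQCoh F) {V : X.Opens} (hV : IsAffineOpen V) (i : IdxCat F)
    (t : Γ((diag F).obj i, V)) (h : ((cocone F).ι.app i).app V t = 0) :
    ∃ (j : IdxCat F) (f : i ⟶ j), ((diag F).map f).app V t = 0 := by
  have hi := i.1.2.2
  have hiq := QCoh.isQCoh_of_isFP hi
  obtain ⟨z, hz⟩ := exists_kernel_section hiq hF i.2 (U := V) (x := t) h
  have hK := QCoh.isQCoh_kernel hiq hF i.2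
  obtain ⟨N, hN, hzN⟩ := QCoh.exists_ftOn_contains hK hV (QCoh.extStep_qcqs hV.isCompact) {z}
    (Set.finite_singleton _)
  obtain ⟨w, hw⟩ := N.exists_app_eq (hzN rfl)
  let a := N.ι ≫ kernel.ι i.2
  have hC : CohB1.IsFP (cokernel a) := isFP_cokernel (QCoh.isQCoh_of_ftOn hK hN) (QCoh.isFT_of_ftOn hK hN)
    hiq hi a
  obtain ⟨j, σ, f, -, hf⟩ := exists_from F hC (cokernel.desc a i.2 (by simp [a])) i (cokernel.π a)
    (cokernel.π_desc _ _ _)
  refine ⟨j, f, ?_⟩
  rw [hf]
  refine (congrArg (σ.hom.app V) ?_).trans (map_zero _)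
  rw [← hz, ← hw]
  exact congr(($(cokernel.condition a)).app V w)

theorem nonempty_isColimit (hF : Coh.IsQCoh F) : Nonempty (IsColimit (cocone F)) := by
  let c₀ := colimit.cocone (diag F)
  have hc₀ : IsColimit c₀ := colimit.isColimit _
  have hD : ∀ i, Coh.IsQCoh ((diag F).obj i) := fun i => QCoh.isQCoh_of_isFP (isFP_diag F i)
  have hpt := QCohColim92.isQCoh_pt hD hc₀
  let d : c₀.pt ⟶ F := hc₀.desc (cocone F)
  have hfac : ∀ (i : IdxCat F) (O : X.Opens) t, d.app O ((c₀.ι.app i).app O t) = ((cocone F).ι.app i).app O t :=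
    fun i O t => congr(($(hc₀.fac (cocone F) i)).app O t)
  have hb : ∀ O : X.Opens, Function.Bijective (d.app O) := fun O =>
    FPExtend.bijective_app_of_locally d fun x hx => ⟨O, hx, le_rfl, fun V hV _ =>
      ⟨(injective_iff_map_eq_zero _).2 fun y hy => by
        obtain ⟨i, t, rfl⟩ := QCohColim92.exists_rep hD hc₀ hV y
        obtain ⟨j, f, hj⟩ := exists_kill F hF hV i t ((hfac i V t).symm.trans hy)
        rw [← c₀.w f]
        exact (congrArg ((c₀.ι.app j).app V) hj).trans (map_zero _),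
      fun y => by
        obtain ⟨i, t, ht⟩ := exists_surj F hF hV y
        exact ⟨_, (hfac i V t).trans ht⟩⟩⟩
  haveI : IsIso d := Scheme.Modules.Hom.isIso_iff_isIso_app.2 fun O => (ConcreteCategory.isIso_iff_bijective _).2 (hb O)
  haveI : IsIso (hc₀.desc (cocone F)) := this
  exact ⟨hc₀.ofPointIso (t := cocone F)⟩

end Groth.Agent.LimitsH94.FPColim
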