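import Groth.Agent.LimitsH94.FPExtend2
import Groth.Agent.RelTildeX.SheafCrit

/-! Finitely presented modules surjecting onto modules of finite type; stages of finitely presented modules. -/

set_option autoImplicit false
set_option backward.isDefEq.respectTransparency false
set_option backward.isDefEq.respectTransparency.types false
set_option linter.style.haveILetI false
universe u

open CategoryTheory Limits AlgebraicGeometry TopologicalSpace

namespace Groth.Agent.LimitsH94.FPExtend

variable {X : Scheme.{u}}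

/-- A map of quasi-coherent modules which is surjective on the members of an affine cover is an epimorphism. -/
theorem epi_of_surjective_cover {M N : X.Modules} (hN : Coh.IsQCoh N) (φ : M ⟶ N)
    {ι : Type*} (U : ι → X.Opens) (hU : ∀ i, IsAffineOpen (U i)) (hcov : ∀ x : X, ∃ i, x ∈ U i)
    (h : ∀ i, Function.Surjective (φ.app (U i))) : Epi φ := by
  refine RelTildeX.epi_of_locally φ fun W s x hx => ?_
  obtain ⟨i, hxi⟩ := hcov x
  obtain ⟨V, hV, hxV, hVle⟩ := exists_isAffineOpen_mem_and_subset (x := x) (U := W ⊓ U i) ⟨hx, hxi⟩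
  refine ⟨V, fun y hy => (hVle hy).1, hxV, ?_⟩
  have hle : V ≤ U i := fun y hy => (hVle hy).2
  letI := (X.presheaf.map (homOfLE hle).op).hom.toAlgebra
  letI : Module Γ(X, U i) Γ(N, V) := Module.compHom _ (X.presheaf.map (homOfLE hle).op).hom
  haveI : IsScalarTower Γ(X, U i) Γ(X, V) Γ(N, V) := IsScalarTower.of_algebraMap_smul fun _ _ => rfl
  let r : Γ(N, U i) →ₗ[Γ(X, U i)] Γ(N, V) :=
    { toFun := N.presheaf.map (homOfLE hle).op
      map_add' := map_add _
      map_smul' := fun a x => Scheme.Modules.map_smul N _ a x }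
  have hr := FormalSch78.isBaseChange_res hN (hU i) hV hle (fun _ => rfl) r fun _ => rfl
  have key : ∀ y : Γ(N, V), ∃ t : Γ(M, V), φ.app V t = y := by
    intro y
    induction y using hr.inductionOn with
    | zero => exact ⟨0, map_zero _⟩
    | add a b ha hb =>
      obtain ⟨t, rfl⟩ := ha
      obtain ⟨t', rfl⟩ := hb
      exact ⟨t + t', map_add _ _ _⟩
    | smul a y hy =>
      obtain ⟨t, rfl⟩ := hy
      exact ⟨a • t, Scheme.Modules.Hom.app_smul _ _ _⟩
    | tmul y =>
      obtain ⟨t, rfl⟩ := h i y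
      exact ⟨M.presheaf.map (homOfLE hle).op t, QCoh.map_app_comm φ (homOfLE hle) t⟩
  exact key _

theorem surjective_app_of_image {M N : X.Modules} (φ : M ⟶ N) {O : X.Opens} (S : Set Γ(N, O))
    (hS : Submodule.span Γ(X, O) S = ⊤) (h : ∀ s ∈ S, ∃ t, φ.app O t = s) :
    Function.Surjective (φ.app O) := by
  have : LinearMap.range (QCoh.appLin φ O) = ⊤ :=
    top_le_iff.1 (hS.ge.trans (Submodule.span_le.2 fun s hs => h s hs))
  exact fun y => this.ge (Submodule.mem_top (x := y))

variable [CompactSpace X] [QuasiSeparatedSpace X]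

/-- Every module of finite type is a quotient of a finitely presented one. -/
theorem exists_fp_surjective {A : X.Modules} (hA : Coh.IsQCoh A) (hAt : CohB1.IsFT A) (s : Finset X.affineOpens) :
    ∃ (E : X.Modules) (e : E ⟶ A), CohB1.IsFP E ∧ ∀ V ∈ s, Function.Surjective (e.app V.1) := by
  classical
  induction s using Finset.induction_on with
  | empty =>
    obtain ⟨E, e, hE, -⟩ := exists_hom_hitting A ∅
    exact ⟨E, e, hE, by simp⟩
  | insert V t _ ih =>
    obtain ⟨E, e, hE, he⟩ := ih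
    haveI : IsAffine V.1 := V.2
    haveI : CompactSpace V.1 := Scheme.compactSpace_of_isAffine _
    have hr : V.1 ≤ V.1.ι.opensRange := V.1.opensRange_ι.ge
    have hA' := QCoh.isQCoh_restrict V.1.ι hA
    haveI := QCoh.finite_of_isFT hA hAt V.2
    obtain ⟨T, hT⟩ := Module.Finite.fg_top (R := Γ(X, V.1)) (M := Γ(A, V.1))
    -- the generators as sections of the restriction
    have htop : V.1.ι ''ᵁ ⊤ = V.1 := by simp
    let tr : Γ(A, V.1) → Γ(A.restrict V.1.ι, ⊤) := fun a =>
      (A.restrictAppIso V.1.ι ⊤).inv (A.presheaf.map (eqToHom htop).op a)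
    obtain ⟨E₀, e₀, hE₀, he₀⟩ := exists_hom_hitting (A.restrict V.1.ι) (T.image tr)
    obtain ⟨G', φ', i, hG', hi⟩ := exists_extension hA V.2.isCompact hE₀ e₀
    have hsurj : Function.Surjective (φ'.app V.1) := by
      refine surjective_app_of_image φ' T hT fun a ha => ?_
      obtain ⟨z, hz⟩ := he₀ (tr a) (Finset.mem_image_of_mem _ ha)
      have h1 : φ'.app (V.1.ι ''ᵁ ⊤) (i.inv.app ⊤ z) = A.presheaf.map (eqToHom htop).op a := by
        have h2 : i.inv ≫ (Scheme.Modules.restrictFunctor V.1.ι).map φ' = e₀ := by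
          rw [← hi, i.inv_hom_id_assoc]
        exact (congr(($h2).app ⊤ z)).trans hz
      refine ⟨G'.presheaf.map (eqToHom htop.symm).op (i.inv.app ⊤ z), ?_⟩
      refine (QCoh.map_app_comm φ' (eqToHom htop.symm) _).trans ?_
      refine (congrArg (A.presheaf.map (eqToHom htop.symm).op) h1).trans ?_
      exact (QCoh.map_map _ _ a).trans (QCoh.map_id' _ a)
    refine ⟨E ⊞ G', biprod.desc e φ', isFP_biprod hE hG', fun V' hV' a => ?_⟩
    rcases Finset.mem_insert.1 hV' with rfl | h
    · obtain ⟨z, rfl⟩ := hsurj a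
      exact ⟨(biprod.inr : G' ⟶ E ⊞ G').app _ z, congr(($(biprod.inr_desc e φ')).app _ z)⟩
    · obtain ⟨z, rfl⟩ := he V' h a
      exact ⟨(biprod.inl : E ⟶ E ⊞ G').app _ z, congr(($(biprod.inl_desc e φ')).app _ z)⟩

omit [CompactSpace X] [QuasiSeparatedSpace X] in
/-- A submodule of finite type containing given finite sets of sections. -/
theorem exists_ft_contains [CompactSpace X] [QuasiSeparatedSpace X] {H : X.Modules} (hH : Coh.IsQCoh H)
    (s : Finset X.affineOpens) (T : ∀ V : X.affineOpens, Finset Γ(H, V.1)) :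
    ∃ N : QCoh.SubMod H, QCoh.FTOn N ⊤ ∧ ∀ V ∈ s, (T V : Set Γ(H, V.1)) ⊆ N.mem V.1 := by
  classical
  induction s using Finset.induction_on with
  | empty =>
    obtain ⟨⟨N₀, h0⟩⟩ := (inferInstance : Nonempty (QcqsColim.FTIndex H))
    exact ⟨N₀, h0, by simp⟩
  | insert V t _ ih =>
    obtain ⟨N₁, h1, h2⟩ := ih
    obtain ⟨N₂, h3, h4⟩ := QCoh.exists_ftOn_contains hH V.2 (QCoh.extStep_qcqs V.2.isCompact)
      (T V : Set Γ(H, V.1)) (T V).finite_toSet
    refine ⟨QcqsColim.supSub N₁ N₂, QcqsColim.ftOn_supSub h1 h3, fun V' hV' a ha => ?_⟩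
    rcases Finset.mem_insert.1 hV' with rfl | h
    · exact QcqsColim.mem_supSub_right _ _ _ (h4 ha)
    · exact QcqsColim.mem_supSub_left _ _ _ (h2 V' h ha)

omit [QuasiSeparatedSpace X] in
/-- A finite affine cover. -/
theorem exists_finset_cover : ∃ s : Finset X.affineOpens, ∀ x : X, ∃ V ∈ s, x ∈ V.1 := by
  obtain ⟨t, ht⟩ := isCompact_univ.elim_finite_subcover (fun V : X.affineOpens => (V.1 : Set X))
    (fun V => V.1.2) fun x _ => by
      obtain ⟨V, hV, hxV, -⟩ := exists_isAffineOpen_mem_and_subset (x := x) (U := ⊤) trivial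
      exact Set.mem_iUnion.2 ⟨⟨V, hV⟩, hxV⟩
  exact ⟨t, fun x => by simpa using ht (Set.mem_univ x)⟩

omit [CompactSpace X] [QuasiSeparatedSpace X] in
/-- For an affine morphism, every module of finite type upstairs is a quotient of the inverse image of a
finitely presented module. -/
theorem exists_pullback_epi [CompactSpace X] [QuasiSeparatedSpace X] {Y : Scheme.{u}} (π : Y ⟶ X)
    [IsAffineHom π] {F : Y.Modules} (hF : Coh.IsQCoh F) (hFt : CohB1.IsFT F) :
    ∃ (E : X.Modules) (p : (Scheme.Modules.pullback π).obj E ⟶ F), CohB1.IsFP E ∧ Epi p := by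
  classical
  obtain ⟨s, hs⟩ := exists_finset_cover (X := X)
  let adj := Scheme.Modules.pullbackPushforwardAdjunction π
  have hgen : ∀ V : X.affineOpens, ∃ T : Finset Γ(F, π ⁻¹ᵁ V.1),
      Submodule.span Γ(Y, π ⁻¹ᵁ V.1) (T : Set Γ(F, π ⁻¹ᵁ V.1)) = ⊤ := fun V =>
    (QCoh.finite_of_isFT hF hFt (V.2.preimage π)).fg_top
  choose T hT using hgen
  have hH := QCoh.isQCoh_pushforward π hF
  obtain ⟨N, hN, hTN⟩ := exists_ft_contains hH s (fun V => T V)
  obtain ⟨E, e, hE, he⟩ := exists_fp_surjective (QCoh.isQCoh_of_ftOn hH hN) (QCoh.isFT_of_ftOn hH hN) s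
  let p := (adj.homEquiv E F).symm (e ≫ N.ι)
  refine ⟨E, p, hE, ?_⟩
  refine epi_of_surjective_cover hF p (fun V : s => π ⁻¹ᵁ V.1.1) (fun V => V.1.2.preimage π)
    (fun y => by obtain ⟨V, hV, hy⟩ := hs (π y); exact ⟨⟨V, hV⟩, hy⟩) fun V => ?_
  refine surjective_app_of_image p _ (hT V.1) fun a ha => ?_
  obtain ⟨b, hb⟩ := N.exists_app_eq (hTN V.1 V.2 ha)
  obtain ⟨z, hz⟩ := he V.1 V.2 b
  refine ⟨(adj.unit.app E).app V.1.1 z, ?_⟩
  have h1 : adj.unit.app E ≫ (Scheme.Modules.pushforward π).map p = e ≫ N.ι := by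
    exact (adj.homEquiv_unit (f := p)).symm.trans (Equiv.apply_symm_apply _ _)
  refine (congr(($h1).app V.1.1 z) : _).trans ?_
  rw [← hb, ← hz]
  rfl

end Groth.Agent.LimitsH94.FPExtend
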