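import Groth.Agent.MorLib.IdealFG2
import Groth.Agent.DirColim.Basic
import Groth.Agent.QCoh.PullbackBC
import Groth.Agent.QCoh.SubCompare
import Groth.Agent.QCoh.FT

/-! Sections of pullbacks of quasi-coherent modules along an affine cofiltered limit. -/

set_option autoImplicit false
set_option linter.style.haveILetI false
universe u

namespace Groth.Agent.LimitsH94.LM

open CategoryTheory Limits AlgebraicGeometry TopologicalSpace TensorProduct

variable {I : Type u} [SmallCategory I] [IsCofiltered I] {D : I ⥤ Scheme.{u}} {c : Cone D}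
  [∀ (a b : I) (f : a ⟶ b), IsAffineHom (D.map f)] {i : I}

instance isAffineHom_map' {a b : I} (f : a ⟶ b) : IsAffineHom (D.map f) := inferInstance

section Chart

variable (c) (U : (D.obj i).Opens)

/-- Sections over the preimage of `U` at a stage over `i`. -/
abbrev Sec (j : Over i) : Type u := Γ(D.obj j.left, D.map j.hom ⁻¹ᵁ U)

/-- Sections over the preimage of `U` in the limit. -/
abbrev SecLim : Type u := Γ(c.pt, c.π.app i ⁻¹ᵁ U)

noncomputable instance algSec (j : Over i) : Algebra Γ(D.obj i, U) (Sec U j) :=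
  ((D.map j.hom).app U).hom.toAlgebra

noncomputable instance algLim : Algebra Γ(D.obj i, U) (SecLim c U) :=
  ((c.π.app i).app U).hom.toAlgebra

omit [IsCofiltered I] [∀ (a b : I) (f : a ⟶ b), IsAffineHom (D.map f)] in
theorem le_π (j : Over i) : c.π.app i ⁻¹ᵁ U ≤ c.π.app j.left ⁻¹ᵁ (D.map j.hom ⁻¹ᵁ U) := by
  rw [← Scheme.Hom.comp_preimage, c.w]

/-- The map from a stage to the limit. -/
noncomputable def g (j : Over i) : Sec U j →ₐ[Γ(D.obj i, U)] SecLim c U where
  __ := ((c.π.app j.left).appLE (D.map j.hom ⁻¹ᵁ U) (c.π.app i ⁻¹ᵁ U) (le_π c U j)).hom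
  commutes' r := by
    have := MorLib.IdealFG.appLE_appLE_apply (c.π.app j.left) (D.map j.hom) (c.π.app i) (c.w j.hom)
      (U := U) (V := D.map j.hom ⁻¹ᵁ U) le_rfl (le_π c U j) le_rfl r
    rw [Scheme.Hom.appLE_eq_app] at this
    exact this.trans (by rw [Scheme.Hom.appLE_eq_app]; rfl)

omit [IsCofiltered I] [∀ (a b : I) (f : a ⟶ b), IsAffineHom (D.map f)] in
theorem le_map {j k : Over i} (f : k ⟶ j) :
    D.map k.hom ⁻¹ᵁ U ≤ D.map f.left ⁻¹ᵁ (D.map j.hom ⁻¹ᵁ U) := by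
  rw [← Scheme.Hom.comp_preimage, ← D.map_comp, Over.w]

/-- The transition between stages. -/
noncomputable def tr {j k : Over i} (f : k ⟶ j) : DirColim.Trans (g c U) j k :=
  ⟨{ __ := ((D.map f.left).appLE (D.map j.hom ⁻¹ᵁ U) (D.map k.hom ⁻¹ᵁ U) (le_map U f)).hom
     commutes' := fun r => by
      have := MorLib.IdealFG.appLE_appLE_apply (D.map f.left) (D.map j.hom) (D.map k.hom)
        (by rw [← D.map_comp, Over.w]) (U := U) (V := D.map j.hom ⁻¹ᵁ U) le_rfl (le_map U f) le_rfl r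
      rw [Scheme.Hom.appLE_eq_app] at this
      exact this.trans (by rw [Scheme.Hom.appLE_eq_app]; rfl) },
    AlgHom.ext fun x => MorLib.IdealFG.appLE_appLE_apply (c.π.app k.left) (D.map f.left) (c.π.app j.left)
      (c.w f.left) (le_map U f) (le_π c U k) (le_π c U j) x⟩

variable {c U}

theorem exists_le (j k : Over i) : ∃ l : Over i, Nonempty (l ⟶ j) ∧ Nonempty (l ⟶ k) := by
  obtain ⟨l, p, q, -⟩ := IsCofilteredOrEmpty.cone_objs j.left k.left
  obtain ⟨m, r, hr⟩ := IsCofilteredOrEmpty.cone_maps (p ≫ j.hom) (q ≫ k.hom)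
  exact ⟨Over.mk (r ≫ p ≫ j.hom), ⟨Over.homMk (r ≫ p) (Category.assoc _ _ _)⟩,
    ⟨Over.homMk (r ≫ q) ((Category.assoc _ _ _).trans hr.symm)⟩⟩

theorem exists_le_all {β : Type*} (s : Finset β) (j : β → Over i) :
    ∃ l : Over i, ∀ b ∈ s, Nonempty (l ⟶ j b) := by
  classical
  induction s using Finset.induction_on with
  | empty => exact ⟨Over.mk (𝟙 i), by simp⟩
  | insert b s _ ih =>
    obtain ⟨l, hl⟩ := ih
    obtain ⟨m, ⟨p⟩, ⟨q⟩⟩ := exists_le l (j b)
    refine ⟨m, fun b' hb' => ?_⟩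
    rcases Finset.mem_insert.mp hb' with rfl | hb'
    · exact ⟨q⟩
    · obtain ⟨r⟩ := hl b' hb'
      exact ⟨p ≫ r⟩

theorem isColim (hc : IsLimit c) (hU : IsAffineOpen U) : DirColim.IsColim (g c U) where
  surj a := by
    obtain ⟨j, f, t, e, ht⟩ := MorLib.IdealFG.exists_appLE_π_eq hc hU a
    exact ⟨Over.mk f, t, ht⟩
  directed j k := by
    obtain ⟨l, ⟨p⟩, ⟨q⟩⟩ := exists_le (i := i) j k
    exact ⟨l, ⟨tr c U p⟩, ⟨tr c U q⟩⟩
  ker j x hx := by
    have h0 : (c.π.app j.left).app (D.map j.hom ⁻¹ᵁ U) x = 0 := by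
      have e : c.π.app j.left ⁻¹ᵁ (D.map j.hom ⁻¹ᵁ U) = c.π.app i ⁻¹ᵁ U := by
        rw [← Scheme.Hom.comp_preimage, c.w]
      have h : c.pt.presheaf.map (homOfLE (le_π c U j)).op
          ((c.π.app j.left).app (D.map j.hom ⁻¹ᵁ U) x) = 0 := hx
      have h' := congrArg (c.pt.presheaf.map (homOfLE e.le).op) h
      rw [map_zero] at h'
      exact ((QCoh.ringMap_map (X := c.pt) (homOfLE e.le) (homOfLE (le_π c U j)) _).trans
        (QCoh.ringMap_id (X := c.pt) _ _)).symm.trans h'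
    obtain ⟨k, f, hf⟩ := exists_app_map_eq_zero_of_isLimit D c hc (hU.preimage (D.map j.hom)).isCompact x h0
    let p : Over.mk (f ≫ j.hom) ⟶ j := Over.homMk f rfl
    refine ⟨Over.mk (f ≫ j.hom), tr c U p, ?_⟩
    show (D.map f).appLE _ _ (le_map U p) x = 0
    show (D.obj _).presheaf.map _ ((D.map f).app _ x) = 0
    rw [hf, map_zero]

end Chart

section Pull

variable {X X' : Scheme.{u}} (φ : X' ⟶ X) {M : X.Modules}

/-- A section dies in an affine inverse image iff it dies in the tensor product. -/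
theorem pullSec_eq_zero_iff (hM : Coh.IsQCoh M) {V : X.Opens} (hV : IsAffineOpen V)
    {W : X'.Opens} (hW : IsAffineOpen W) (hle : W ≤ φ ⁻¹ᵁ V) [Algebra Γ(X, V) Γ(X', W)]
    (halg : ∀ r, algebraMap Γ(X, V) Γ(X', W) r = φ.appLE V W hle r) (x : Γ(M, V)) :
    QCoh.pullSec φ M hle x = 0 ↔ x ⊗ₜ[Γ(X, V)] (1 : Γ(X', W)) = 0 := by
  letI : Module Γ(X, V) Γ((Scheme.Modules.pullback φ).obj M, W) :=
    Module.compHom _ (algebraMap Γ(X, V) Γ(X', W))
  haveI : IsScalarTower Γ(X, V) Γ(X', W) Γ((Scheme.Modules.pullback φ).obj M, W) :=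
    IsScalarTower.of_algebraMap_smul fun _ _ => rfl
  let l : Γ(M, V) →ₗ[Γ(X, V)] Γ((Scheme.Modules.pullback φ).obj M, W) :=
    { toFun := QCoh.pullSec φ M hle
      map_add' := QCoh.pullSec_add φ M hle
      map_smul' := fun r x => (QCoh.pullSec_smul φ M hle r x).trans (by
        rw [← halg]
        rfl) }
  have hl := QCoh.isBaseChange_pullback hV φ hW hM hle halg l fun _ => rfl
  rw [show QCoh.pullSec φ M hle x = hl.equiv (1 ⊗ₜ x) by rw [hl.equiv_tmul, one_smul]; rfl,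
    map_eq_zero_iff _ hl.equiv.injective,
    ← map_eq_zero_iff _ (TensorProduct.comm Γ(X, V) Γ(X', W) Γ(M, V)).injective,
    TensorProduct.comm_tmul]

/-- Pulled back sections span. -/
theorem span_pullSec (hM : Coh.IsQCoh M) {V : X.Opens} (hV : IsAffineOpen V)
    {W : X'.Opens} (hW : IsAffineOpen W) (hle : W ≤ φ ⁻¹ᵁ V) {T : Set Γ(M, V)}
    (hT : Submodule.span Γ(X, V) T = ⊤) :
    Submodule.span Γ(X', W) (QCoh.pullSec φ M hle '' T) = ⊤ := by
  letI : Algebra Γ(X, V) Γ(X', W) := (φ.appLE V W hle).hom.toAlgebra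
  letI : Module Γ(X, V) Γ((Scheme.Modules.pullback φ).obj M, W) :=
    Module.compHom _ (algebraMap Γ(X, V) Γ(X', W))
  haveI : IsScalarTower Γ(X, V) Γ(X', W) Γ((Scheme.Modules.pullback φ).obj M, W) :=
    IsScalarTower.of_algebraMap_smul fun _ _ => rfl
  let l : Γ(M, V) →ₗ[Γ(X, V)] Γ((Scheme.Modules.pullback φ).obj M, W) :=
    { toFun := QCoh.pullSec φ M hle
      map_add' := QCoh.pullSec_add φ M hle
      map_smul' := fun r x => QCoh.pullSec_smul φ M hle r x }
  have hl := QCoh.isBaseChange_pullback hV φ hW hM hle (fun _ => rfl) l fun _ => rfl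
  refine top_le_iff.mp fun y hy => ?_
  clear hy
  induction y using hl.inductionOn with
  | zero => exact zero_mem _
  | add a b ha hb => exact add_mem ha hb
  | smul r a ha => exact Submodule.smul_mem _ r ha
  | tmul m =>
    have hm : m ∈ Submodule.span Γ(X, V) T := hT ▸ Submodule.mem_top
    induction hm using Submodule.span_induction with
    | mem z hz => exact Submodule.subset_span ⟨z, hz, rfl⟩
    | zero => rw [map_zero]; exact zero_mem _
    | add a b _ _ ha hb => rw [map_add]; exact add_mem ha hb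
    | smul r a _ ha => rw [map_smul, ← algebraMap_smul Γ(X', W)]; exact Submodule.smul_mem _ _ ha

theorem pullSec_map {N : X.Modules} (h : M ⟶ N) {V : X.Opens} {W : X'.Opens} (hle : W ≤ φ ⁻¹ᵁ V)
    (x : Γ(M, V)) :
    ((Scheme.Modules.pullback φ).map h).app W (QCoh.pullSec φ M hle x) =
      QCoh.pullSec φ N hle (h.app V x) := by
  unfold QCoh.pullSec
  rw [QCoh.map_app_comm]
  refine congrArg _ ?_
  exact (congr(($((Scheme.Modules.pullbackPushforwardAdjunction φ).unit.naturality h)).app V x) : _).symm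

end Pull

variable {F G : (D.obj i).Modules}

theorem exists_stage_pullSec_eq_zero (hc : IsLimit c) (hG : Coh.IsQCoh G) {U : (D.obj i).Opens}
    (hU : IsAffineOpen U) (T : Finset Γ(G, U))
    (h : ∀ x ∈ T, QCoh.pullSec (c.π.app i) G le_rfl x = 0) :
    ∃ j : Over i, ∀ k : Over i, ∀ (_ : k ⟶ j), ∀ x ∈ T, QCoh.pullSec (D.map k.hom) G le_rfl x = 0 := by
  classical
  haveI : IsAffineHom (c.π.app i) := isAffineHom_π_app D c hc i
  have hG' := isColim hc hU
  have key : ∀ x ∈ T, ∃ j : Over i, ∀ k : Over i, ∀ (_ : k ⟶ j),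
      QCoh.pullSec (D.map k.hom) G le_rfl x = 0 := by
    intro x hx
    let j₀ : Over i := Over.mk (𝟙 i)
    obtain ⟨j, ψ, hψ⟩ := hG'.exists_tensor_eq_zero Γ(G, U) j₀ (x ⊗ₜ 1) (by
      rw [LinearMap.lTensor_tmul, AlgHom.toLinearMap_apply, map_one]
      exact (pullSec_eq_zero_iff (X' := c.pt) (c.π.app i) hG hU (hU.preimage (c.π.app i)) le_rfl
        (fun r => by rw [Scheme.Hom.appLE_eq_app]; rfl) x).mp (h x hx))
    refine ⟨j, fun k f => (pullSec_eq_zero_iff (D.map k.hom) hG hU (hU.preimage _) le_rfl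
      (fun r => by rw [Scheme.Hom.appLE_eq_app]; rfl) x).mpr ?_⟩
    have := congrArg ((tr c U f).1.toLinearMap.lTensor Γ(G, U)) hψ
    simpa using this
  haveI : Nonempty (Over i) := ⟨Over.mk (𝟙 i)⟩
  choose! j hj using key
  obtain ⟨l, hl⟩ := exists_le_all T j
  exact ⟨l, fun k f x hx => hj x hx k (f ≫ (hl x hx).some)⟩

/-- A map out of a module of finite type which dies in the limit dies at a stage. -/
theorem exists_stage_map_eq_zero (hc : IsLimit c) [CompactSpace (D.obj i)] (hF : Coh.IsQCoh F)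
    (hG : Coh.IsQCoh G) (hFt : CohB1.IsFT F) (h : F ⟶ G)
    (h0 : (Scheme.Modules.pullback (c.π.app i)).map h = 0) :
    ∃ (j : I) (φ : j ⟶ i), (Scheme.Modules.pullback (D.map φ)).map h = 0 := by
  classical
  haveI : IsAffineHom (c.π.app i) := isAffineHom_π_app D c hc i
  obtain ⟨S, hS, hcov⟩ : ∃ S : Set (D.obj i).affineOpens, S.Finite ∧
      (Set.univ : Set (D.obj i)) ⊆ ⋃ U ∈ S, (U.1 : Set (D.obj i)) := by
    obtain ⟨S, hS⟩ := isCompact_univ.elim_finite_subcover (fun U : (D.obj i).affineOpens => (U.1 : Set (D.obj i)))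
      (fun U => U.1.2) (fun x _ => by
        obtain ⟨_, ⟨U, hU, rfl⟩, hx, -⟩ := (D.obj i).isBasis_affineOpens.exists_subset_of_mem_open
          (Set.mem_univ x) isOpen_univ
        exact Set.mem_iUnion.mpr ⟨⟨U, hU⟩, hx⟩)
    exact ⟨S, S.finite_toSet, by simpa using hS⟩
  have key : ∀ U : (D.obj i).affineOpens, ∃ (j : Over i), ∀ k : Over i, ∀ (_ : k ⟶ j),
      ∀ y, ((Scheme.Modules.pullback (D.map k.hom)).map h).app (D.map k.hom ⁻¹ᵁ U.1) y = 0 := by
    intro U
    obtain ⟨T, hT⟩ := (QCoh.finite_of_isFT hF hFt U.2).fg_top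
    obtain ⟨j, hj⟩ := exists_stage_pullSec_eq_zero hc hG U.2 (T.image (h.app U.1)) fun x hx => by
      obtain ⟨m, -, rfl⟩ := Finset.mem_image.mp hx
      rw [← pullSec_map, h0]
      rfl
    refine ⟨j, fun k f y => ?_⟩
    have hspan := span_pullSec (D.map k.hom) hF U.2 (U.2.preimage (D.map k.hom)) le_rfl hT
    have hker : Submodule.span _ (QCoh.pullSec (D.map k.hom) F (le_refl (D.map k.hom ⁻¹ᵁ U.1)) '' (T : Set Γ(F, U.1))) ≤
        LinearMap.ker (QCoh.appLin ((Scheme.Modules.pullback (D.map k.hom)).map h) (D.map k.hom ⁻¹ᵁ U.1)) := by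
      rw [Submodule.span_le]
      rintro _ ⟨m, hm, rfl⟩
      exact (pullSec_map (D.map k.hom) h le_rfl m).trans (hj k f _ (Finset.mem_image_of_mem _ hm))
    exact hker (hspan ▸ Submodule.mem_top)
  choose j hj using key
  obtain ⟨l, hl⟩ := exists_le_all hS.toFinset j
  refine ⟨l.left, l.hom, QCoh.hom_eq_zero_of_cover (QCoh.isQCoh_pullback _ hF) (QCoh.isQCoh_pullback _ hG) _
    (fun U : S => D.map l.hom ⁻¹ᵁ U.1.1) (fun U => U.1.2.preimage _) (fun x => ?_) fun U y => ?_⟩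
  · obtain ⟨U, hU, hx⟩ := Set.mem_iUnion₂.mp (hcov (Set.mem_univ (D.map l.hom x)))
    exact ⟨⟨U, hU⟩, hx⟩
  · exact hj U.1 l (hl U.1 (hS.mem_toFinset.mpr U.2)).some y

end Groth.Agent.LimitsH94.LM
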