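import Groth.Agent.LimitsH94.LimHom
import Groth.Agent.QcqsColim.FTSub

/-! Isomorphisms and finitely presented quotients descend to a stage of an affine cofiltered limit. -/

set_option autoImplicit false
set_option backward.isDefEq.respectTransparency false
set_option backward.isDefEq.respectTransparency.types false
set_option linter.style.haveILetI false
universe u

open CategoryTheory Limits AlgebraicGeometry TopologicalSpace TensorProduct

namespace Groth.Agent.LimitsH94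

section Gen

variable {X : Scheme.{u}} {A B C : X.Modules}

/-- Sections in the kernel of a morphism come from the kernel. -/
theorem exists_kernel_section (hA : Coh.IsQCoh A) (hB : Coh.IsQCoh B) (f : A ⟶ B) {U : X.Opens}
    {x : Γ(A, U)} (hx : f.app U x = 0) : ∃ z : Γ(kernel f, U), (kernel.ι f).app U z = x := by
  haveI : Mono (Abelian.factorThruCoimage f) := inferInstance
  obtain ⟨z, hz⟩ := (QCoh.mem_range_iff_cokernel (kernel.ι f) U x).1
    (QCoh.app_injective (Abelian.factorThruCoimage f) U (by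
      rw [map_zero]
      exact (congr(($(Abelian.coimage.fac f)).app U x)).trans hx))
  exact ⟨z, hz⟩

theorem exists_preimage_of_cokernel (hA : Coh.IsQCoh A) (hB : Coh.IsQCoh B) (a : A ⟶ B) {U : X.Opens}
    (hU : IsAffineOpen U) {x : Γ(B, U)} (hx : (cokernel.π a).app U x = 0) : ∃ z, a.app U z = x := by
  have hI : Coh.IsQCoh (Abelian.image a) := QCoh.isQCoh_kernel hB (QCoh.isQCoh_cokernel hA hB a) _
  obtain ⟨y, hy⟩ := exists_kernel_section hB (QCoh.isQCoh_cokernel hA hB a) (cokernel.π a) hx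
  obtain ⟨z, hz⟩ := QCoh.app_surjective_of_epi hA hI (Abelian.factorThruImage a) hU y
  refine ⟨z, ?_⟩
  rw [← hy, ← hz]
  exact (congr(($(Abelian.image.fac a)).app U z)).symm

theorem isFP_cokernel (hA : Coh.IsQCoh A) (hAt : CohB1.IsFT A) (hB : Coh.IsQCoh B) (hBp : CohB1.IsFP B)
    (a : A ⟶ B) : CohB1.IsFP (cokernel a) := by
  refine QCoh.isFP_of_finitePresentation (QCoh.isQCoh_cokernel hA hB a) (fun U : X.affineOpens => U.1)
    (iSup_affineOpens_eq_top X) (fun U => U.2) fun U => ?_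
  haveI := QCoh.finitePresentation_of_isFP hBp U.2
  haveI := QCoh.finite_of_isFT hA hAt U.2
  have hker : LinearMap.ker (QCoh.appLin (cokernel.π a) U.1) = LinearMap.range (QCoh.appLin a U.1) := by
    refine le_antisymm (fun x hx => exists_preimage_of_cokernel hA hB a U.2 hx) ?_
    rintro _ ⟨z, rfl⟩
    exact congr(($(cokernel.condition a)).app U.1 z)
  exact Module.finitePresentation_of_surjective (QCoh.appLin (cokernel.π a) U.1)
    (QCoh.app_surjective_of_epi hB (QCoh.isQCoh_cokernel hA hB a) _ U.2) (by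
      rw [hker]; exact Module.Finite.iff_fg.1 (Module.Finite.range (QCoh.appLin a U.1)))

theorem exists_kernel_gens (hA : Coh.IsQCoh A) (hAp : CohB1.IsFP A) (hB : Coh.IsQCoh B) (hBp : CohB1.IsFP B)
    (p : A ⟶ B) [Epi p] {W : X.Opens} (hW : IsAffineOpen W) :
    ∃ T : Finset Γ(A, W), (∀ y ∈ T, p.app W y = 0) ∧
      ∀ y, p.app W y = 0 → y ∈ Submodule.span Γ(X, W) (T : Set Γ(A, W)) := by
  haveI : Module.FinitePresentation Γ(X, W) Γ(A, W) := QCoh.finitePresentation_of_isFP hAp hW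
  haveI : Module.FinitePresentation Γ(X, W) Γ(B, W) := QCoh.finitePresentation_of_isFP hBp hW
  have hfg : (LinearMap.ker (QCoh.appLin p W)).FG :=
    Module.FinitePresentation.fg_ker _ (QCoh.app_surjective_of_epi hA hB p hW)
  obtain ⟨T, hT⟩ := hfg
  exact ⟨T, fun y hy => hT.le (Submodule.subset_span hy), fun y hy => hT.ge hy⟩

end Gen

namespace LimHom

variable {I : Type u} [SmallCategory I] {D : I ⥤ Scheme.{u}} {c : Cone D} {i : I}
  [IsCofiltered I] [∀ (a b : I) (f : a ⟶ b), IsAffineHom (D.map f)]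
  {F G : (D.obj i).Modules}

theorem nonempty_iso_iff (hc : IsLimit c) [CompactSpace (D.obj i)] [QuasiSeparatedSpace (D.obj i)]
    (hF : Coh.IsQCoh F) (hFp : CohB1.IsFP F) (hG : Coh.IsQCoh G) (hGp : CohB1.IsFP G) :
    Nonempty ((Scheme.Modules.pullback (c.π.app i)).obj F ≅ (Scheme.Modules.pullback (c.π.app i)).obj G) ↔
      ∃ (j : I) (φ : j ⟶ i),
        Nonempty ((Scheme.Modules.pullback (D.map φ)).obj F ≅ (Scheme.Modules.pullback (D.map φ)).obj G) := by
  constructor
  · rintro ⟨e⟩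
    obtain ⟨j, φ, hj, he⟩ := exists_stage_hom hG hc hF hFp e.hom
    haveI := LM.compactSpace_obj (D := D) φ
    haveI : IsIso ((Scheme.Modules.pullback (c.π.app j)).map hj) := by
      have h2 : (Scheme.Modules.pullback (c.π.app j)).map hj =
          (LM.limIso c φ).hom.app F ≫ e.hom ≫ (LM.limIso c φ).inv.app G := by simp [← he]
      rw [h2]
      infer_instance
    obtain ⟨k, ψ, hk⟩ := LM.exists_stage_isIso hc (QCoh.isQCoh_pullback _ hF)
      (LM.isFT_pullback _ hF (QCoh.isFT_of_isFP hFp)) (QCoh.isQCoh_pullback _ hG) (LM.isFP_pullback _ hGp) hj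
    exact ⟨k, ψ ≫ φ, ⟨((LM.compIso φ ψ).app F).symm ≪≫ @asIso _ _ _ _ _ hk ≪≫ (LM.compIso φ ψ).app G⟩⟩
  · rintro ⟨j, φ, ⟨e⟩⟩
    exact ⟨((LM.limIso c φ).app F).symm ≪≫ (Scheme.Modules.pullback (c.π.app j)).mapIso e ≪≫
      (LM.limIso c φ).app G⟩

variable {Q : c.pt.Modules}

set_option maxHeartbeats 1000000 in
/-- A finitely presented quotient on the limit comes from a stage. -/
theorem exists_stage_quotient (hc : IsLimit c) [CompactSpace (D.obj i)] [QuasiSeparatedSpace (D.obj i)]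
    (hF : Coh.IsQCoh F) (hFp : CohB1.IsFP F) (hQ : Coh.IsQCoh Q) (hQp : CohB1.IsFP Q)
    (p : (Scheme.Modules.pullback (c.π.app i)).obj F ⟶ Q) [Epi p] :
    ∃ (j : I) (φ : j ⟶ i) (Gj : (D.obj j).Modules) (pj : (Scheme.Modules.pullback (D.map φ)).obj F ⟶ Gj)
      (e : (Scheme.Modules.pullback (c.π.app j)).obj Gj ≅ Q),
      Coh.IsQCoh Gj ∧ CohB1.IsFP Gj ∧ Epi pj ∧
        (LM.limIso c φ).inv.app F ≫ (Scheme.Modules.pullback (c.π.app j)).map pj ≫ e.hom = p := by
  classical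
  haveI := isAffineHom_π_app D c hc
  have hFl : Coh.IsQCoh ((Scheme.Modules.pullback (c.π.app i)).obj F) := QCoh.isQCoh_pullback _ hF
  have hFlp : CohB1.IsFP ((Scheme.Modules.pullback (c.π.app i)).obj F) := LM.isFP_pullback _ hFp
  obtain ⟨S, -, hS⟩ := exists_affine_finset (X := D.obj i) (O := ⊤) isCompact_univ
  -- generators of the kernel
  have hker : ∀ U : S, ∃ T : Finset Γ((Scheme.Modules.pullback (c.π.app i)).obj F, c.π.app i ⁻¹ᵁ U.1.1),
      (∀ y ∈ T, p.app (c.π.app i ⁻¹ᵁ U.1.1) y = 0) ∧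
      ∀ y, p.app (c.π.app i ⁻¹ᵁ U.1.1) y = 0 →
        y ∈ Submodule.span Γ(c.pt, c.π.app i ⁻¹ᵁ U.1.1)
          (T : Set Γ((Scheme.Modules.pullback (c.π.app i)).obj F, c.π.app i ⁻¹ᵁ U.1.1)) := fun U =>
    exists_kernel_gens (X := c.pt) hFl hFlp hQ hQp p (U.1.2.preimage (c.π.app i))
  choose T hT0 hTspan using hker
  -- lift them to a stage
  have hlift : ∀ b : Σ U : S, T U, ∃ (j : Over i) (x : Γ(N F j, b.1.1.1)), pushLim c F j b.1.1.1 x = b.2.1 :=
    fun b => by
      obtain ⟨j, θ, hθ⟩ := exists_stage_linearMap hF b.1.1.2 hc (M := Γ(D.obj i, b.1.1.1))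
        (LinearMap.toSpanSingleton Γ(D.obj i, b.1.1.1) Γ(Ninf c F, b.1.1.1) b.2.1)
      exact ⟨j, θ 1, by rw [hθ, LinearMap.toSpanSingleton_apply, one_smul]⟩
  choose j₀ x₀ hx₀ using hlift
  obtain ⟨l, hl⟩ := LM.exists_le_all (Finset.univ : Finset (Σ U : S, T U)) j₀
  let x : ∀ b : Σ U : S, T U, Γ(N F l, b.1.1.1) := fun b =>
    push F (hl b (Finset.mem_univ b)).some b.1.1.1 (x₀ b)
  have hx : ∀ b, pushLim c F l b.1.1.1 (x b) = b.2.1 := fun b =>
    (pushLim_push hF b.1.1.2 _ _).trans (hx₀ b)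
  haveI := LM.compactSpace_obj (D := D) l.hom
  haveI : QuasiSeparatedSpace (D.obj l.left) :=
    quasiSeparatedSpace_of_quasiSeparated (D.map l.hom)
  let P := (Scheme.Modules.pullback (D.map l.hom)).obj F
  have hP : Coh.IsQCoh P := QCoh.isQCoh_pullback _ hF
  let p' := tw (c.w l.hom) F ≫ p
  let q := (Scheme.Modules.pullbackPushforwardAdjunction (c.π.app l.left)).homEquiv P Q p'
  have hq : ∀ b : (Σ U : S, T U), q.app (D.map l.hom ⁻¹ᵁ b.1.1.1) (show Γ(P, D.map l.hom ⁻¹ᵁ b.1.1.1) from x b) = 0 := by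
    intro b
    have hle := LM.le_π c b.1.1.1 l
    have hle' : c.π.app l.left ⁻¹ᵁ (D.map l.hom ⁻¹ᵁ b.1.1.1) ≤ c.π.app i ⁻¹ᵁ b.1.1.1 := by
      rw [← Scheme.Hom.comp_preimage, c.w]
    have e : q = (Scheme.Modules.pullbackPushforwardAdjunction (c.π.app l.left)).unit.app P ≫
        (Scheme.Modules.pushforward (c.π.app l.left)).map p' := Adjunction.homEquiv_unit _ _ _ _
    have h1 : p'.app _ (QCoh.pullSec (c.π.app l.left) P hle (x b)) = 0 := by
      show p.app _ (pushLim c F l b.1.1.1 (x b)) = 0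
      rw [hx]
      exact hT0 b.1 b.2.1 b.2.2
    rw [e]
    show p'.app _ _ = 0
    have h2 := congrArg (Q.presheaf.map (homOfLE hle').op) h1
    rw [map_zero, ← QCoh.map_app_comm p' (homOfLE hle'), ExistEasy.pullSec_res (c.π.app l.left) P le_rfl hle' hle le_rfl,
      QCoh.map_id'] at h2
    unfold QCoh.pullSec at h2
    rw [QCoh.map_id'] at h2
    exact h2
  have hpush : Coh.IsQCoh ((Scheme.Modules.pushforward (c.π.app l.left)).obj Q) :=
    QCoh.isQCoh_pushforward (c.π.app l.left) hQ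
  have hK := QCoh.isQCoh_kernel hP hpush q
  choose z hz using fun b => exists_kernel_section hP hpush q (hq b)
  -- a submodule of finite type containing all of them
  obtain ⟨N', hN', hzN⟩ : ∃ N' : QCoh.SubMod (kernel q), QCoh.FTOn N' ⊤ ∧
      ∀ b, z b ∈ N'.mem (D.map l.hom ⁻¹ᵁ b.1.1.1) := by
    suffices ∀ s : Finset (Σ U : S, T U), ∃ N' : QCoh.SubMod (kernel q), QCoh.FTOn N' ⊤ ∧
        ∀ b ∈ s, z b ∈ N'.mem (D.map l.hom ⁻¹ᵁ b.1.1.1) by
      obtain ⟨N', h1, h2⟩ := this Finset.univ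
      exact ⟨N', h1, fun b => h2 b (Finset.mem_univ b)⟩
    intro s
    induction s using Finset.induction_on with
    | empty =>
      obtain ⟨⟨N₀, h0⟩⟩ := (inferInstance : Nonempty (QcqsColim.FTIndex (kernel q)))
      exact ⟨N₀, h0, by simp⟩
    | insert b s _ ih =>
      obtain ⟨N₁, h1, h2⟩ := ih
      obtain ⟨N₂, h3, h4⟩ := QCoh.exists_ftOn_contains hK (b.1.1.2.preimage (D.map l.hom))
        (QCoh.extStep_qcqs (b.1.1.2.preimage (D.map l.hom)).isCompact) {z b} (Set.finite_singleton _)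
      refine ⟨QcqsColim.supSub N₁ N₂, QcqsColim.ftOn_supSub h1 h3, fun b' hb' => ?_⟩
      rcases Finset.mem_insert.1 hb' with rfl | hb'
      · exact QcqsColim.mem_supSub_right _ _ _ (h4 rfl)
      · exact QcqsColim.mem_supSub_left _ _ _ (h2 b' hb')
  let A := N'.toModules
  have hA : Coh.IsQCoh A := QCoh.isQCoh_of_ftOn hK hN'
  let a : A ⟶ P := N'.ι ≫ kernel.ι q
  have haq : a ≫ q = 0 := by simp [a]
  have hap : (Scheme.Modules.pullback (c.π.app l.left)).map a ≫ p' = 0 := by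
    refine ((Scheme.Modules.pullbackPushforwardAdjunction (c.π.app l.left)).homEquiv A Q).injective ?_
    rw [Adjunction.homEquiv_naturality_left]
    exact haq.trans ((Adjunction.homAddEquiv _ A Q).map_zero).symm
  haveI : Epi p' := inferInstanceAs (Epi (tw (c.w l.hom) F ≫ p))
  let Pi := Scheme.Modules.pullback (c.π.app l.left)
  have hPl := QCoh.isQCoh_pullback (c.π.app l.left) hP
  have hkey : kernel.ι p' ≫ Pi.map (cokernel.π a) = 0 := by
    refine QCoh.hom_eq_zero_of_cover (QCoh.isQCoh_kernel hPl hQ p')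
      (QCoh.isQCoh_pullback _ (QCoh.isQCoh_cokernel hA hP a)) _
      (fun U : S => c.π.app i ⁻¹ᵁ U.1.1) (fun U => U.1.2.preimage (c.π.app i))
      (fun y => by obtain ⟨U, hU, hy⟩ := hS (c.π.app i y) trivial; exact ⟨⟨U, hU⟩, hy⟩) fun U y => ?_
    let W := c.π.app i ⁻¹ᵁ U.1.1
    let w : Γ(Pi.obj P, W) := (kernel.ι p').app W y
    have hw : p.app W ((tw (c.w l.hom) F).app W w) = 0 :=
      congr(($(kernel.condition p')).app W y)
    have htw : ∀ v : Γ(Pi.obj P, W), (inv (tw (c.w l.hom) F)).app W ((tw (c.w l.hom) F).app W v) = v := fun v =>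
      congr(($(IsIso.hom_inv_id (tw (c.w l.hom) F))).app W v)
    show (Pi.map (cokernel.π a)).app W w = 0
    rw [← htw w]
    have hmem := hTspan U _ hw
    have hle : Submodule.span Γ(c.pt, c.π.app i ⁻¹ᵁ U.1.1)
        (T U : Set Γ((Scheme.Modules.pullback (c.π.app i)).obj F, c.π.app i ⁻¹ᵁ U.1.1)) ≤
        LinearMap.ker (QCoh.appLin (inv (tw (c.w l.hom) F) ≫ Pi.map (cokernel.π a)) W) := by
      refine Submodule.span_le.2 fun t ht => ?_
      show (Pi.map (cokernel.π a)).app W ((inv (tw (c.w l.hom) F)).app W t) = 0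
      have e1 : t = (tw (c.w l.hom) F).app W
          (QCoh.pullSec (c.π.app l.left) P (LM.le_π c U.1.1 l) (x ⟨U, t, ht⟩)) := (hx ⟨U, t, ht⟩).symm
      rw [e1, htw, ExistEasy.pullSec_natural]
      have e2 : a.app (D.map l.hom ⁻¹ᵁ U.1.1) ⟨z ⟨U, t, ht⟩, hzN ⟨U, t, ht⟩⟩ = x ⟨U, t, ht⟩ :=
        hz ⟨U, t, ht⟩
      have e3 : (cokernel.π a).app (D.map l.hom ⁻¹ᵁ U.1.1) (x ⟨U, t, ht⟩) = 0 := by
        rw [← e2]
        exact congr(($(cokernel.condition a)).app (D.map l.hom ⁻¹ᵁ U.1.1) ⟨z ⟨U, t, ht⟩, hzN ⟨U, t, ht⟩⟩)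
      rw [e3]
      unfold QCoh.pullSec
      rw [map_zero]
      exact map_zero _
    exact hle hmem
  have hco : IsColimit (CokernelCofork.ofπ (Pi.map (cokernel.π a))
      (by rw [← Functor.map_comp, cokernel.condition, Functor.map_zero]) : CokernelCofork (Pi.map a)) :=
    CokernelCofork.mapIsColimit _ (cokernelIsCokernel a) Pi
  obtain ⟨u, hu⟩ := CokernelCofork.IsColimit.desc' hco p' hap
  obtain ⟨v, hv⟩ := CokernelCofork.IsColimit.desc' (Abelian.epiIsCokernelOfKernel _ (kernelIsKernel p'))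
    (Pi.map (cokernel.π a)) hkey
  change p' ≫ v = _ at hv
  change Pi.map (cokernel.π a) ≫ u = _ at hu
  haveI : Epi (Pi.map (cokernel.π a)) := inferInstance
  let e : Pi.obj (cokernel a) ≅ Q :=
    { hom := u
      inv := v
      hom_inv_id := by rw [← cancel_epi (Pi.map (cokernel.π a)), ← Category.assoc, hu, hv, Category.comp_id]
      inv_hom_id := by rw [← cancel_epi p', ← Category.assoc, hv, hu, Category.comp_id] }
  refine ⟨l.left, l.hom, cokernel a, cokernel.π a, e, QCoh.isQCoh_cokernel hA hP a,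
    isFP_cokernel hA (QCoh.isFT_of_ftOn hK hN') hP (LM.isFP_pullback _ hFp) a, inferInstance, ?_⟩
  show _ ≫ Pi.map (cokernel.π a) ≫ u = p
  rw [hu]
  exact (LM.limIso c l.hom).inv_hom_id_app_assoc F p

end LimHom

end Groth.Agent.LimitsH94
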