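import Groth.Prelude.Def_EGA4Misc
import Groth.Agent.RadPtLib.Basic
import Groth.Agent.FDescent.MaxPoint
import Mathlib.AlgebraicGeometry.Morphisms.UniversallyOpen

/-! Birationality on maximal points is stable under flat base change. -/

set_option autoImplicit false
set_option backward.isDefEq.respectTransparency false
set_option backward.isDefEq.respectTransparency.types false
set_option linter.style.haveILetI false
universe u

open CategoryTheory Limits AlgebraicGeometry

namespace Groth.Agent.LimitsH94.BiratBC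

variable {X Y X' Y' : Scheme.{u}} {f : X ⟶ Y} {g : Y' ⟶ Y} {f' : X' ⟶ Y'} {g' : X' ⟶ X}

theorem apply_eq (sq : IsPullback g' f' f g) (x' : X') : f (g' x') = g (f' x') := by
  have h : (g' ≫ f) x' = (f' ≫ g) x' := by rw [sq.w]
  simpa using h

theorem exists_section (sq : IsPullback g' f' f g) (x : X) (hb : Function.Bijective (f.residueFieldMap x).hom) :
    ∃ σ : g.fiber (f x) ⟶ X', σ ≫ f' = g.fiberι (f x) ∧
      ∀ x'' : X', g' x'' = x → ∃ z, σ z = x'' := by
  haveI : IsIso (f.residueFieldMap x) := (ConcreteCategory.isIso_iff_bijective _).2 hb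
  let s : Spec (Y.residueField (f x)) ⟶ X := Spec.map (inv (f.residueFieldMap x)) ≫ X.fromSpecResidueField x
  have hs : s ≫ f = Y.fromSpecResidueField (f x) := by
    rw [Category.assoc, ← Scheme.Hom.SpecMap_residueFieldMap_fromSpecResidueField, ← Spec.map_comp_assoc,
      IsIso.hom_inv_id, Spec.map_id, Category.id_comp]
  let σ : g.fiber (f x) ⟶ X' := sq.lift (g.fiberToSpecResidueField (f x) ≫ s) (g.fiberι (f x)) (by
    rw [Category.assoc, hs]; exact (g.fiber_fac (f x)).symm)
  refine ⟨σ, sq.lift_snd _ _ _, ?_⟩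
  rintro x'' rfl
  let e := X'.fromSpecResidueField x''
  let ef : Spec (X'.residueField x'') ⟶ g.fiber (f (g' x'')) :=
    pullback.lift (e ≫ f') (Spec.map (g'.residueFieldMap x'') ≫ Spec.map (f.residueFieldMap (g' x''))) (by
      rw [Category.assoc, ← sq.w, Category.assoc, Scheme.Hom.SpecMap_residueFieldMap_fromSpecResidueField,
        Scheme.Hom.SpecMap_residueFieldMap_fromSpecResidueField_assoc])
  have he : ef ≫ σ = e := by
    apply sq.hom_ext
    · rw [Category.assoc, sq.lift_fst, ← Category.assoc,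
        show ef ≫ g.fiberToSpecResidueField (f (g' x'')) = _ from pullback.lift_snd _ _ _]
      simp only [s, Category.assoc, ← Spec.map_comp_assoc, IsIso.inv_hom_id_assoc]
      exact Scheme.Hom.SpecMap_residueFieldMap_fromSpecResidueField g' x''
    · rw [Category.assoc, sq.lift_snd]
      exact pullback.lift_fst _ _ _
  refine ⟨ef (IsLocalRing.closedPoint _), ?_⟩
  rw [← Scheme.Hom.comp_apply, he]
  exact Scheme.fromSpecResidueField_apply _ _

theorem maximal_iff {Z : Scheme.{u}} {z : Z} : z ∈ genericPoints Z ↔ ∀ w, w ⤳ z → w = z :=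
  ⟨fun h _ hw => FDescent.maximal_of_closure_mem_irreducibleComponents h hw,
    FDescent.closure_mem_irreducibleComponents⟩

theorem maximal_image_of_flat {A B : Scheme.{u}} (h : A ⟶ B) [Flat h] {a : A} (ha : a ∈ genericPoints A) :
    h a ∈ genericPoints B := by
  refine maximal_iff.2 fun w hw => ?_
  obtain ⟨a', ha', rfl⟩ := Flat.generalizingMap h hw
  rw [maximal_iff.1 ha a' ha']

theorem isBirational_bc [Flat g] (sq : IsPullback g' f' f g) (hf : RadPt.IsBirational f) :
    RadPt.IsBirational f' := by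
  haveI : Flat g' := MorphismProperty.of_isPullback sq.flip inferInstance
  obtain ⟨hbij, hfib⟩ := hf
  -- over a point of `Y'` above a maximal point of `Y`
  have main : ∀ (y' : Y'), g y' ∈ genericPoints Y →
      (∀ a b : X', f' a = y' → f' b = y' → a = b) ∧
      (∀ a : X', f' a = y' → Function.Bijective (f'.residueFieldMap a).hom) := by
    intro y' hy
    obtain ⟨x, -, hxy⟩ := hbij.surjOn hy
    obtain ⟨huniq, hres⟩ := hfib _ hy
    obtain ⟨σ, hσ, hsur⟩ := exists_section sq x (hres x hxy)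
    have hpre : ∀ a : X', f' a = y' → ∃ z, σ z = a ∧ g.fiberι (f x) z = y' := by
      intro a ha
      obtain ⟨z, hz⟩ := hsur a (huniq _ _ (by rw [apply_eq sq, ha]) hxy)
      refine ⟨z, hz, ?_⟩
      rw [← hσ, Scheme.Hom.comp_apply, hz, ha]
    refine ⟨fun a b ha hb => ?_, fun a ha => ?_⟩
    · obtain ⟨z, rfl, hz⟩ := hpre a ha
      obtain ⟨w, rfl, hw⟩ := hpre b hb
      rw [(g.fiberι (f x)).isEmbedding.injective (hz.trans hw.symm)]
    · obtain ⟨z, rfl, -⟩ := hpre a ha
      have key : ∀ k : g.fiber (f x) ⟶ Y', k = g.fiberι (f x) → Function.Bijective (k.residueFieldMap z).hom := by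
        rintro _ rfl
        exact RadPtLib.bijective_residueFieldMap _ _
      have h := key _ hσ
      rw [Scheme.residueFieldMap_comp] at h
      refine ⟨(f'.residueFieldMap (σ z)).hom.injective, fun b => ?_⟩
      obtain ⟨c, hc⟩ := h.2 ((σ.residueFieldMap z) b)
      exact ⟨c, (σ.residueFieldMap z).hom.injective hc⟩
  have hmaps : ∀ a ∈ genericPoints X', f' a ∈ genericPoints Y' := by
    intro a ha
    have hy : g (f' a) ∈ genericPoints Y := apply_eq sq a ▸ hbij.mapsTo (maximal_image_of_flat g' ha)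
    refine maximal_iff.2 fun w hw => ?_
    obtain ⟨x, -, hxy⟩ := hbij.surjOn hy
    obtain ⟨huniq, hres⟩ := hfib _ hy
    obtain ⟨σ, hσ, hsur⟩ := exists_section sq x (hres x hxy)
    obtain ⟨z, rfl⟩ := hsur a (huniq _ _ (apply_eq sq a) hxy)
    have hfz : g.fiberι (f x) z = f' (σ z) := by rw [← hσ, Scheme.Hom.comp_apply]
    have hgw : g w = f x := (maximal_iff.1 hy _ (hw.map g.continuous)).trans hxy.symm
    obtain ⟨v, rfl⟩ : ∃ v, g.fiberι (f x) v = w :=
      ⟨(g.fiberHomeo (f x)).symm ⟨w, hgw⟩, g.fiberι_fiberHomeo_symm _ _⟩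
    have hvz : v ⤳ z := by
      rw [← (g.fiberι (f x)).isEmbedding.isInducing.specializes_iff, hfz]
      exact hw
    rw [← maximal_iff.1 ha _ (hvz.map σ.continuous), ← Scheme.Hom.comp_apply, hσ]
  refine ⟨⟨hmaps, ?_, ?_⟩, fun y' hy' => main y' (maximal_image_of_flat g hy')⟩
  · intro a ha b hb hab
    exact (main (f' a) (maximal_image_of_flat g (hmaps a ha))).1 a b rfl hab.symm
  · intro y' hy'
    have hy := maximal_image_of_flat g hy'
    obtain ⟨x, -, hxy⟩ := hbij.surjOn hy
    obtain ⟨huniq, hres⟩ := hfib _ hy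
    obtain ⟨σ, hσ, -⟩ := exists_section sq x (hres x hxy)
    obtain ⟨z, hz⟩ : ∃ z, g.fiberι (f x) z = y' :=
      ⟨(g.fiberHomeo (f x)).symm ⟨y', hxy.symm⟩, g.fiberι_fiberHomeo_symm _ _⟩
    have hσz : f' (σ z) = y' := by rw [← Scheme.Hom.comp_apply, hσ, hz]
    refine ⟨σ z, maximal_iff.2 fun w hw => ?_, hσz⟩
    exact (main y' hy).1 w (σ z) (maximal_iff.1 hy' _ (hσz ▸ hw.map f'.continuous)) hσz

end Groth.Agent.LimitsH94.BiratBC
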