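import Groth.Agent.DimFormula.Fibre
import Groth.Agent.FibDim.LocDim
import Groth.Agent.FibDim.Minimal
import Groth.Agent.VarDim.Fibre

/-! Dimension of the source in terms of the base and generic transcendence degrees. -/

set_option autoImplicit false
set_option linter.style.haveILetI false
universe u

open CategoryTheory AlgebraicGeometry Order Topology

namespace Groth.Agent.LimitsH94.DimDominant

variable {X Y : Scheme.{u}}

theorem lt_of_specializes {a b : X} (h : b ⤳ a) (hne : a ≠ b) : a < b :=
  lt_iff_le_not_ge.2 ⟨h, fun h' => hne (DimFormula.eq_of_specializes_of_specializes h' h)⟩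

theorem closure_mem_irreducibleComponents {η : X} (h : ∀ z, z ⤳ η → z = η) :
    closure {η} ∈ irreducibleComponents X := by
  refine ⟨isIrreducible_singleton.closure, fun Z (hZ : IsIrreducible Z) hle => ?_⟩
  have hc : closure {IsIrreducible.genericPoint hZ} = closure Z := IsIrreducible.genericPoint_closure_eq hZ
  have hsp : (IsIrreducible.genericPoint hZ) ⤳ η :=
    specializes_iff_mem_closure.2 (hc ▸ subset_closure (hle (subset_closure rfl)))
  intro z hz
  rw [← h _ hsp, hc]
  exact subset_closure hz

theorem rd_le (f : X ⟶ Y) [LocallyOfFiniteType f] (η : X) {E : ℕ}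
    (h : letI := (f.residueFieldMap η).hom.toAlgebra
      Algebra.trdeg (Y.residueField (f.base η)) (X.residueField η) ≤ E) : FibDim.rd f η ≤ E := by
  have : (FibDim.rd f η : Cardinal) ≤ E := (FibDim.rd_eq_rdeg f η).trans_le h
  exact_mod_cast this

theorem dim_le (f : X ⟶ Y) [IsLocallyNoetherian Y] [LocallyOfFiniteType f] (E : ℕ)
    (hE : ∀ ξ : X, closure {ξ} ∈ irreducibleComponents ↥X → FibDim.rd f ξ ≤ E) :
    topologicalKrullDim ↥X ≤ topologicalKrullDim ↥Y + E := by
  haveI := LocallyOfFiniteType.isLocallyNoetherian f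
  rw [FibDim.topologicalKrullDim_eq_iSup_codim]
  refine iSup_le fun x => ?_
  obtain ⟨η, hη, hmax, he⟩ := DimFormula.exists_maximal_cd_eq_codim x
  have h1 := (DimFormula.cd_formula f hη).1
  have h2 := DimFormula.cd_le_codim (hη.map f.continuous)
  have h3 := hE η (closure_mem_irreducibleComponents hmax)
  have h4 : DimFormula.codim x ≤ DimFormula.codim (f x) + E := by omega
  refine le_trans ?_ (add_le_add ((le_iSup (fun y : Y => ((DimFormula.codim y : ℕ∞) : WithBot ℕ∞)) (f x)).trans
    FibDim.topologicalKrullDim_eq_iSup_codim.ge) le_rfl)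
  exact_mod_cast h4

/-- Chains lift along closed maps. -/
theorem exists_lift_series (f : X ⟶ Y) (hf : IsClosedMap f.base) (p : LTSeries Y) :
    ∀ x : X, f x = p.last → ∃ q : LTSeries X, q.last = x ∧ q.length = p.length ∧ f q.head = p.head := by
  induction p using RelSeries.inductionOn with
  | singleton y => exact fun x hx => ⟨RelSeries.singleton _ x, rfl, rfl, hx⟩
  | cons p y hy ih =>
    intro x hx
    obtain ⟨q, hq1, hq2, hq3⟩ := ih x (hx.trans (RelSeries.last_cons _ _ _))
    have hy' : y < p.head := hy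
    have hmem : y ∈ f.base '' closure {q.head} :=
      (hf (closure {q.head}) isClosed_closure).closure_subset_iff.2
        (Set.singleton_subset_iff.2 ⟨q.head, subset_closure rfl, hq3⟩)
        (specializes_iff_mem_closure.1 (hy'.le : p.head ⤳ y))
    obtain ⟨x', hx', hfx⟩ := hmem
    have hlt : x' < q.head := lt_of_specializes (specializes_iff_mem_closure.2 hx') fun e =>
      hy'.ne (hfx.symm.trans ((congrArg f.base e).trans hq3))
    refine ⟨q.cons x' hlt, (RelSeries.last_cons _ _ _).trans hq1, ?_, ?_⟩
    · rw [RelSeries.cons_length, RelSeries.cons_length, hq2]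
    · rw [RelSeries.head_cons, RelSeries.head_cons]; exact hfx

theorem dim_eq (f : X ⟶ Y) [IsIntegral X] [IsIntegral Y] [IsLocallyNoetherian Y] [IsDominant f]
    [LocallyOfFiniteType f] (n : ℕ) (hn : (VarDim.rdeg f (genericPoint ↥X)) = n) (hf : IsClosedMap f.base) :
    topologicalKrullDim ↥Y + n ≤ topologicalKrullDim ↥X := by
  haveI := LocallyOfFiniteType.isLocallyNoetherian f
  set η := genericPoint ↥X
  have hηY : f η = genericPoint ↥Y := by
    refine ((genericPoint_spec ↥X).image f.continuous).eq ?_
    rw [Set.image_univ, f.denseRange.closure_range]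
    exact genericPoint_spec ↥Y
  -- a chain in the generic fibre
  have hfib : (n : WithBot ℕ∞) ≤ krullDim ↥(f.fiber (f η)) := by
    rw [← krullDim_eq_of_orderIso irreducibleSetEquivPoints]
    refine le_trans ?_ (VarDim.topologicalKrullDim_fiber f (f η)).ge
    refine le_iSup_of_le ⟨η, rfl⟩ ?_
    simp [VarDim.fdeg, hn]
  obtain ⟨l, hl⟩ := le_krullDim_iff.1 hfib
  let l' : LTSeries X := l.map (f.fiberι (f η)) fun a b hab => by
    refine lt_of_specializes (Specializes.map (hab.le : b ⤳ a) (f.fiberι (f η)).continuous) fun e => ?_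
    exact hab.ne ((f.fiberι (f η)).isEmbedding.injective e)
  have hl' : f l'.head = f η := by
    have : f.fiberι (f η) l.head ∈ Set.range (f.fiberι (f η)) := ⟨_, rfl⟩
    rw [Scheme.Hom.range_fiberι] at this
    exact this
  have key : ∀ p : LTSeries Y, ((p.length + n : ℕ) : WithBot ℕ∞) ≤ topologicalKrullDim ↥X := by
    intro p
    rw [topologicalKrullDim, krullDim_eq_of_orderIso irreducibleSetEquivPoints]
    obtain ⟨p', hp', hlen⟩ : ∃ p' : LTSeries Y, p'.last = genericPoint ↥Y ∧ p.length ≤ p'.length := by
      by_cases h : p.last = genericPoint ↥Y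
      · exact ⟨p, h, le_rfl⟩
      · exact ⟨p.snoc (genericPoint ↥Y)
          (lt_of_specializes (genericPoint_specializes _) h),
          RelSeries.last_snoc _ _ _, by simp [RelSeries.snoc_length]⟩
    obtain ⟨q, hq1, hq2, -⟩ := exists_lift_series f hf p' l'.head (hl'.trans (hηY.trans hp'.symm))
    refine le_trans ?_ (LTSeries.length_le_krullDim (q.smash l' hq1))
    rw [RelSeries.smash_length, hq2, show l'.length = n from hl]
    exact_mod_cast Nat.add_le_add_right hlen n
  have hY : topologicalKrullDim ↥Y = krullDim ↥Y := krullDim_eq_of_orderIso irreducibleSetEquivPoints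
  rw [hY]
  rcases eq_or_ne (krullDim ↥Y) ⊤ with hd | hd
  · refine le_of_le_of_eq le_top (Eq.symm ?_)
    refine eq_top_iff.2 ?_
    refine le_of_forall_nat_le fun m => ?_
    obtain ⟨p, hp⟩ := le_krullDim_iff.1 (show (m : WithBot ℕ∞) ≤ krullDim ↥Y from hd.symm ▸ le_top)
    exact le_trans (by exact_mod_cast (hp ▸ Nat.le_add_right p.length n : m ≤ p.length + n)) (key p)
  · obtain ⟨d, hd'⟩ : ∃ d : ℕ, krullDim ↥Y = d := by
      obtain ⟨a, ha⟩ := WithBot.ne_bot_iff_exists.1
        (show krullDim ↥Y ≠ ⊥ from fun h => not_isEmpty_of_nonempty ↥Y (krullDim_eq_bot_iff.1 h))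
      obtain ⟨d, hd⟩ := ENat.ne_top_iff_exists.1 (show a ≠ ⊤ from fun h => hd (by rw [← ha, h]; rfl))
      exact ⟨d, by rw [← ha, ← hd]; rfl⟩
    obtain ⟨p, hp⟩ := le_krullDim_iff.1 hd'.ge
    have := key p
    rw [hp] at this
    rw [hd']
    exact_mod_cast this
where
  le_of_forall_nat_le {a : WithBot ℕ∞} (h : ∀ m : ℕ, (m : WithBot ℕ∞) ≤ a) : ⊤ ≤ a := by
    induction a with
    | bot => exact absurd (h 0) (by simp)
    | coe a =>
      induction a with
      | top => exact le_rfl
      | coe m =>
        have := h (m + 1)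
        have : m + 1 ≤ m := by exact_mod_cast this
        omega

end Groth.Agent.LimitsH94.DimDominant
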