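import Groth.Agent.LimitsH94.LimQuot
import Groth.Agent.InvX.GenLocus
import Groth.Agent.InvX.Tensor
import Groth.Agent.H23.PullPush

/-! Extending finitely presented modules from quasi-compact opens of qcqs schemes. -/

set_option autoImplicit false
set_option backward.isDefEq.respectTransparency false
set_option backward.isDefEq.respectTransparency.types false
set_option linter.style.haveILetI false
universe u

open CategoryTheory Limits AlgebraicGeometry TopologicalSpace

namespace Groth.Agent.LimitsH94.FPExtend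

variable {X : Scheme.{u}}

theorem isQCoh_biprod {A B : X.Modules} (hA : Coh.IsQCoh A) (hB : Coh.IsQCoh B) : Coh.IsQCoh (A ⊞ B) :=
  QCoh.isQCoh_X₂ (ShortComplex.Splitting.ofHasBinaryBiproduct A B).shortExact hA hB

/-- Sections of a binary biproduct. -/
noncomputable def biprodSec (A B : X.Modules) (U : X.Opens) : Γ(A ⊞ B, U) ≃ₗ[Γ(X, U)] Γ(A, U) × Γ(B, U) where
  toFun x := ((biprod.fst : A ⊞ B ⟶ A).app U x, (biprod.snd : A ⊞ B ⟶ B).app U x)
  invFun p := (biprod.inl : A ⟶ A ⊞ B).app U p.1 + (biprod.inr : B ⟶ A ⊞ B).app U p.2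
  map_add' x y := by rw [map_add, map_add]; rfl
  map_smul' r x := by rw [Scheme.Modules.Hom.app_smul, Scheme.Modules.Hom.app_smul]; rfl
  left_inv x := congr(($(biprod.total (X := A) (Y := B))).app U x)
  right_inv p := by
    refine Prod.ext ?_ ?_
    · show (biprod.fst : A ⊞ B ⟶ A).app U _ = p.1
      rw [map_add]
      have h1 : (biprod.fst : A ⊞ B ⟶ A).app U ((biprod.inl : A ⟶ A ⊞ B).app U p.1) = p.1 :=
        congr(($(biprod.inl_fst (X := A) (Y := B))).app U p.1)
      have h2 : (biprod.fst : A ⊞ B ⟶ A).app U ((biprod.inr : B ⟶ A ⊞ B).app U p.2) = 0 :=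
        congr(($(biprod.inr_fst (X := A) (Y := B))).app U p.2)
      rw [h1, h2, add_zero]
    · show (biprod.snd : A ⊞ B ⟶ B).app U _ = p.2
      rw [map_add]
      have h1 : (biprod.snd : A ⊞ B ⟶ B).app U ((biprod.inl : A ⟶ A ⊞ B).app U p.1) = 0 :=
        congr(($(biprod.inl_snd (X := A) (Y := B))).app U p.1)
      have h2 : (biprod.snd : A ⊞ B ⟶ B).app U ((biprod.inr : B ⟶ A ⊞ B).app U p.2) = p.2 :=
        congr(($(biprod.inr_snd (X := A) (Y := B))).app U p.2)
      rw [h1, h2, zero_add]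

theorem isFP_biprod {A B : X.Modules} (hA : CohB1.IsFP A) (hB : CohB1.IsFP B) : CohB1.IsFP (A ⊞ B) := by
  refine QCoh.isFP_of_finitePresentation (isQCoh_biprod (QCoh.isQCoh_of_isFP hA) (QCoh.isQCoh_of_isFP hB))
    (fun U : X.affineOpens => U.1) (iSup_affineOpens_eq_top X) (fun U => U.2) fun U => ?_
  haveI := QCoh.finitePresentation_of_isFP hA U.2
  haveI := QCoh.finitePresentation_of_isFP hB U.2
  exact Module.FinitePresentation.of_equiv (biprodSec A B U.1).symm

theorem isFP_structureModule : CohB1.IsFP (Coh.structureModule X) :=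
  QCoh.isFP_of_isFinLocFree (H23.PullPush.isFinLocFree_of_isInvertible InvX.isInvertible_structureModule)

/-- Finitely many global sections are hit by a finitely presented module. -/
theorem exists_hom_hitting (H : X.Modules) (T : Finset Γ(H, ⊤)) :
    ∃ (E : X.Modules) (e : E ⟶ H), CohB1.IsFP E ∧ ∀ t ∈ T, ∃ z, e.app ⊤ z = t := by
  classical
  induction T using Finset.induction_on with
  | empty =>
    refine ⟨cokernel (𝟙 (Coh.structureModule X)), 0, ?_, by simp⟩
    have h := isFP_structureModule (X := X)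
    exact isFP_cokernel (QCoh.isQCoh_of_isFP h) (QCoh.isFT_of_isFP h) (QCoh.isQCoh_of_isFP h) h _
  | insert t T _ ih =>
    obtain ⟨E, e, hE, he⟩ := ih
    refine ⟨E ⊞ Coh.structureModule X, biprod.desc e (InvX.ofSect t), isFP_biprod hE isFP_structureModule,
      fun t' ht' => ?_⟩
    rcases Finset.mem_insert.1 ht' with rfl | ht'
    · refine ⟨(biprod.inr : _ ⟶ E ⊞ Coh.structureModule X).app ⊤ (show Γ(Coh.structureModule X, ⊤) from (1 : Γ(X, ⊤))), ?_⟩
      refine Eq.trans ?_ (InvX.one_ofSect t')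
      exact congr(($(biprod.inr_desc e (InvX.ofSect t'))).app ⊤ (show Γ(Coh.structureModule X, ⊤) from (1 : Γ(X, ⊤))))
    · obtain ⟨z, hz⟩ := he t' ht'
      refine ⟨(biprod.inl : E ⟶ E ⊞ Coh.structureModule X).app ⊤ z, Eq.trans ?_ hz⟩
      exact congr(($(biprod.inl_desc e (InvX.ofSect t))).app ⊤ z)

/-- A map of quasi-coherent modules bijective on an affine open is bijective on smaller ones. -/
theorem bijective_app_of_le {M N : X.Modules} (hM : Coh.IsQCoh M) (hN : Coh.IsQCoh N) (φ : M ⟶ N)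
    {U V : X.Opens} (hU : IsAffineOpen U) (hV : IsAffineOpen V) (h : V ≤ U)
    (hb : Function.Bijective (φ.app U)) : Function.Bijective (φ.app V) := by
  letI := (X.presheaf.map (homOfLE h).op).hom.toAlgebra
  letI : Module Γ(X, U) Γ(M, V) := Module.compHom _ (X.presheaf.map (homOfLE h).op).hom
  letI : Module Γ(X, U) Γ(N, V) := Module.compHom _ (X.presheaf.map (homOfLE h).op).hom
  haveI : IsScalarTower Γ(X, U) Γ(X, V) Γ(M, V) := IsScalarTower.of_algebraMap_smul fun _ _ => rfl
  haveI : IsScalarTower Γ(X, U) Γ(X, V) Γ(N, V) := IsScalarTower.of_algebraMap_smul fun _ _ => rfl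
  let rM : Γ(M, U) →ₗ[Γ(X, U)] Γ(M, V) :=
    { toFun := M.presheaf.map (homOfLE h).op
      map_add' := map_add _
      map_smul' := fun a x => Scheme.Modules.map_smul M _ a x }
  let rN : Γ(N, U) →ₗ[Γ(X, U)] Γ(N, V) :=
    { toFun := N.presheaf.map (homOfLE h).op
      map_add' := map_add _
      map_smul' := fun a x => Scheme.Modules.map_smul N _ a x }
  have hrM := FormalSch78.isBaseChange_res hM hU hV h (fun _ => rfl) rM fun _ => rfl
  have hrN := FormalSch78.isBaseChange_res hN hU hV h (fun _ => rfl) rN fun _ => rfl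
  let e : Γ(M, U) ≃ₗ[Γ(X, U)] Γ(N, U) := LinearEquiv.ofBijective
    ({ toFun := φ.app U, map_add' := map_add _, map_smul' := fun a x => Scheme.Modules.Hom.app_smul φ a x } :
      Γ(M, U) →ₗ[Γ(X, U)] Γ(N, U)) hb
  let f : Γ(M, V) ≃ₗ[Γ(X, V)] Γ(N, V) := hrM.equiv.symm.trans
    ((TensorProduct.AlgebraTensorModule.congr (LinearEquiv.refl Γ(X, V) Γ(X, V)) e).trans hrN.equiv)
  have hf : ∀ x, φ.app V x = f x := by
    intro x
    induction x using hrM.inductionOn with
    | zero => rw [map_zero, map_zero]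
    | add a b ha hb => rw [map_add, map_add, ha, hb]
    | smul a x hx => rw [Scheme.Modules.Hom.app_smul, hx, map_smul]
    | tmul x =>
      have e1 : hrM.equiv.symm (rM x) = 1 ⊗ₜ x := by
        rw [LinearEquiv.symm_apply_eq, hrM.equiv_tmul, one_smul]
      simp only [f, LinearEquiv.trans_apply, e1, TensorProduct.AlgebraTensorModule.congr_tmul,
        LinearEquiv.refl_apply, hrN.equiv_tmul, one_smul]
      exact QCoh.map_app_comm φ (homOfLE h) x
  exact (funext hf : ⇑(φ.app V) = ⇑f) ▸ f.bijective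

/-- Bijectivity on sections is local. -/
theorem bijective_app_of_locally {M N : X.Modules} (φ : M ⟶ N) {O : X.Opens}
    (h : ∀ x ∈ O, ∃ U : X.Opens, x ∈ U ∧ U ≤ O ∧ ∀ V : X.Opens, IsAffineOpen V → V ≤ U → Function.Bijective (φ.app V)) :
    Function.Bijective (φ.app O) := by
  have inj : ∀ (Q : X.Opens), Q ≤ O → ∀ (a b : Γ(M, Q)), φ.app Q a = φ.app Q b → a = b := by
    intro Q hQ a b hab
    refine AModX.eq_of_locally _ _ fun p hp => ?_
    obtain ⟨U, hpU, -, hU⟩ := h p (hQ hp)
    obtain ⟨V, hV, hpV, hVle⟩ := exists_isAffineOpen_mem_and_subset (x := p) (U := Q ⊓ U) ⟨hp, hpU⟩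
    refine ⟨V, fun y hy => (hVle hy).1, hpV, (hU V hV fun y hy => (hVle hy).2).1 ?_⟩
    rw [AModX.app_res, AModX.app_res, hab]
  refine ⟨fun a b => inj O le_rfl a b, fun n => ?_⟩
  let ι := {V : X.Opens // IsAffineOpen V ∧ V ≤ O ∧ Function.Bijective (φ.app V)}
  choose sf hsf using fun i : ι => i.2.2.2.2 (AModX.res N i.2.2.1 n)
  obtain ⟨s, hs, -⟩ := AModX.existsUnique_glue (M := M) (fun i : ι => i.1) (fun i => i.2.2.1) (fun p hp => by
    obtain ⟨U, hpU, hUO, hU⟩ := h p hp
    obtain ⟨V, hV, hpV, hVle⟩ := exists_isAffineOpen_mem_and_subset (x := p) (U := U) hpU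
    exact ⟨⟨V, hV, fun y hy => hUO (hVle hy), hU V hV hVle⟩, hpV⟩) sf (fun i j => inj _ (inf_le_left.trans i.2.2.1) _ _ (by
      rw [AModX.app_res, AModX.app_res, hsf, hsf, AModX.res_res, AModX.res_res]))
  refine ⟨s, AModX.eq_of_locally _ _ fun p hp => ?_⟩
  obtain ⟨U, hpU, hUO, hU⟩ := h p hp
  obtain ⟨V, hV, hpV, hVle⟩ := exists_isAffineOpen_mem_and_subset (x := p) (U := U) hpU
  refine ⟨V, fun y hy => hUO (hVle hy), hpV, ?_⟩
  rw [← AModX.app_res, hs ⟨V, hV, fun y hy => hUO (hVle hy), hU V hV hVle⟩]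
  exact hsf ⟨V, hV, fun y hy => hUO (hVle hy), hU V hV hVle⟩

/-- Pointwise finite presentation on an open. -/
def FPOn (H : X.Modules) (W : X.Opens) : Prop :=
  ∀ x ∈ W, ∃ O : X.Opens, IsAffineOpen O ∧ x ∈ O ∧ O ≤ W ∧ Module.FinitePresentation Γ(X, O) Γ(H, O)

theorem finitePresentation_of_le {H : X.Modules} (hH : Coh.IsQCoh H) {U V : X.Opens} (hU : IsAffineOpen U)
    (hV : IsAffineOpen V) (h : V ≤ U) [Module.FinitePresentation Γ(X, U) Γ(H, U)] :
    Module.FinitePresentation Γ(X, V) Γ(H, V) := by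
  letI := (X.presheaf.map (homOfLE h).op).hom.toAlgebra
  letI : Module Γ(X, U) Γ(H, V) := Module.compHom _ (X.presheaf.map (homOfLE h).op).hom
  haveI : IsScalarTower Γ(X, U) Γ(X, V) Γ(H, V) := IsScalarTower.of_algebraMap_smul fun _ _ => rfl
  let r : Γ(H, U) →ₗ[Γ(X, U)] Γ(H, V) :=
    { toFun := H.presheaf.map (homOfLE h).op
      map_add' := map_add _
      map_smul' := fun a x => Scheme.Modules.map_smul H _ a x }
  exact Module.FinitePresentation.of_equiv
    (FormalSch78.isBaseChange_res hH hU hV h (fun _ => rfl) r fun _ => rfl).equiv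

theorem isFP_of_fpOn_top {H : X.Modules} (hH : Coh.IsQCoh H) (h : FPOn H ⊤) : CohB1.IsFP H := by
  choose O hO hxO _ hfp using fun x : X => h x trivial
  exact QCoh.isFP_of_finitePresentation hH O (eq_top_iff.2 fun x _ => Opens.mem_iSup.2 ⟨x, hxO x⟩) hO hfp

/-- A submodule of finite type of a kernel, equal to it on given affine opens. -/
theorem exists_kernel_sub [CompactSpace X] [QuasiSeparatedSpace X] {E H : X.Modules} (hE : Coh.IsQCoh E)
    (hH : Coh.IsQCoh H) (e : E ⟶ H) {ι : Type*} (s : Finset ι) (Q : ι → X.Opens) (hQ : ∀ f, IsAffineOpen (Q f))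
    (hEp : ∀ f ∈ s, Module.FinitePresentation Γ(X, Q f) Γ(E, Q f))
    (hHp : ∀ f ∈ s, Module.FinitePresentation Γ(X, Q f) Γ(H, Q f))
    (hsurj : ∀ f ∈ s, Function.Surjective (e.app (Q f))) :
    ∃ N' : QCoh.SubMod (kernel e), QCoh.FTOn N' ⊤ ∧ ∀ f ∈ s, ∀ z : Γ(kernel e, Q f), z ∈ N'.mem (Q f) := by
  classical
  have hK := QCoh.isQCoh_kernel hE hH e
  induction s using Finset.induction_on with
  | empty =>
    obtain ⟨⟨N₀, h0⟩⟩ := (inferInstance : Nonempty (QcqsColim.FTIndex (kernel e)))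
    exact ⟨N₀, h0, by simp⟩
  | insert f s _ ih =>
    obtain ⟨N₁, h1, h2⟩ := ih (fun g hg => hEp g (Finset.mem_insert_of_mem hg))
      (fun g hg => hHp g (Finset.mem_insert_of_mem hg)) (fun g hg => hsurj g (Finset.mem_insert_of_mem hg))
    have hf := Finset.mem_insert_self f s
    haveI : Module.FinitePresentation Γ(X, Q f) Γ(H, Q f) := hHp f hf
    haveI : Module.FinitePresentation Γ(X, Q f) Γ(E, Q f) := hEp f hf
    have hfg : (LinearMap.ker (QCoh.appLin e (Q f))).FG :=
      Module.FinitePresentation.fg_ker _ (hsurj f hf)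
    obtain ⟨G, hG⟩ := hfg
    choose z hz using fun y : G => exists_kernel_section hE hH e (U := Q f) (x := y.1)
      (hG.le (Submodule.subset_span y.2))
    obtain ⟨N₂, h3, h4⟩ := QCoh.exists_ftOn_contains hK (hQ f) (QCoh.extStep_qcqs (hQ f).isCompact)
      (Set.range z) (Set.finite_range z)
    refine ⟨QcqsColim.supSub N₁ N₂, QcqsColim.ftOn_supSub h1 h3, fun f' hf' w => ?_⟩
    rcases Finset.mem_insert.1 hf' with rfl | hf'
    · refine QcqsColim.mem_supSub_right _ _ _ ?_
      have hwk : (kernel.ι e).app (Q f') w ∈ LinearMap.ker (QCoh.appLin e (Q f')) :=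
        congr(($(kernel.condition e)).app (Q f') w)
      have hle : LinearMap.ker (QCoh.appLin e (Q f')) ≤
          (N₂.mem (Q f')).map (QCoh.appLin (kernel.ι e) (Q f')) := by
        rw [← hG]
        exact Submodule.span_le.2 fun y hy => ⟨z ⟨y, hy⟩, h4 ⟨⟨y, hy⟩, rfl⟩, hz ⟨y, hy⟩⟩
      obtain ⟨w', hw', e'⟩ := hle hwk
      exact QCoh.app_injective (kernel.ι e) _ e' ▸ hw'
    · exact QcqsColim.mem_supSub_left _ _ _ (h2 f' hf' w)

set_option maxHeartbeats 800000 in
/-- On an affine scheme, a quasi-coherent module which is finitely presented on a quasi-compact open agrees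
there with a finitely presented module. -/
theorem exists_fp_affine [IsAffine X] {H : X.Modules} (hH : Coh.IsQCoh H) {W : X.Opens}
    (hW : IsCompact (W : Set X)) (hfp : FPOn H W) :
    ∃ (M : X.Modules) (μ : M ⟶ H), CohB1.IsFP M ∧ ∀ O ≤ W, Function.Bijective (μ.app O) := by
  classical
  -- finitely many basic opens
  obtain ⟨s, hsW, hs, hcov⟩ : ∃ s : Finset Γ(X, ⊤), (∀ f ∈ s, X.basicOpen f ≤ W) ∧
      (∀ f ∈ s, Module.FinitePresentation Γ(X, X.basicOpen f) Γ(H, X.basicOpen f)) ∧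
      ∀ x ∈ W, ∃ f ∈ s, x ∈ X.basicOpen f := by
    let J := {f : Γ(X, ⊤) // X.basicOpen f ≤ W ∧
      Module.FinitePresentation Γ(X, X.basicOpen f) Γ(H, X.basicOpen f)}
    obtain ⟨t, ht⟩ := hW.elim_finite_subcover (fun f : J => (X.basicOpen f.1 : Set X))
      (fun f => (X.basicOpen f.1).2) fun x hx => by
        obtain ⟨O, hO, hxO, hOW, hfpO⟩ := hfp x hx
        obtain ⟨f, hfO, hxf⟩ := (isAffineOpen_top X).exists_basicOpen_le (V := O) ⟨x, hxO⟩ trivial
        haveI := hfpO
        exact Set.mem_iUnion.2 ⟨⟨f, hfO.trans hOW,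
          finitePresentation_of_le hH hO ((isAffineOpen_top X).basicOpen f) hfO⟩, hxf⟩
    refine ⟨t.image (·.1), fun f hf => ?_, fun f hf => ?_, fun x hx => ?_⟩
    · obtain ⟨g, -, rfl⟩ := Finset.mem_image.1 hf; exact g.2.1
    · obtain ⟨g, -, rfl⟩ := Finset.mem_image.1 hf; exact g.2.2
    · obtain ⟨g, hg, hxg⟩ := Set.mem_iUnion₂.1 (ht hx); exact ⟨g.1, Finset.mem_image_of_mem _ hg, hxg⟩
  -- global sections generating on each of them
  have hgen : ∀ f ∈ s, ∃ T : Finset Γ(H, ⊤), Submodule.span Γ(X, X.basicOpen f)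
      ((fun t => H.presheaf.map (homOfLE (le_top : X.basicOpen f ≤ ⊤)).op t) '' (T : Set Γ(H, ⊤))) = ⊤ := by
    intro f hf
    haveI := hs f hf
    obtain ⟨G, hG⟩ := Module.Finite.fg_top (R := Γ(X, X.basicOpen f)) (M := Γ(H, X.basicOpen f))
    choose n y hy using fun g : Γ(H, X.basicOpen f) =>
      QCoh.exists_pow_smul_eq_map hH (isAffineOpen_top X) f g
    refine ⟨G.image y, top_le_iff.1 (hG ▸ Submodule.span_le.2 fun g hg => ?_)⟩
    have hu : IsUnit (X.presheaf.map (homOfLE (le_top : X.basicOpen f ≤ ⊤)).op f ^ n g) :=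
      (RingedSpace.isUnit_res_basicOpen X.toRingedSpace f).pow _
    have hm : (H.presheaf.map (homOfLE (le_top : X.basicOpen f ≤ ⊤)).op (y g)) ∈ Submodule.span Γ(X, X.basicOpen f)
        ((fun t => H.presheaf.map (homOfLE (le_top : X.basicOpen f ≤ ⊤)).op t) '' ((G.image y : Finset Γ(H, ⊤)) : Set Γ(H, ⊤))) :=
      Submodule.subset_span ⟨y g, Finset.mem_image_of_mem y hg, rfl⟩
    rw [hy g] at hm
    exact (Submodule.smul_mem_iff_of_isUnit _ hu).1 hm
  choose! T hT using hgen
  obtain ⟨E, e, hE, he⟩ := exists_hom_hitting H (s.biUnion T)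
  have hEq := QCoh.isQCoh_of_isFP hE
  have hsurj : ∀ f ∈ s, Function.Surjective (e.app (X.basicOpen f)) := by
    intro f hf
    have : LinearMap.range (QCoh.appLin e (X.basicOpen f)) = ⊤ := by
      refine top_le_iff.1 ((hT f hf).ge.trans (Submodule.span_le.2 ?_))
      rintro _ ⟨t, ht, rfl⟩
      obtain ⟨z, rfl⟩ := he t (Finset.mem_biUnion.2 ⟨f, hf, ht⟩)
      exact ⟨E.presheaf.map (homOfLE le_top).op z, QCoh.map_app_comm e (homOfLE le_top) z⟩
    exact fun g => this.ge (Submodule.mem_top (x := g))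
  -- a submodule of finite type of the kernel which is everything on the basic opens
  haveI : CompactSpace X := Scheme.compactSpace_of_isAffine X
  have hK := QCoh.isQCoh_kernel hEq hH e
  obtain ⟨N', hN', hker⟩ := exists_kernel_sub hEq hH e s (fun f => X.basicOpen f)
    (fun f => (isAffineOpen_top X).basicOpen f)
    (fun f _ => QCoh.finitePresentation_of_isFP hE ((isAffineOpen_top X).basicOpen f)) hs hsurj
  have hA : Coh.IsQCoh N'.toModules := QCoh.isQCoh_of_ftOn hK hN'
  let a := N'.ι ≫ kernel.ι e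
  have hM := QCoh.isQCoh_cokernel hA hEq a
  let μ : cokernel a ⟶ H := cokernel.desc a e (by simp [a])
  refine ⟨cokernel a, μ, isFP_cokernel hA (QCoh.isFT_of_ftOn hK hN') hEq hE a, fun O hO => ?_⟩
  have hb : ∀ f ∈ s, Function.Bijective (μ.app (X.basicOpen f)) := by
    intro f hf
    have hfa : IsAffineOpen (X.basicOpen f) := (isAffineOpen_top X).basicOpen f
    refine ⟨(injective_iff_map_eq_zero _).2 fun x hx => ?_, fun y => ?_⟩
    · obtain ⟨v, rfl⟩ := QCoh.app_surjective_of_epi hEq hM (cokernel.π a) hfa x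
      obtain ⟨w, rfl⟩ := exists_kernel_section hEq hH e (U := X.basicOpen f) (x := v)
        ((congr(($(cokernel.π_desc a e (by simp [a]))).app (X.basicOpen f) v)).symm.trans hx)
      exact congr(($(cokernel.condition a)).app (X.basicOpen f) ⟨w, hker f hf w⟩)
    · obtain ⟨v, rfl⟩ := hsurj f hf y
      exact ⟨(cokernel.π a).app _ v, congr(($(cokernel.π_desc a e (by simp [a]))).app (X.basicOpen f) v)⟩
  refine bijective_app_of_locally μ fun x hx => ?_
  obtain ⟨f, hf, hxf⟩ := hcov x (hO hx)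
  exact ⟨O ⊓ X.basicOpen f, ⟨hx, hxf⟩, inf_le_left, fun V hV hVle => bijective_app_of_le hM hH μ
    ((isAffineOpen_top X).basicOpen f) hV (hVle.trans inf_le_right) (hb f hf)⟩

/-- The fibre product of two morphisms of modules. -/
noncomputable def fib {A B C : X.Modules} (p : A ⟶ C) (q : B ⟶ C) : X.Modules :=
  kernel ((biprod.fst : A ⊞ B ⟶ A) ≫ p - (biprod.snd : A ⊞ B ⟶ B) ≫ q)

section Fib

variable {A B C : X.Modules} (p : A ⟶ C) (q : B ⟶ C)

noncomputable def fibFst : fib p q ⟶ A := kernel.ι _ ≫ biprod.fst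

noncomputable def fibSnd : fib p q ⟶ B := kernel.ι _ ≫ biprod.snd

theorem fib_condition : fibFst p q ≫ p = fibSnd p q ≫ q := by
  have := kernel.condition ((biprod.fst : A ⊞ B ⟶ A) ≫ p - (biprod.snd : A ⊞ B ⟶ B) ≫ q)
  rw [Preadditive.comp_sub, sub_eq_zero] at this
  simpa [fibFst, fibSnd, Category.assoc] using this

theorem isQCoh_fib (hA : Coh.IsQCoh A) (hB : Coh.IsQCoh B) (hC : Coh.IsQCoh C) : Coh.IsQCoh (fib p q) :=
  QCoh.isQCoh_kernel (isQCoh_biprod hA hB) hC _

theorem bijective_fibFst (hA : Coh.IsQCoh A) (hB : Coh.IsQCoh B) (hC : Coh.IsQCoh C) {O : X.Opens}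
    (hq : Function.Bijective (q.app O)) : Function.Bijective ((fibFst p q).app O) := by
  refine ⟨(injective_iff_map_eq_zero _).2 fun x hx => ?_, fun a => ?_⟩
  · have h2 : q.app O ((fibSnd p q).app O x) = 0 := by
      have h3 : p.app O ((fibFst p q).app O x) = q.app O ((fibSnd p q).app O x) :=
        congr(($(fib_condition p q)).app O x)
      rw [← h3, hx, map_zero]
    have h4 : (fibSnd p q).app O x = 0 := hq.1 (h2.trans (map_zero _).symm)
    refine QCoh.app_injective (kernel.ι _) O ?_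
    rw [map_zero]
    refine (biprodSec A B O).injective ?_
    rw [map_zero]
    exact Prod.ext hx h4
  · obtain ⟨b, hb⟩ := hq.2 (p.app O a)
    obtain ⟨z, hz⟩ := exists_kernel_section (isQCoh_biprod hA hB) hC
      ((biprod.fst : A ⊞ B ⟶ A) ≫ p - (biprod.snd : A ⊞ B ⟶ B) ≫ q) (U := O)
      (x := (biprodSec A B O).symm (a, b)) (by
        have h := (biprodSec A B O).apply_symm_apply (a, b)
        show p.app O ((biprod.fst : A ⊞ B ⟶ A).app O ((biprodSec A B O).symm (a, b))) -
          q.app O ((biprod.snd : A ⊞ B ⟶ B).app O ((biprodSec A B O).symm (a, b))) = 0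
        rw [show (biprod.fst : A ⊞ B ⟶ A).app O ((biprodSec A B O).symm (a, b)) = a from congrArg Prod.fst h,
          show (biprod.snd : A ⊞ B ⟶ B).app O ((biprodSec A B O).symm (a, b)) = b from congrArg Prod.snd h,
          hb, sub_self])
    refine ⟨z, ?_⟩
    show (biprod.fst : A ⊞ B ⟶ A).app O ((kernel.ι _ : fib p q ⟶ A ⊞ B).app O z) = a
    exact (congrArg ((biprod.fst : A ⊞ B ⟶ A).app O) hz).trans
      (congrArg Prod.fst ((biprodSec A B O).apply_symm_apply (a, b)))

theorem bijective_fibSnd (hA : Coh.IsQCoh A) (hB : Coh.IsQCoh B) (hC : Coh.IsQCoh C) {O : X.Opens}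
    (hp : Function.Bijective (p.app O)) : Function.Bijective ((fibSnd p q).app O) := by
  refine ⟨(injective_iff_map_eq_zero _).2 fun x hx => ?_, fun b => ?_⟩
  · have h2 : p.app O ((fibFst p q).app O x) = 0 := by
      have h3 : p.app O ((fibFst p q).app O x) = q.app O ((fibSnd p q).app O x) :=
        congr(($(fib_condition p q)).app O x)
      rw [h3, hx, map_zero]
    have h4 : (fibFst p q).app O x = 0 := hp.1 (h2.trans (map_zero _).symm)
    refine QCoh.app_injective (kernel.ι _) O ?_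
    rw [map_zero]
    refine (biprodSec A B O).injective ?_
    rw [map_zero]
    exact Prod.ext h4 hx
  · obtain ⟨a, ha⟩ := hp.2 (q.app O b)
    obtain ⟨z, hz⟩ := exists_kernel_section (isQCoh_biprod hA hB) hC
      ((biprod.fst : A ⊞ B ⟶ A) ≫ p - (biprod.snd : A ⊞ B ⟶ B) ≫ q) (U := O)
      (x := (biprodSec A B O).symm (a, b)) (by
        have h := (biprodSec A B O).apply_symm_apply (a, b)
        show p.app O ((biprod.fst : A ⊞ B ⟶ A).app O ((biprodSec A B O).symm (a, b))) -
          q.app O ((biprod.snd : A ⊞ B ⟶ B).app O ((biprodSec A B O).symm (a, b))) = 0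
        rw [show (biprod.fst : A ⊞ B ⟶ A).app O ((biprodSec A B O).symm (a, b)) = a from congrArg Prod.fst h,
          show (biprod.snd : A ⊞ B ⟶ B).app O ((biprodSec A B O).symm (a, b)) = b from congrArg Prod.snd h,
          ha, sub_self])
    refine ⟨z, ?_⟩
    show (biprod.snd : A ⊞ B ⟶ B).app O ((kernel.ι _ : fib p q ⟶ A ⊞ B).app O z) = b
    exact (congrArg ((biprod.snd : A ⊞ B ⟶ B).app O) hz).trans
      (congrArg Prod.snd ((biprodSec A B O).apply_symm_apply (a, b)))

end Fib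

end Groth.Agent.LimitsH94.FPExtend
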