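import Groth.Agent.LimitsH94.FPExtend

/-! Extension of finitely presented modules, induction over an affine cover. -/

set_option autoImplicit false
set_option backward.isDefEq.respectTransparency false
set_option backward.isDefEq.respectTransparency.types false
set_option linter.style.haveILetI false
universe u

open CategoryTheory Limits AlgebraicGeometry TopologicalSpace

namespace Groth.Agent.LimitsH94.FPExtend

theorem finitePresentation_of_bijective_semilinear {R A : Type*} [CommRing R] [CommRing A] (σ : R →+* A)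
    (hσ : Function.Bijective σ) {M N : Type*} [AddCommGroup M] [Module R M] [AddCommGroup N] [Module A N]
    (f : M →ₛₗ[σ] N) (hf : Function.Bijective f) :
    (Module.FinitePresentation R M → Module.FinitePresentation A N) ∧
      (Module.FinitePresentation A N → Module.FinitePresentation R M) := by
  letI := σ.toAlgebra
  letI : Module R N := Module.compHom N σ
  haveI : IsScalarTower R A N := IsScalarTower.of_algebraMap_smul fun _ _ => rfl
  let g : M →ₗ[R] N := { toFun := f, map_add' := map_add f, map_smul' := fun r m => f.map_smulₛₗ r m }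
  constructor
  · intro h
    refine FinitePresentation.of_isBaseChange g ?_
    refine IsBaseChange.of_equiv (LinearEquiv.ofBijective (LinearMap.liftBaseChange A g) ?_) fun m => ?_
    · have hgen : ∀ x : TensorProduct R A M, ∃ m : M, x = 1 ⊗ₜ m := by
        intro x
        induction x using TensorProduct.induction_on with
        | zero => exact ⟨0, (TensorProduct.tmul_zero _ _).symm⟩
        | tmul a m =>
          obtain ⟨r, rfl⟩ := hσ.2 a
          refine ⟨r • m, ?_⟩
          rw [TensorProduct.tmul_smul, TensorProduct.smul_tmul', Algebra.smul_def, mul_one]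
          rfl
        | add x y hx hy =>
          obtain ⟨m, rfl⟩ := hx
          obtain ⟨m', rfl⟩ := hy
          exact ⟨m + m', (TensorProduct.tmul_add _ _ _).symm⟩
      refine ⟨(injective_iff_map_eq_zero _).2 fun x hx => ?_, fun n => ?_⟩
      · obtain ⟨m, rfl⟩ := hgen x
        rw [LinearMap.liftBaseChange_tmul, one_smul] at hx
        rw [hf.1 (hx.trans (map_zero f).symm : f m = f 0), TensorProduct.tmul_zero]
      · obtain ⟨m, rfl⟩ := hf.2 n
        exact ⟨1 ⊗ₜ m, (LinearMap.liftBaseChange_tmul _ _ _ _).trans (one_smul _ _)⟩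
    · exact (LinearMap.liftBaseChange_tmul _ _ _ _).trans (one_smul _ _)
  · intro h
    haveI : Module.FinitePresentation R A :=
      Module.FinitePresentation.of_equiv (LinearEquiv.ofBijective (Algebra.linearMap R A) hσ)
    haveI : Module.FinitePresentation R N := Module.FinitePresentation.trans R N A
    exact Module.FinitePresentation.of_equiv (LinearEquiv.ofBijective g hf).symm

variable {X : Scheme.{u}}

/-- Sections of a push forward from an open, over an open contained in it. -/
theorem finitePresentation_push {V : X.Opens} {M : (V : Scheme.{u}).Modules} (hM : CohB1.IsFP M) {O : X.Opens}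
    (hO : IsAffineOpen O) (hle : O ≤ V) :
    Module.FinitePresentation Γ(X, O) Γ((Scheme.Modules.pushforward V.ι).obj M, O) := by
  have hr : O ≤ V.ι.opensRange := hle.trans V.opensRange_ι.ge
  haveI := QCoh.finitePresentation_of_isFP hM (hO.preimage_of_isOpenImmersion V.ι hr)
  exact (finitePresentation_of_bijective_semilinear (V.ι.app O).hom
    (haveI := V.ι.isIso_app O hr; ConcreteCategory.bijective_of_isIso (V.ι.app O))
    ({ toFun := fun x => x, map_add' := fun _ _ => rfl, map_smul' := fun _ _ => rfl } :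
      Γ((Scheme.Modules.pushforward V.ι).obj M, O) →ₛₗ[(V.ι.app O).hom] Γ(M, V.ι ⁻¹ᵁ O)) Function.bijective_id).2 this

/-- Restriction to an open keeps pointwise finite presentation. -/
theorem fpOn_restrict {H : X.Modules} (hH : Coh.IsQCoh H) {W : X.Opens} (h : FPOn H W) (V : X.Opens) :
    FPOn (H.restrict V.ι) (V.ι ⁻¹ᵁ W) := by
  intro x hx
  obtain ⟨O, hO, hxO, hOW, hfp⟩ := h (V.ι x) hx
  obtain ⟨B, hB, hxB, hBle⟩ := exists_isAffineOpen_mem_and_subset (x := V.ι x) (U := O ⊓ V) ⟨hxO, x.2⟩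
  have hBr : B ≤ V.ι.opensRange := fun y hy => V.opensRange_ι.ge (hBle hy).2
  haveI := finitePresentation_of_le hH hO hB fun y hy => (hBle hy).1
  refine ⟨V.ι ⁻¹ᵁ B, hB.preimage_of_isOpenImmersion V.ι hBr, hxB, fun y hy => hOW (hBle hy).1, ?_⟩
  haveI : Module.FinitePresentation Γ(X, V.ι ''ᵁ V.ι ⁻¹ᵁ B) Γ(H, V.ι ''ᵁ V.ι ⁻¹ᵁ B) := by
    rw [V.ι.image_preimage_eq_opensRange_inf, inf_eq_right.2 hBr]
    assumption
  exact (finitePresentation_of_bijective_semilinear (V.ι.appIso (V.ι ⁻¹ᵁ B)).hom.hom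
    (ConcreteCategory.bijective_of_isIso (V.ι.appIso (V.ι ⁻¹ᵁ B)).hom)
    ({ toFun := fun x => (H.restrictAppIso V.ι (V.ι ⁻¹ᵁ B)).inv x
       map_add' := fun _ _ => map_add _ _ _
       map_smul' := fun r m => congr($(Scheme.Modules.smul_restrictAppIso_inv V.ι H (V.ι ⁻¹ᵁ B) r) m) } :
      Γ(H, V.ι ''ᵁ V.ι ⁻¹ᵁ B) →ₛₗ[(V.ι.appIso (V.ι ⁻¹ᵁ B)).hom.hom] Γ(H.restrict V.ι, V.ι ⁻¹ᵁ B))
    (ConcreteCategory.bijective_of_isIso (H.restrictAppIso V.ι (V.ι ⁻¹ᵁ B)).inv)).1 this

theorem bijective_unit_app {H : X.Modules} {V O : X.Opens} (h : O ≤ V) :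
    Function.Bijective (((Scheme.Modules.restrictAdjunction V.ι).unit.app H).app O) := by
  rw [Scheme.Modules.restrictAdjunction_unit_app_app]
  have he : V.ι ''ᵁ V.ι ⁻¹ᵁ O = O := by
    rw [V.ι.image_preimage_eq_opensRange_inf, Scheme.Opens.opensRange_ι, inf_eq_right.2 h]
  have : IsIso (homOfLE (V.ι.image_preimage_le O)) :=
    ⟨homOfLE he.ge, Subsingleton.elim _ _, Subsingleton.elim _ _⟩
  exact ConcreteCategory.bijective_of_isIso _

theorem fpOn_of_bijective {G H : X.Modules} (ψ : G ⟶ H) {W : X.Opens}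
    (hb : ∀ O ≤ W, Function.Bijective (ψ.app O)) (h : FPOn H W) : FPOn G W := by
  intro x hx
  obtain ⟨O, hO, hxO, hOW, hfp⟩ := h x hx
  haveI := hfp
  exact ⟨O, hO, hxO, hOW, Module.FinitePresentation.of_equiv
    (LinearEquiv.ofBijective (QCoh.appLin ψ O) (hb O hOW)).symm⟩

variable [CompactSpace X] [QuasiSeparatedSpace X]

theorem quasiCompact_ι {U : X.Opens} (hU : IsCompact (U : Set X)) : QuasiCompact U.ι :=
  (quasiCompact_iff_compactSpace U.ι).2 (isCompact_iff_compactSpace.1 hU)

/-- One step of the extension. -/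
theorem exists_extend_step {H : X.Modules} (hH : Coh.IsQCoh H) {W V : X.Opens} (hW : IsCompact (W : Set X))
    (hfp : FPOn H W) (hV : IsAffineOpen V) :
    ∃ (G : X.Modules) (ψ : G ⟶ H), Coh.IsQCoh G ∧ (∀ O ≤ W, Function.Bijective (ψ.app O)) ∧ FPOn G (W ⊔ V) := by
  haveI : IsAffine V := hV
  haveI := quasiCompact_ι hV.isCompact
  have hW' : IsCompact ((V.ι ⁻¹ᵁ W : (V : Scheme.{u}).Opens) : Set (V : Scheme.{u})) :=
    QuasiCompact.isCompact_preimage _ W.2 hW
  obtain ⟨M, μ, hM, hμ⟩ := exists_fp_affine (QCoh.isQCoh_restrict V.ι hH) hW' (fpOn_restrict hH hfp V)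
  have h1 := QCoh.isQCoh_pushforward V.ι (QCoh.isQCoh_of_isFP hM)
  have h2 := QCoh.isQCoh_pushforward V.ι (QCoh.isQCoh_restrict V.ι hH)
  let p : H ⟶ (Scheme.Modules.pushforward V.ι).obj (H.restrict V.ι) :=
    (Scheme.Modules.restrictAdjunction V.ι).unit.app H
  let q := (Scheme.Modules.pushforward V.ι).map μ
  have hψ : ∀ O ≤ W, Function.Bijective ((fibFst p q).app O) := fun O hO =>
    bijective_fibFst p q hH h1 h2 (hμ (V.ι ⁻¹ᵁ O) fun y hy => hO hy)
  refine ⟨fib p q, fibFst p q, isQCoh_fib p q hH h1 h2, hψ, fun x hx => ?_⟩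
  rcases hx with hx | hx
  · obtain ⟨O, hO, hxO, hOW, hfpO⟩ := fpOn_of_bijective (fibFst p q) hψ hfp x hx
    exact ⟨O, hO, hxO, hOW.trans le_sup_left, hfpO⟩
  · haveI := finitePresentation_push hM hV le_rfl
    exact ⟨V, hV, hx, le_sup_right, Module.FinitePresentation.of_equiv
      (LinearEquiv.ofBijective (QCoh.appLin (fibSnd p q) V)
        (bijective_fibSnd p q hH h1 h2 (bijective_unit_app le_rfl))).symm⟩

/-- A quasi-coherent module, finitely presented on a quasi-compact open, agrees there with a finitely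
presented module. -/
theorem exists_fp_extension {H : X.Modules} (hH : Coh.IsQCoh H) {U : X.Opens} (hU : IsCompact (U : Set X))
    (hfp : FPOn H U) :
    ∃ (G : X.Modules) (ψ : G ⟶ H), CohB1.IsFP G ∧ ∀ O ≤ U, Function.Bijective (ψ.app O) := by
  classical
  suffices key : ∀ t : Finset X.affineOpens, ∃ (W : X.Opens) (G : X.Modules) (ψ : G ⟶ H), U ≤ W ∧
      IsCompact (W : Set X) ∧ Coh.IsQCoh G ∧ (∀ O ≤ U, Function.Bijective (ψ.app O)) ∧ FPOn G W ∧
      ∀ V ∈ t, V.1 ≤ W by
    obtain ⟨t, ht⟩ := isCompact_univ.elim_finite_subcover (fun V : X.affineOpens => (V.1 : Set X))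
      (fun V => V.1.2) fun x _ => by
        obtain ⟨V, hV, hxV, -⟩ := exists_isAffineOpen_mem_and_subset (x := x) (U := ⊤) trivial
        exact Set.mem_iUnion.2 ⟨⟨V, hV⟩, hxV⟩
    obtain ⟨W, G, ψ, -, -, hG, hb, hfpW, htW⟩ := key t
    have htop : W = ⊤ := eq_top_iff.2 fun x _ => by
      obtain ⟨V, hV, hxV⟩ := Set.mem_iUnion₂.1 (ht (Set.mem_univ x))
      exact htW V hV hxV
    exact ⟨G, ψ, isFP_of_fpOn_top hG (htop ▸ hfpW), hb⟩
  intro t
  induction t using Finset.induction_on with
  | empty => exact ⟨U, H, 𝟙 H, le_rfl, hU, hH, fun O _ => Function.bijective_id, hfp, by simp⟩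
  | insert V t _ ih =>
    obtain ⟨W, G, ψ, hUW, hW, hG, hb, hfpW, htW⟩ := ih
    obtain ⟨G', ψ', hG', hb', hfp'⟩ := exists_extend_step hG hW hfpW V.2
    refine ⟨W ⊔ V.1, G', ψ' ≫ ψ, hUW.trans le_sup_left, by simpa using hW.union V.2.isCompact, hG',
      fun O hO => (hb O hO).comp (hb' O (hO.trans hUW)), hfp', fun V' hV' => ?_⟩
    rcases Finset.mem_insert.1 hV' with rfl | h
    · exact le_sup_right
    · exact (htW V' h).trans le_sup_left

/-- Extension of a finitely presented module with a map to a quasi-coherent one. -/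
theorem exists_extension {F : X.Modules} (hF : Coh.IsQCoh F) {U : X.Opens} (hU : IsCompact (U : Set X))
    {G : (U : Scheme.{u}).Modules} (hG : CohB1.IsFP G) (φ : G ⟶ F.restrict U.ι) :
    ∃ (G' : X.Modules) (φ' : G' ⟶ F) (e : G'.restrict U.ι ≅ G), CohB1.IsFP G' ∧
      e.hom ≫ φ = (Scheme.Modules.restrictFunctor U.ι).map φ' := by
  haveI := quasiCompact_ι hU
  let adj := Scheme.Modules.restrictAdjunction U.ι
  let p : F ⟶ (Scheme.Modules.pushforward U.ι).obj (F.restrict U.ι) := adj.unit.app F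
  let q := (Scheme.Modules.pushforward U.ι).map φ
  have h1 := QCoh.isQCoh_pushforward U.ι (QCoh.isQCoh_of_isFP hG)
  have h2 := QCoh.isQCoh_pushforward U.ι (QCoh.isQCoh_restrict U.ι hF)
  have hsnd : ∀ O ≤ U, Function.Bijective ((fibSnd p q).app O) := fun O hO =>
    bijective_fibSnd p q hF h1 h2 (bijective_unit_app hO)
  have hfp : FPOn (fib p q) U := fpOn_of_bijective (fibSnd p q) hsnd fun x hx => by
    obtain ⟨O, hO, hxO, hOU⟩ := exists_isAffineOpen_mem_and_subset (x := x) (U := U) hx
    exact ⟨O, hO, hxO, hOU, finitePresentation_push hG hO hOU⟩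
  obtain ⟨G', ψ, hG', hψ⟩ := exists_fp_extension (isQCoh_fib p q hF h1 h2) hU hfp
  let a := (Scheme.Modules.restrictFunctor U.ι).map (ψ ≫ fibSnd p q)
  haveI : IsIso a := Scheme.Modules.Hom.isIso_iff_isIso_app.2 fun W => by
    have hW : U.ι ''ᵁ W ≤ U := (U.ι.image_le_opensRange W).trans U.opensRange_ι.le
    exact (ConcreteCategory.isIso_iff_bijective _).2 ((hsnd _ hW).comp (hψ _ hW))
  refine ⟨G', ψ ≫ fibFst p q, asIso (a ≫ adj.counit.app G), hG', ?_⟩
  have h3 : adj.counit.app G ≫ φ = (Scheme.Modules.restrictFunctor U.ι).map q ≫ adj.counit.app (F.restrict U.ι) :=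
    (adj.counit.naturality φ).symm
  rw [asIso_hom, Category.assoc, h3, ← Category.assoc, ← Functor.map_comp, Category.assoc,
    show fibSnd p q ≫ q = fibFst p q ≫ p from (fib_condition p q).symm, ← Category.assoc, Functor.map_comp,
    Category.assoc]
  exact (congrArg ((Scheme.Modules.restrictFunctor U.ι).map (ψ ≫ fibFst p q) ≫ ·)
    (adj.left_triangle_components F)).trans (Category.comp_id _)

end Groth.Agent.LimitsH94.FPExtend
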