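import Groth.Agent.MorLib.SpreadFP
import Groth.Agent.SpreadUniq.Basic
import Groth.Agent.Rat20Lib.Criterion
import Groth.Agent.SchTop.Maximal
import Groth.Agent.SBAut.Yoneda

/-! Morphisms are glued from a punctured scheme and a local scheme. -/

set_option autoImplicit false
set_option backward.isDefEq.respectTransparency false
set_option backward.isDefEq.respectTransparency.types false
set_option linter.style.haveILetI false
universe u

open CategoryTheory Limits AlgebraicGeometry TopologicalSpace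

namespace Groth.Agent.LimitsH94.GlueClosedPoint

/-- A point adherent to a closed subset of a basic open is a specialisation of one of its points. -/
theorem exists_specializes_of_mem_closure {A : CommRingCat.{u}} (f : A) (T : Set (PrimeSpectrum A))
    (hT : IsClosed T) {p : PrimeSpectrum A}
    (hp : p ∈ closure ((PrimeSpectrum.basicOpen f : Set (PrimeSpectrum A)) ∩ T)) :
    ∃ q, q ∈ PrimeSpectrum.basicOpen f ∧ q ∈ T ∧ q ⤳ p := by
  obtain ⟨I, hI⟩ := (PrimeSpectrum.isClosed_iff_zeroLocus_ideal _).1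
    (hT.preimage (PrimeSpectrum.continuous_comap (algebraMap A (Localization.Away f))))
  let φ : A →+* Localization.Away f ⧸ I := (Ideal.Quotient.mk I).comp (algebraMap A (Localization.Away f))
  have hr : Set.range (PrimeSpectrum.comap φ) = (PrimeSpectrum.basicOpen f : Set (PrimeSpectrum A)) ∩ T := by
    have e : (PrimeSpectrum.comap φ : _ → PrimeSpectrum A) =
        PrimeSpectrum.comap (algebraMap A (Localization.Away f)) ∘ PrimeSpectrum.comap (Ideal.Quotient.mk I) :=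
      funext fun _ => rfl
    rw [e, Set.range_comp, range_comap_of_surjective _ _ Ideal.Quotient.mk_surjective,
      Ideal.mk_ker, ← hI, Set.image_preimage_eq_inter_range,
      PrimeSpectrum.localization_away_comap_range (Localization.Away f) f, Set.inter_comm]
  obtain ⟨q, hq⟩ := SchTop.exists_specializes_of_mem_closure_range (CommRingCat.ofHom φ : A ⟶ _) p
    (by rw [show (CommRingCat.ofHom φ).hom = φ from rfl, hr]; exact hp)
  have hmem : PrimeSpectrum.comap φ q ∈ (PrimeSpectrum.basicOpen f : Set (PrimeSpectrum A)) ∩ T := hr ▸ ⟨q, rfl⟩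
  exact ⟨_, hmem.1, hmem.2, hq⟩

variable {X : Scheme.{u}}

/-- Variant on a scheme: a point of an affine open, adherent to a closed subset of a quasi-compact open
inside it, is a specialisation of a point of that subset. -/
theorem exists_specializes_of_mem_closure' {W : X.Opens} (hW : IsAffineOpen W) {N : X.Opens} (hN : N ≤ W)
    (hNc : IsCompact (N : Set X)) (T : Set X) (hT : IsClosed T) {x : X} (hx : x ∈ W)
    (hc : x ∈ closure ((N : Set X) ∩ T)) : ∃ t ∈ (N : Set X) ∩ T, t ⤳ x := by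
  choose f hf hmem using fun t : N => hW.exists_basicOpen_le (V := N) t (hN t.2)
  obtain ⟨s, hs⟩ := hNc.elim_finite_subcover (fun t : N => (X.basicOpen (f t) : Set X))
    (fun t => (X.basicOpen (f t)).isOpen) fun t ht => Set.mem_iUnion.2 ⟨⟨t, ht⟩, hmem ⟨t, ht⟩⟩
  have hc' : x ∈ closure (⋃ t ∈ s, (X.basicOpen (f t) : Set X) ∩ T) :=
    closure_mono (fun y hy => by
      obtain ⟨t, ht, hyt⟩ := Set.mem_iUnion₂.1 (hs hy.1)
      exact Set.mem_iUnion₂.2 ⟨t, ht, hyt, hy.2⟩) hc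
  rw [Finset.closure_biUnion] at hc'
  obtain ⟨t, -, hxt⟩ := Set.mem_iUnion₂.1 hc'
  let p := hW.primeIdealOf ⟨x, hx⟩
  have hp : hW.fromSpec p = x := hW.fromSpec_primeIdealOf ⟨x, hx⟩
  have hp' : p ∈ closure ((PrimeSpectrum.basicOpen (f t) : Set (PrimeSpectrum Γ(X, W))) ∩ hW.fromSpec ⁻¹' T) := by
    have hpre : (PrimeSpectrum.basicOpen (f t) : Set (PrimeSpectrum Γ(X, W))) ∩ hW.fromSpec ⁻¹' T =
        hW.fromSpec ⁻¹' ((X.basicOpen (f t) : Set X) ∩ T) := by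
      rw [Set.preimage_inter]
      congr 1
      exact congrArg (fun O : (Spec Γ(X, W)).Opens => (O : Set (Spec Γ(X, W)))) (hW.fromSpec_preimage_basicOpen (f t)).symm
    rw [hpre, ← hW.fromSpec.isOpenEmbedding.isOpenMap.preimage_closure_eq_closure_preimage hW.fromSpec.continuous]
    rw [Set.mem_preimage, hp]
    exact hxt
  obtain ⟨q, hq1, hq2, hq3⟩ := exists_specializes_of_mem_closure (f t) _ (hT.preimage hW.fromSpec.continuous) hp'
  refine ⟨hW.fromSpec q, ⟨hf t ?_, hq2⟩, hp ▸ hq3.map hW.fromSpec.continuous⟩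
  have : q ∈ hW.fromSpec ⁻¹ᵁ X.basicOpen (f t) := by rw [hW.fromSpec_preimage_basicOpen]; exact hq1
  exact this

theorem isIso_ι_of_eq_top {U : X.Opens} (h : U = ⊤) : IsIso U.ι := by
  subst h
  exact X.topIso.isIso_hom

theorem hom_ext_of_cover {Y : Scheme.{u}} (g₁ g₂ : X ⟶ Y) {U W : X.Opens} (h : U ⊔ W = ⊤)
    (hU : U.ι ≫ g₁ = U.ι ≫ g₂) (hW : W.ι ≫ g₁ = W.ι ≫ g₂) : g₁ = g₂ := by
  haveI : IsIso (U ⊔ W).ι := isIso_ι_of_eq_top h
  rw [← cancel_epi (U ⊔ W).ι]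
  exact Rat20Lib.hom_ext_sup _ _ (by rw [Scheme.homOfLE_ι_assoc, Scheme.homOfLE_ι_assoc, hU])
    (by rw [Scheme.homOfLE_ι_assoc, Scheme.homOfLE_ι_assoc, hW])

variable {Y S : Scheme.{u}} (p : X ⟶ S) (q : Y ⟶ S) [LocallyOfFinitePresentation q]

theorem existence (x : X) (U : X.Opens) (hU : (U : Set X) = {x}ᶜ) [QuasiCompact U.ι]
    (a : (U : Scheme.{u}) ⟶ Y) (b : Spec (X.presheaf.stalk x) ⟶ Y) (ha : a ≫ q = U.ι ≫ p)
    (hb : b ≫ q = X.fromSpecStalk x ≫ p)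
    (hab : ((X.fromSpecStalk x) ⁻¹ᵁ U).ι ≫ b = ((X.fromSpecStalk x) ∣_ U) ≫ a) :
    ∃ g : X ⟶ Y, g ≫ q = p ∧ U.ι ≫ g = a ∧ X.fromSpecStalk x ≫ g = b := by
  obtain ⟨W₁, hxW₁, g₁, hbg, hg₁⟩ := MorLib.SFP.spread_out p q b hb
  obtain ⟨W, hW, hxW, hWW₁⟩ := exists_isAffineOpen_mem_and_subset (x := x) (U := W₁) hxW₁
  have hNc : IsCompact ((W ⊓ U : X.Opens) : Set X) := by
    have h1 : IsCompact ((U.ι ⁻¹ᵁ W : (U : Scheme.{u}).Opens) : Set (U : Scheme.{u})) :=
      QuasiCompact.isCompact_preimage _ W.2 hW.isCompact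
    have h2 := h1.image U.ι.continuous
    have : U.ι ''ᵁ U.ι ⁻¹ᵁ W = W ⊓ U := by
      rw [U.ι.image_preimage_eq_opensRange_inf, Scheme.Opens.opensRange_ι, inf_comm]
    rw [← this]
    exact h2
  let N : X.Opens := W ⊓ U
  let g₀ : (N : Scheme.{u}) ⟶ Y := X.homOfLE ((inf_le_left : N ≤ W).trans hWW₁) ≫ g₁
  let a₀ : (N : Scheme.{u}) ⟶ Y := X.homOfLE (inf_le_right : N ≤ U) ≫ a
  have hq0 : g₀ ≫ q = a₀ ≫ q := by
    simp only [g₀, a₀, Category.assoc, hg₁, ha, Scheme.homOfLE_ι_assoc]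
  -- the open where they agree
  let E : X.Opens := sSup {O : X.Opens | ∃ h : O ≤ N, X.homOfLE h ≫ g₀ = X.homOfLE h ≫ a₀}
  have hgen : ∀ t ∈ N, t ⤳ x → t ∈ E := by
    intro t ht htx
    let n : (N : Scheme.{u}) := ⟨t, ht⟩
    let r : Spec ((N : Scheme.{u}).presheaf.stalk n) ⟶ Spec (X.presheaf.stalk x) :=
      Spec.map (N.ι.stalkMap n) ≫ Spec.map (X.presheaf.stalkSpecializes (show N.ι n ⤳ x from htx))
    have hr : r ≫ X.fromSpecStalk x = (N : Scheme.{u}).fromSpecStalk n ≫ N.ι := by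
      simp only [r, Category.assoc, Scheme.SpecMap_stalkSpecializes_fromSpecStalk,
        Scheme.SpecMap_stalkMap_fromSpecStalk]
    have hrU : Set.range r ⊆ Set.range ((X.fromSpecStalk x) ⁻¹ᵁ U).ι := by
      rintro _ ⟨z, rfl⟩
      rw [Scheme.Opens.range_ι]
      show (r ≫ X.fromSpecStalk x) z ∈ U
      rw [hr]
      exact ((N : Scheme.{u}).fromSpecStalk n z).2.2
    let r' := IsOpenImmersion.lift ((X.fromSpecStalk x) ⁻¹ᵁ U).ι r hrU
    have hr' : r' ≫ ((X.fromSpecStalk x) ⁻¹ᵁ U).ι = r := IsOpenImmersion.lift_fac _ _ _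
    have h1 : r' ≫ ((X.fromSpecStalk x) ∣_ U) = (N : Scheme.{u}).fromSpecStalk n ≫ X.homOfLE inf_le_right := by
      rw [← cancel_mono U.ι, Category.assoc, morphismRestrict_ι, ← Category.assoc, hr', hr, Category.assoc,
        Scheme.homOfLE_ι]
    have h2 : r ≫ W₁.fromSpecStalkOfMem x hxW₁ =
        (N : Scheme.{u}).fromSpecStalk n ≫ X.homOfLE ((inf_le_left : N ≤ W).trans hWW₁) := by
      rw [← cancel_mono W₁.ι, Category.assoc, Scheme.Opens.fromSpecStalkOfMem_ι, hr, Category.assoc,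
        Scheme.homOfLE_ι]
    have e : (N : Scheme.{u}).fromSpecStalk n ≫ g₀ = (N : Scheme.{u}).fromSpecStalk n ≫ a₀ := by
      simp only [g₀, a₀]
      rw [← reassoc_of% h1, ← hab, ← Category.assoc r', hr', hbg, reassoc_of% h2]
    obtain ⟨O, hnO, hO⟩ := SpreadUniq.spread_out_unique q g₀ a₀ hq0 e
    refine Opens.mem_sSup.2 ⟨N.ι ''ᵁ O, ⟨(N.ι.image_le_opensRange O).trans N.opensRange_ι.le, ?_⟩,
      ⟨n, hnO, rfl⟩⟩
    have hi : X.homOfLE ((N.ι.image_le_opensRange O).trans N.opensRange_ι.le) = (N.ι.isoImage O).inv ≫ O.ι := by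
      rw [← cancel_mono N.ι, Scheme.homOfLE_ι, Category.assoc, Scheme.Hom.isoImage_inv_ι]
    rw [hi, Category.assoc, Category.assoc, hO]
  -- a neighbourhood of the point
  have hxK : x ∉ closure ((N : Set X) ∩ (E : Set X)ᶜ) := fun hc => by
    obtain ⟨t, ⟨htN, htE⟩, htx⟩ := exists_specializes_of_mem_closure' hW (inf_le_left : N ≤ W) hNc _
      E.isOpen.isClosed_compl hxW hc
    exact htE (hgen t htN htx)
  let W' : X.Opens := W ⊓ ⟨(closure ((N : Set X) ∩ (E : Set X)ᶜ))ᶜ, isClosed_closure.isOpen_compl⟩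
  have hxW' : x ∈ W' := ⟨hxW, hxK⟩
  have hagree : X.homOfLE (inf_le_left : U ⊓ W' ≤ U) ≫ a =
      X.homOfLE (inf_le_right : U ⊓ W' ≤ W') ≫ X.homOfLE ((inf_le_left : W' ≤ W).trans hWW₁) ≫ g₁ := by
    have hle : U ⊓ W' ≤ N := fun y hy => ⟨hy.2.1, hy.1⟩
    have hE : U ⊓ W' ≤ E := fun y hy => by
      by_contra hn
      exact hy.2.2 (subset_closure ⟨hle hy, hn⟩)
    have key : X.homOfLE hle ≫ g₀ = X.homOfLE hle ≫ a₀ := by
      refine Scheme.Cover.hom_ext (Scheme.openCoverOfIsOpenCover _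
        (fun i : {O : X.Opens | ∃ h : O ≤ N, X.homOfLE h ≫ g₀ = X.homOfLE h ≫ a₀} =>
          (U ⊓ W').ι ⁻¹ᵁ i.1) (IsOpenCover.mk ?_)) _ _ fun i => ?_
      · refine top_le_iff.1 fun y _ => ?_
        obtain ⟨O, hO, hyO⟩ := Opens.mem_sSup.1 (hE y.2)
        exact Opens.mem_iSup.2 ⟨⟨O, hO⟩, hyO⟩
      · obtain ⟨O, hO, hOe⟩ := i
        show ((U ⊓ W').ι ⁻¹ᵁ O).ι ≫ _ = ((U ⊓ W').ι ⁻¹ᵁ O).ι ≫ _
        have hm : ((U ⊓ W').ι ⁻¹ᵁ O).ι ≫ X.homOfLE hle = ((U ⊓ W').ι ∣_ O) ≫ X.homOfLE hO := by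
          rw [← cancel_mono N.ι, Category.assoc, Category.assoc, Scheme.homOfLE_ι, Scheme.homOfLE_ι,
            morphismRestrict_ι]
        rw [reassoc_of% hm, reassoc_of% hm, hOe]
    simp only [g₀, a₀, Scheme.homOfLE_homOfLE_assoc] at key
    rw [Scheme.homOfLE_homOfLE_assoc]
    exact key.symm
  obtain ⟨F, hFU, hFW⟩ := Rat20Lib.exists_glue U W' a _ hagree
  have htop : U ⊔ W' = ⊤ := top_le_iff.1 fun y _ => by
    by_cases hy : y = x
    · exact Or.inr (hy ▸ hxW')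
    · exact Or.inl (show y ∈ (U : Set X) from hU.symm ▸ hy)
  haveI : IsIso (U ⊔ W').ι := isIso_ι_of_eq_top htop
  have hgU : U.ι ≫ inv (U ⊔ W').ι ≫ F = a := by
    rw [← Scheme.homOfLE_ι X (le_sup_left : U ≤ U ⊔ W'), Category.assoc, IsIso.hom_inv_id_assoc, hFU]
  have hgW : W'.ι ≫ inv (U ⊔ W').ι ≫ F = X.homOfLE ((inf_le_left : W' ≤ W).trans hWW₁) ≫ g₁ := by
    rw [← Scheme.homOfLE_ι X (le_sup_right : W' ≤ U ⊔ W'), Category.assoc, IsIso.hom_inv_id_assoc, hFW]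
  refine ⟨inv (U ⊔ W').ι ≫ F, hom_ext_of_cover _ _ htop ?_ ?_, hgU, ?_⟩
  · rw [← Category.assoc, hgU, ha]
  · rw [← Category.assoc, hgW, Category.assoc, hg₁, Scheme.homOfLE_ι_assoc]
  · rw [← Scheme.Opens.fromSpecStalkOfMem_ι W' x hxW', Category.assoc, hgW, hbg, ← Category.assoc]
    congr 1
    rw [← cancel_mono W₁.ι, Category.assoc, Scheme.homOfLE_ι, Scheme.Opens.fromSpecStalkOfMem_ι,
      Scheme.Opens.fromSpecStalkOfMem_ι]

include q in
theorem uniqueness (x : X) (U : X.Opens) (hU : (U : Set X) = {x}ᶜ) (g₁ g₂ : X ⟶ Y)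
    (h1 : U.ι ≫ g₁ = U.ι ≫ g₂)
    (h2 : X.fromSpecStalk x ≫ g₁ = X.fromSpecStalk x ≫ g₂) : g₁ = g₂ := by
  have hS : g₁ ≫ q = g₂ ≫ q := SBAut.hom_ext_fromSpecStalk _ _ fun y => by
    by_cases hy : y = x
    · subst hy
      rw [← Category.assoc, h2, Category.assoc]
    · have hyU : y ∈ U := show y ∈ (U : Set X) from hU.symm ▸ hy
      rw [← Scheme.Opens.fromSpecStalkOfMem_ι U y hyU, Category.assoc, Category.assoc, reassoc_of% h1]
  obtain ⟨V, hxV, hV⟩ := SpreadUniq.spread_out_unique q g₁ g₂ hS h2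
  exact hom_ext_of_cover _ _ (top_le_iff.1 fun y _ => by
    by_cases hy : y = x
    · exact Or.inr (hy ▸ hxV)
    · exact Or.inl (show y ∈ (U : Set X) from hU.symm ▸ hy)) h1 hV

end Groth.Agent.LimitsH94.GlueClosedPoint
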