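import Groth.Agent.LimitsH94.LimLocFree
import Groth.Agent.MorLib.LimFlat

/-! Exactness along a flat affine cofiltered limit. -/

set_option autoImplicit false
set_option linter.style.haveILetI false
universe u

namespace Groth.Agent.LimitsH94.LM

open CategoryTheory Limits AlgebraicGeometry TopologicalSpace TensorProduct

section Flat

variable {X Y : Scheme.{u}} (φ : Y ⟶ X) [IsAffineHom φ] [Flat φ] {A B : X.Modules}

theorem mono_pullback_map (hA : Coh.IsQCoh A) (hB : Coh.IsQCoh B) (m : A ⟶ B) [Mono m] :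
    Mono ((Scheme.Modules.pullback φ).map m) := by
  have hA' := QCoh.isQCoh_pullback φ hA
  have hB' := QCoh.isQCoh_pullback φ hB
  refine Preadditive.mono_of_isZero_kernel _ ?_
  refine QCoh.isZero_of_cover (QCoh.isQCoh_kernel hA' hB' _) (fun U : X.affineOpens => φ ⁻¹ᵁ U.1)
    (fun U => U.2.preimage φ) (fun y => exists_mem_affine (φ y)) fun U => ?_
  obtain ⟨U, hU⟩ := U
  refine subsingleton_of_forall_eq 0 fun z => ?_
  letI := (φ.app U).hom.toAlgebra
  haveI : Module.Flat Γ(X, U) Γ(Y, φ ⁻¹ᵁ U) := by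
    have := Flat.flat_appLE φ hU (hU.preimage φ) le_rfl
    rw [Scheme.Hom.appLE_eq_app] at this
    exact this
  let mk : ∀ {M : X.Modules}, Coh.IsQCoh M →
      ∃ e : Γ(Y, φ ⁻¹ᵁ U) ⊗[Γ(X, U)] Γ(M, U) ≃ₗ[Γ(Y, φ ⁻¹ᵁ U)] Γ((Scheme.Modules.pullback φ).obj M, φ ⁻¹ᵁ U),
        ∀ a x, e (a ⊗ₜ x) = a • QCoh.pullSec φ M le_rfl x := fun {M} hM => by
    letI : Module Γ(X, U) Γ((Scheme.Modules.pullback φ).obj M, φ ⁻¹ᵁ U) := Module.compHom _ (φ.app U).hom
    haveI : IsScalarTower Γ(X, U) Γ(Y, φ ⁻¹ᵁ U) Γ((Scheme.Modules.pullback φ).obj M, φ ⁻¹ᵁ U) :=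
      IsScalarTower.of_algebraMap_smul fun _ _ => rfl
    let l : Γ(M, U) →ₗ[Γ(X, U)] Γ((Scheme.Modules.pullback φ).obj M, φ ⁻¹ᵁ U) :=
      { toFun := QCoh.pullSec φ M le_rfl
        map_add' := QCoh.pullSec_add φ M le_rfl
        map_smul' := fun r x => (QCoh.pullSec_smul φ M le_rfl r x).trans (by
          rw [Scheme.Hom.appLE_eq_app]; rfl) }
    exact ⟨_, fun a x => (QCoh.isBaseChange_pullback hU φ (hU.preimage φ) hM le_rfl
      (fun r => by rw [Scheme.Hom.appLE_eq_app]; rfl) l fun _ => rfl).equiv_tmul a x⟩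
  obtain ⟨eA, hAe⟩ := mk hA
  obtain ⟨eB, hBe⟩ := mk hB
  let m₁ := QCoh.appLin m U
  have hsq : ∀ t, eB (m₁.lTensor _ t) = ((Scheme.Modules.pullback φ).map m).app (φ ⁻¹ᵁ U) (eA t) := by
    intro t
    induction t using TensorProduct.induction_on with
    | zero => simp
    | tmul a x =>
      rw [LinearMap.lTensor_tmul, hAe, hBe, Scheme.Modules.Hom.app_smul, pullSec_map]
      rfl
    | add s t hs ht => rw [map_add, map_add, map_add, map_add, hs, ht]
  refine QCoh.app_injective (kernel.ι ((Scheme.Modules.pullback φ).map m)) _ ?_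
  rw [map_zero]
  have h0 : ((Scheme.Modules.pullback φ).map m).app (φ ⁻¹ᵁ U)
      ((kernel.ι ((Scheme.Modules.pullback φ).map m)).app (φ ⁻¹ᵁ U) z) = 0 :=
    congr(($(kernel.condition ((Scheme.Modules.pullback φ).map m))).app (φ ⁻¹ᵁ U) z)
  obtain ⟨t, ht⟩ := eA.surjective ((kernel.ι ((Scheme.Modules.pullback φ).map m)).app (φ ⁻¹ᵁ U) z)
  have h1 : m₁.lTensor Γ(Y, φ ⁻¹ᵁ U) t = 0 := eB.injective (by rw [hsq, ht, h0, map_zero])
  have h2 : t = 0 := Module.Flat.lTensor_preserves_injective_linearMap m₁ (QCoh.app_injective m U)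
    (by rw [h1, map_zero])
  rw [← ht, h2, map_zero]

/-- A flat pullback preserves kernels of quasi-coherent modules. -/
theorem exact_pullback_kernel (hA : Coh.IsQCoh A) (hB : Coh.IsQCoh B) (g : A ⟶ B) :
    (ShortComplex.mk ((Scheme.Modules.pullback φ).map (kernel.ι g)) ((Scheme.Modules.pullback φ).map g)
      (by rw [← Functor.map_comp, kernel.condition, Functor.map_zero])).Exact := by
  let P := Scheme.Modules.pullback φ
  have hco : IsColimit (CokernelCofork.ofπ (P.map (Abelian.coimage.π g))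
      (by rw [← P.map_comp, cokernel.condition, P.map_zero]) : CokernelCofork (P.map (kernel.ι g))) :=
    CokernelCofork.mapIsColimit _ (cokernelIsCokernel (kernel.ι g)) P
  have hS : (ShortComplex.mk _ _ (CokernelCofork.condition
      (CokernelCofork.ofπ (f := P.map (kernel.ι g)) (P.map (Abelian.coimage.π g))
        (by rw [← P.map_comp, cokernel.condition, P.map_zero])))).Exact :=
    ShortComplex.exact_of_g_is_cokernel _ hco
  haveI : Mono (P.map (Abelian.factorThruCoimage g)) :=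
    mono_pullback_map φ (QCoh.isQCoh_cokernel (QCoh.isQCoh_kernel hA hB g) hA _) hB _
  let S₁ : ShortComplex Y.Modules := ShortComplex.mk (P.map (kernel.ι g)) (P.map (Abelian.coimage.π g))
    (by rw [← P.map_comp, cokernel.condition, P.map_zero])
  let S₂ : ShortComplex Y.Modules := ShortComplex.mk (P.map (kernel.ι g)) (P.map g)
    (by rw [← P.map_comp, kernel.condition, P.map_zero])
  let ψ : S₁ ⟶ S₂ :=
    { τ₁ := 𝟙 _
      τ₂ := 𝟙 _
      τ₃ := P.map (Abelian.factorThruCoimage g)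
      comm₁₂ := by simp [S₁, S₂]
      comm₂₃ := by
        simp only [S₁, S₂, Category.id_comp]
        rw [← P.map_comp, Abelian.coimage.fac] }
  haveI : Epi ψ.τ₁ := inferInstanceAs (Epi (𝟙 _))
  haveI : IsIso ψ.τ₂ := inferInstanceAs (IsIso (𝟙 _))
  haveI : Mono ψ.τ₃ := inferInstanceAs (Mono (P.map (Abelian.factorThruCoimage g)))
  exact (ShortComplex.exact_iff_of_epi_of_isIso_of_mono ψ).1 hS

theorem exact_pullback_iff {C : X.Modules} (hA : Coh.IsQCoh A) (hB : Coh.IsQCoh B) (hC : Coh.IsQCoh C)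
    (f : A ⟶ B) (g : B ⟶ C)
    (w : (Scheme.Modules.pullback φ).map f ≫ (Scheme.Modules.pullback φ).map g = 0) :
    (ShortComplex.mk _ _ w).Exact ↔
      (Scheme.Modules.pullback φ).map (kernel.ι g ≫ cokernel.π f) = 0 := by
  let P := Scheme.Modules.pullback φ
  haveI : Mono (P.map (kernel.ι g)) := mono_pullback_map φ (QCoh.isQCoh_kernel hB hC g) hB _
  have hK : (ShortComplex.mk _ _ _).Exact := exact_pullback_kernel φ hB hC g
  have hco : IsColimit (CokernelCofork.ofπ (P.map (cokernel.π f))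
      (by rw [← P.map_comp, cokernel.condition, P.map_zero]) : CokernelCofork (P.map f)) :=
    CokernelCofork.mapIsColimit _ (cokernelIsCokernel f) P
  refine ((ShortComplex.mk _ _ w).exact_iff_of_forks hK.fIsKernel hco).trans ?_
  change P.map (kernel.ι g) ≫ P.map (cokernel.π f) = 0 ↔ _
  rw [← P.map_comp]

end Flat

section Stages

variable {I : Type u} [SmallCategory I] [IsCofiltered I] {D : I ⥤ Scheme.{u}} {c : Cone D}
  [∀ (a b : I) (f : a ⟶ b), IsAffineHom (D.map f)] {i : I}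


theorem exists_stage_mono_iff (hc : IsLimit c) [CompactSpace (D.obj i)]
    (hfl : ∀ (a b : I) (f : a ⟶ b), Flat (D.map f)) {A B : (D.obj i).Modules}
    (hA : Coh.IsQCoh A) (hB : Coh.IsQCoh B) (f : A ⟶ B) (hker : CohB1.IsFT (kernel f)) :
    Mono ((Scheme.Modules.pullback (c.π.app i)).map f) ↔
      ∃ (j : I) (φ : j ⟶ i), Mono ((Scheme.Modules.pullback (D.map φ)).map f) := by
  haveI := isAffineHom_π_app D c hc
  have hπ : ∀ j, Flat (c.π.app j) := fun j => MorLib.LimFlat.flat_π hc j fun a φ => hfl a j φ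
  constructor
  · intro h
    haveI := hπ i
    have hK := QCoh.isQCoh_kernel hA hB f
    haveI := mono_pullback_map (c.π.app i) hK hA (kernel.ι f)
    have h0 : (Scheme.Modules.pullback (c.π.app i)).map (kernel.ι f) = 0 := by
      rw [← cancel_mono ((Scheme.Modules.pullback (c.π.app i)).map f), ← Functor.map_comp,
        kernel.condition, Functor.map_zero, zero_comp]
    obtain ⟨j, φ, hj⟩ := exists_stage_isZero hc hK hker (IsZero.of_mono_eq_zero _ h0)
    haveI := hfl j i φ
    exact ⟨j, φ, (exact_pullback_kernel (D.map φ) hA hB f).mono_g (hj.eq_of_src _ _)⟩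
  · rintro ⟨j, φ, h⟩
    haveI := hπ j
    haveI := mono_pullback_map (c.π.app j) (QCoh.isQCoh_pullback (D.map φ) hA)
      (QCoh.isQCoh_pullback (D.map φ) hB) ((Scheme.Modules.pullback (D.map φ)).map f)
    haveI : Mono ((Scheme.Modules.pullback (D.map φ) ⋙ Scheme.Modules.pullback (c.π.app j)).map f) :=
      inferInstanceAs (Mono ((Scheme.Modules.pullback (c.π.app j)).map
        ((Scheme.Modules.pullback (D.map φ)).map f)))
    rw [map_conj (limIso c φ) f]
    infer_instance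

theorem exists_stage_exact_iff (hc : IsLimit c) [CompactSpace (D.obj i)]
    (hfl : ∀ (a b : I) (f : a ⟶ b), Flat (D.map f)) {A B C : (D.obj i).Modules}
    (hA : Coh.IsQCoh A) (hB : Coh.IsQCoh B) (hC : Coh.IsQCoh C) (f : A ⟶ B) (g : B ⟶ C)
    (hIm : CohB1.IsFT (Limits.image f)) (hker : CohB1.IsFT (kernel g)) :
    (∃ w : (Scheme.Modules.pullback (c.π.app i)).map f ≫ (Scheme.Modules.pullback (c.π.app i)).map g = 0,
      (ShortComplex.mk _ _ w).Exact) ↔
      ∃ (j : I) (φ : j ⟶ i) (w : (Scheme.Modules.pullback (D.map φ)).map f ≫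
        (Scheme.Modules.pullback (D.map φ)).map g = 0), (ShortComplex.mk _ _ w).Exact := by
  haveI := isAffineHom_π_app D c hc
  haveI hπ : ∀ j, Flat (c.π.app j) := fun j => MorLib.LimFlat.flat_π hc j fun a φ => hfl a j φ
  haveI : ∀ (a b : I) (f : a ⟶ b), Flat (D.map f) := hfl
  have hK := QCoh.isQCoh_kernel hB hC g
  constructor
  · rintro ⟨w, hex⟩
    have hImQ : Coh.IsQCoh (Limits.image f) :=
      (QCoh.isQCoh_iff_iso (Abelian.imageIsoImage f)).1
        (QCoh.isQCoh_kernel hB (QCoh.isQCoh_cokernel hA hB f) _)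
    have h1 : (Scheme.Modules.pullback (c.π.app i)).map (image.ι f ≫ g) = 0 := by
      rw [← cancel_epi ((Scheme.Modules.pullback (c.π.app i)).map (factorThruImage f)),
        ← Functor.map_comp, image.fac_assoc, Functor.map_comp, w, comp_zero]
    obtain ⟨j₁, φ₁, hj₁⟩ := exists_stage_map_eq_zero hc hImQ hC hIm (image.ι f ≫ g) h1
    obtain ⟨j₂, φ₂, hj₂⟩ := exists_stage_map_eq_zero hc hK (QCoh.isQCoh_cokernel hA hB f) hker _
      ((exact_pullback_iff (c.π.app i) hA hB hC f g w).1 hex)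
    obtain ⟨k, ψ₁, ψ₂, hk⟩ := IsCofiltered.cospan φ₁ φ₂
    have h1' := map_eq_zero_of_stage φ₁ ψ₁ _ hj₁
    have h2' := map_eq_zero_of_stage φ₂ ψ₂ _ hj₂
    rw [← hk] at h2'
    have w' : (Scheme.Modules.pullback (D.map (ψ₁ ≫ φ₁))).map f ≫
        (Scheme.Modules.pullback (D.map (ψ₁ ≫ φ₁))).map g = 0 := by
      rw [← Functor.map_comp, ← image.fac f, Category.assoc, (Scheme.Modules.pullback (D.map (ψ₁ ≫ φ₁))).map_comp, h1', comp_zero]
    exact ⟨k, ψ₁ ≫ φ₁, w', (exact_pullback_iff _ hA hB hC f g w').2 h2'⟩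
  · rintro ⟨j, φ, w, hex⟩
    have w' : (Scheme.Modules.pullback (c.π.app i)).map f ≫ (Scheme.Modules.pullback (c.π.app i)).map g = 0 := by
      rw [← Functor.map_comp, ← zero_lim_iff φ, Functor.map_comp, w, Functor.map_zero]
    refine ⟨w', (exact_pullback_iff _ hA hB hC f g w').2 ?_⟩
    rw [← zero_lim_iff φ, (exact_pullback_iff _ hA hB hC f g w).1 hex, Functor.map_zero]

end Stages

end Groth.Agent.LimitsH94.LM
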