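import Groth.Agent.LimitsH94.GlueHom
import Groth.Agent.LimitsH94.LimMod
import Groth.Agent.ExistEasy.PP.PullSec

/-! Homomorphisms of quasi-coherent modules on a limit come from a stage. -/

set_option autoImplicit false
set_option backward.isDefEq.respectTransparency false
set_option backward.isDefEq.respectTransparency.types false
set_option linter.style.haveILetI false
universe u

open CategoryTheory Limits AlgebraicGeometry TopologicalSpace TensorProduct

namespace Groth.Agent.LimitsH94.LimHom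

section Tw

variable {X X' X'' : Scheme.{u}} {φ : X' ⟶ X} {ψ : X'' ⟶ X'} {χ : X'' ⟶ X} (h : ψ ≫ φ = χ) (G : X.Modules)

/-- The comparison of a pullback in two steps. -/
noncomputable def tw : (Scheme.Modules.pullback ψ).obj ((Scheme.Modules.pullback φ).obj G) ⟶
    (Scheme.Modules.pullback χ).obj G :=
  (Scheme.Modules.pullbackComp ψ φ).hom.app G ≫ (Scheme.Modules.pullbackCongr h).hom.app G

theorem tw_pullSec {V : X.Opens} {W : X'.Opens} {W' : X''.Opens} (h₁ : W ≤ φ ⁻¹ᵁ V) (h₂ : W' ≤ ψ ⁻¹ᵁ W)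
    (h₃ : W' ≤ χ ⁻¹ᵁ V) (x : Γ(G, V)) :
    (tw h G).app W' (QCoh.pullSec ψ _ h₂ (QCoh.pullSec φ G h₁ x)) = QCoh.pullSec χ G h₃ x := by
  refine (congrArg (((Scheme.Modules.pullbackCongr h).hom.app G).app W')
    (ExistEasy.pullSec_comp ψ φ G h₁ h₂ x)).trans ?_
  exact ExistEasy.pullSec_congr h G _ x

instance : IsIso (tw h G) := inferInstanceAs (IsIso (_ ≫ _))

/-- Moving a section of a pullback further up. -/
noncomputable def tau {W : X'.Opens} {W' : X''.Opens} (hle : W' ≤ ψ ⁻¹ᵁ W)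
    (x : Γ((Scheme.Modules.pullback φ).obj G, W)) : Γ((Scheme.Modules.pullback χ).obj G, W') :=
  (tw h G).app W' (QCoh.pullSec ψ _ hle x)

theorem tau_add {W : X'.Opens} {W' : X''.Opens} (hle : W' ≤ ψ ⁻¹ᵁ W)
    (x y : Γ((Scheme.Modules.pullback φ).obj G, W)) : tau h G hle (x + y) = tau h G hle x + tau h G hle y := by
  unfold tau; rw [QCoh.pullSec_add, map_add]

theorem tau_smul {W : X'.Opens} {W' : X''.Opens} (hle : W' ≤ ψ ⁻¹ᵁ W) (r : Γ(X', W))
    (x : Γ((Scheme.Modules.pullback φ).obj G, W)) :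
    tau h G hle (r • x) = ψ.appLE W W' hle r • tau h G hle x := by
  unfold tau; rw [QCoh.pullSec_smul, Scheme.Modules.Hom.app_smul]

theorem tau_zero {W : X'.Opens} {W' : X''.Opens} (hle : W' ≤ ψ ⁻¹ᵁ W) : tau h G hle 0 = 0 := by
  have h0 := tau_add h G hle 0 0
  rw [add_zero] at h0
  exact left_eq_add.1 h0

theorem tau_pullSec {V : X.Opens} {W : X'.Opens} {W' : X''.Opens} (h₁ : W ≤ φ ⁻¹ᵁ V) (h₂ : W' ≤ ψ ⁻¹ᵁ W)
    (h₃ : W' ≤ χ ⁻¹ᵁ V) (x : Γ(G, V)) :
    tau h G h₂ (QCoh.pullSec φ G h₁ x) = QCoh.pullSec χ G h₃ x := tw_pullSec h G h₁ h₂ h₃ x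

theorem tau_res {W W₁ : X'.Opens} {W' W₁' : X''.Opens} (hW : W₁ ≤ W) (hW' : W₁' ≤ W') (hle : W' ≤ ψ ⁻¹ᵁ W)
    (hle₁ : W₁' ≤ ψ ⁻¹ᵁ W₁) (x : Γ((Scheme.Modules.pullback φ).obj G, W)) :
    ((Scheme.Modules.pullback χ).obj G).presheaf.map (homOfLE hW').op (tau h G hle x) =
      tau h G hle₁ (((Scheme.Modules.pullback φ).obj G).presheaf.map (homOfLE hW).op x) := by
  unfold tau
  rw [← ExistEasy.pullSec_res ψ _ hW hW' hle hle₁]
  exact (QCoh.map_app_comm (tw h G) (homOfLE hW') _).symm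

theorem tau_tau {X''' : Scheme.{u}} {ω : X''' ⟶ X''} {ρ : X''' ⟶ X'} {σ : X''' ⟶ X} (h₂ : ω ≫ ψ = ρ)
    (h₃ : ω ≫ χ = σ) (h₄ : ρ ≫ φ = σ) (hG : Coh.IsQCoh G) {V : X.Opens} (hV : IsAffineOpen V) {W : X'.Opens}
    (hW : IsAffineOpen W) (hWV : W ≤ φ ⁻¹ᵁ V) {W' : X''.Opens} {W'' : X'''.Opens} (hle : W' ≤ ψ ⁻¹ᵁ W)
    (hle' : W'' ≤ ω ⁻¹ᵁ W') (hle'' : W'' ≤ ρ ⁻¹ᵁ W) (x : Γ((Scheme.Modules.pullback φ).obj G, W)) :
    tau h₃ G hle' (tau h G hle x) = tau h₄ G hle'' x := by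
  have hx : x ∈ Submodule.span Γ(X', W) (QCoh.pullSec φ G hWV '' Set.univ) :=
    (LM.span_pullSec φ hG hV hW hWV Submodule.span_univ).symm ▸ Submodule.mem_top
  induction hx using Submodule.span_induction with
  | mem z hz =>
    obtain ⟨y, -, rfl⟩ := hz
    rw [tau_pullSec h G hWV hle (hle.trans (by rw [← h]; exact (Opens.map ψ.base).monotone hWV)),
      tau_pullSec h₃ G _ hle' (hle''.trans (by rw [← h₄]; exact (Opens.map ρ.base).monotone hWV)),
      tau_pullSec h₄ G hWV hle'']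
  | zero => simp only [tau_zero]
  | add a b _ _ ha hb => simp only [tau_add, ha, hb]
  | smul r a _ ha =>
    simp only [tau_smul, ha]
    congr 1
    exact MorLib.IdealFG.appLE_appLE_apply ω ψ ρ h₂ hle hle' hle'' r

end Tw

/-- Sections of a pullback on an affine open, as a tensor product. -/
theorem exists_bc {X X' : Scheme.{u}} (φ : X' ⟶ X) {M : X.Modules} (hM : Coh.IsQCoh M) {V : X.Opens}
    (hV : IsAffineOpen V) {W : X'.Opens} (hW : IsAffineOpen W) (hle : W ≤ φ ⁻¹ᵁ V)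
    [Algebra Γ(X, V) Γ(X', W)] (halg : ∀ r, algebraMap Γ(X, V) Γ(X', W) r = φ.appLE V W hle r) :
    ∃ e : Γ(X', W) ⊗[Γ(X, V)] Γ(M, V) ≃ₗ[Γ(X', W)] Γ((Scheme.Modules.pullback φ).obj M, W),
      ∀ a x, e (a ⊗ₜ x) = a • QCoh.pullSec φ M hle x := by
  letI : Module Γ(X, V) Γ((Scheme.Modules.pullback φ).obj M, W) :=
    Module.compHom _ (algebraMap Γ(X, V) Γ(X', W))
  haveI : IsScalarTower Γ(X, V) Γ(X', W) Γ((Scheme.Modules.pullback φ).obj M, W) :=
    IsScalarTower.of_algebraMap_smul fun _ _ => rfl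
  let l : Γ(M, V) →ₗ[Γ(X, V)] Γ((Scheme.Modules.pullback φ).obj M, W) :=
    { toFun := QCoh.pullSec φ M hle
      map_add' := QCoh.pullSec_add φ M hle
      map_smul' := fun r x => (QCoh.pullSec_smul φ M hle r x).trans (by
        rw [← halg]
        rfl) }
  exact ⟨_, fun a x => (QCoh.isBaseChange_pullback hV φ hW hM hle halg l fun _ => rfl).equiv_tmul a x⟩

variable {I : Type u} [SmallCategory I] {D : I ⥤ Scheme.{u}} {c : Cone D} {i : I}

/-- The pushforward to the base stage of the pullback to a stage. -/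
noncomputable abbrev N (G : (D.obj i).Modules) (j : Over i) : (D.obj i).Modules :=
  (Scheme.Modules.pushforward (D.map j.hom)).obj ((Scheme.Modules.pullback (D.map j.hom)).obj G)

variable (c) in
/-- The pushforward to the base stage of the pullback to the limit. -/
noncomputable abbrev Ninf (G : (D.obj i).Modules) : (D.obj i).Modules :=
  (Scheme.Modules.pushforward (c.π.app i)).obj ((Scheme.Modules.pullback (c.π.app i)).obj G)

theorem w_map {j k : Over i} (f : k ⟶ j) : D.map f.left ≫ D.map j.hom = D.map k.hom := by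
  rw [← D.map_comp, Over.w]

/-- Transition of sections between stages. -/
noncomputable def push (G : (D.obj i).Modules) {j k : Over i} (f : k ⟶ j) (V : (D.obj i).Opens) :
    Γ(N G j, V) →ₗ[Γ(D.obj i, V)] Γ(N G k, V) where
  toFun := tau (w_map f) G (LM.le_map V f)
  map_add' := tau_add (w_map f) G _
  map_smul' r x := by
    refine (tau_smul (w_map f) G _ ((D.map j.hom).app V r) x).trans ?_
    refine congrArg (fun t : Γ(D.obj k.left, D.map k.hom ⁻¹ᵁ V) => t • _) ?_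
    have := MorLib.IdealFG.appLE_appLE_apply (D.map f.left) (D.map j.hom) (D.map k.hom) (w_map f) (U := V)
      (V := D.map j.hom ⁻¹ᵁ V) le_rfl (LM.le_map V f) le_rfl r
    rw [Scheme.Hom.appLE_eq_app, Scheme.Hom.appLE_eq_app] at this
    exact this

variable (c) in
/-- Transition of sections to the limit. -/
noncomputable def pushLim (G : (D.obj i).Modules) (j : Over i) (V : (D.obj i).Opens) :
    Γ(N G j, V) →ₗ[Γ(D.obj i, V)] Γ(Ninf c G, V) where
  toFun := tau (c.w j.hom) G (LM.le_π c V j)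
  map_add' := tau_add (c.w j.hom) G _
  map_smul' r x := by
    refine (tau_smul (c.w j.hom) G _ ((D.map j.hom).app V r) x).trans ?_
    refine congrArg (fun t : Γ(c.pt, c.π.app i ⁻¹ᵁ V) => t • _) ?_
    have := MorLib.IdealFG.appLE_appLE_apply (c.π.app j.left) (D.map j.hom) (c.π.app i) (c.w j.hom) (U := V)
      (V := D.map j.hom ⁻¹ᵁ V) le_rfl (LM.le_π c V j) le_rfl r
    rw [Scheme.Hom.appLE_eq_app, Scheme.Hom.appLE_eq_app] at this
    exact this

theorem push_res (G : (D.obj i).Modules) {j k : Over i} (f : k ⟶ j) {V W : (D.obj i).Opens} (h : W ≤ V)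
    (x : Γ(N G j, V)) :
    (N G k).presheaf.map (homOfLE h).op (push G f V x) = push G f W ((N G j).presheaf.map (homOfLE h).op x) :=
  tau_res (w_map f) G ((D.map j.hom).preimage_mono h) ((D.map k.hom).preimage_mono h) _ _ x

theorem pushLim_res (G : (D.obj i).Modules) (j : Over i) {V W : (D.obj i).Opens} (h : W ≤ V)
    (x : Γ(N G j, V)) :
    (Ninf c G).presheaf.map (homOfLE h).op (pushLim c G j V x) =
      pushLim c G j W ((N G j).presheaf.map (homOfLE h).op x) :=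
  tau_res (c.w j.hom) G ((D.map j.hom).preimage_mono h) ((c.π.app i).preimage_mono h) _ _ x

variable [IsCofiltered I] [∀ (a b : I) (f : a ⟶ b), IsAffineHom (D.map f)]
  {G : (D.obj i).Modules} (hG : Coh.IsQCoh G) {V : (D.obj i).Opens} (hV : IsAffineOpen V)

omit [IsCofiltered I] in
include hG hV in
theorem push_push {j k l : Over i} (f : k ⟶ j) (f' : l ⟶ k) (x : Γ(N G j, V)) :
    push G f' V (push G f V x) = push G (f' ≫ f) V x :=
  tau_tau (w_map f) G (by rw [Over.comp_left, D.map_comp]) (w_map f') (w_map (f' ≫ f)) hG hV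
    (hV.preimage _) le_rfl _ _ _ x

omit [IsCofiltered I] in
include hG hV in
theorem pushLim_push {j k : Over i} (f : k ⟶ j) (x : Γ(N G j, V)) :
    pushLim c G k V (push G f V x) = pushLim c G j V x :=
  tau_tau (X''' := c.pt) (ω := c.π.app k.left) (ρ := c.π.app j.left) (σ := c.π.app i) (w_map f) G (c.w f.left)
    (c.w k.hom) (c.w j.hom) hG hV (W := D.map j.hom ⁻¹ᵁ V) (hV.preimage (D.map j.hom)) le_rfl
    (W' := D.map k.hom ⁻¹ᵁ V) (W'' := c.π.app i ⁻¹ᵁ V) (LM.le_map V f) (LM.le_π c V k) (LM.le_π c V j) x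

include hG hV in
theorem exists_stage_push_eq_zero (hc : IsLimit c) {j : Over i} (x : Γ(N G j, V)) (h : pushLim c G j V x = 0) :
    ∃ (k : Over i) (f : k ⟶ j), push G f V x = 0 := by
  classical
  have h0 : QCoh.pullSec (c.π.app j.left) ((Scheme.Modules.pullback (D.map j.hom)).obj G) le_rfl x = 0 := by
    have hle : c.π.app j.left ⁻¹ᵁ (D.map j.hom ⁻¹ᵁ V) ≤ c.π.app i ⁻¹ᵁ V := by
      rw [← Scheme.Hom.comp_preimage, c.w]
    have h1 : QCoh.pullSec (c.π.app j.left) ((Scheme.Modules.pullback (D.map j.hom)).obj G) (LM.le_π c V j) x = 0 := by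
      have h2 := congrArg ((inv (tw (c.w j.hom) G)).app (c.π.app i ⁻¹ᵁ V)) h
      rw [map_zero] at h2
      refine Eq.trans ?_ h2
      exact (congr(($(IsIso.hom_inv_id (tw (c.w j.hom) G))).app (c.π.app i ⁻¹ᵁ V)
        (QCoh.pullSec (c.π.app j.left) _ (LM.le_π c V j) x))).symm
    rw [← QCoh.map_id' (M := (Scheme.Modules.pullback (D.map j.hom)).obj G) (homOfLE le_rfl) x,
      ← ExistEasy.pullSec_res (c.π.app j.left) _ le_rfl hle (LM.le_π c V j) le_rfl x, h1, map_zero]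
  obtain ⟨k₀, hk₀⟩ := LM.exists_stage_pullSec_eq_zero hc (QCoh.isQCoh_pullback (D.map j.hom) hG)
    (hV.preimage (D.map j.hom)) {x} (by simpa using h0)
  refine ⟨Over.mk (k₀.hom ≫ j.hom), Over.homMk k₀.hom rfl, ?_⟩
  have h3 := hk₀ k₀ (𝟙 _) x (Finset.mem_singleton_self _)
  show (tw _ G).app _ (QCoh.pullSec (D.map k₀.hom) _ _ x) = 0
  have hle : D.map (k₀.hom ≫ j.hom) ⁻¹ᵁ V ≤ D.map k₀.hom ⁻¹ᵁ (D.map j.hom ⁻¹ᵁ V) := by
    rw [← Scheme.Hom.comp_preimage, ← D.map_comp]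
  have h4 := congrArg ((((Scheme.Modules.pullback (D.map k₀.hom)).obj
    ((Scheme.Modules.pullback (D.map j.hom)).obj G))).presheaf.map (homOfLE hle).op) h3
  rw [map_zero, ExistEasy.pullSec_res (D.map k₀.hom) _ le_rfl hle le_rfl hle,
    QCoh.map_id'] at h4
  exact (congrArg _ h4).trans (map_zero _)

include hG hV in
theorem exists_stage_push_eq (hc : IsLimit c) {j : Over i} (T : Finset (Γ(N G j, V) × Γ(N G j, V)))
    (h : ∀ p ∈ T, pushLim c G j V p.1 = pushLim c G j V p.2) :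
    ∃ (k : Over i) (f : k ⟶ j), ∀ p ∈ T, push G f V p.1 = push G f V p.2 := by
  classical
  induction T using Finset.induction_on with
  | empty => exact ⟨j, 𝟙 j, by simp⟩
  | insert p T _ ih =>
    obtain ⟨k, f, hk⟩ := ih fun q hq => h q (Finset.mem_insert_of_mem hq)
    obtain ⟨l, f', hl⟩ := exists_stage_push_eq_zero hG hV hc (push G f V p.1 - push G f V p.2) (by
      rw [map_sub, pushLim_push hG hV, pushLim_push hG hV, h p (Finset.mem_insert_self _ _), sub_self])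
    refine ⟨l, f' ≫ f, fun q hq => ?_⟩
    rw [← push_push hG hV, ← push_push hG hV]
    rcases Finset.mem_insert.1 hq with rfl | hq
    · rwa [map_sub, sub_eq_zero] at hl
    · rw [hk q hq]

include hG hV in
set_option maxHeartbeats 800000 in
/-- Linear maps out of a finitely presented module into sections on the limit come from a stage. -/
theorem exists_stage_linearMap (hc : IsLimit c) {M : Type u} [AddCommGroup M] [Module Γ(D.obj i, V) M]
    [Module.FinitePresentation Γ(D.obj i, V) M] (ξ : M →ₗ[Γ(D.obj i, V)] Γ(Ninf c G, V)) :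
    ∃ (j : Over i) (θ : M →ₗ[Γ(D.obj i, V)] Γ(N G j, V)), ∀ m, pushLim c G j V (θ m) = ξ m := by
  haveI : IsAffineHom (c.π.app i) := isAffineHom_π_app D c hc i
  haveI : Nonempty (Over i) := ⟨Over.mk (𝟙 i)⟩
  obtain ⟨eL, heL⟩ := exists_bc (X' := c.pt) (c.π.app i) hG hV (W := c.π.app i ⁻¹ᵁ V) (hV.preimage (c.π.app i)) le_rfl
    (fun r => by rw [Scheme.Hom.appLE_eq_app]; rfl)
  let ξ₀ : M → Γ((Scheme.Modules.pullback (c.π.app i)).obj G, c.π.app i ⁻¹ᵁ V) := fun m => ξ m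
  let ξ' : M →ₗ[Γ(D.obj i, V)] LM.SecLim c V ⊗[Γ(D.obj i, V)] Γ(G, V) :=
    { toFun := fun m => eL.symm (ξ₀ m)
      map_add' := fun a b => (congrArg eL.symm (ξ.map_add a b)).trans (eL.symm.map_add (ξ₀ a) (ξ₀ b))
      map_smul' := fun r m => by
        refine eL.injective ?_
        rw [eL.apply_symm_apply, RingHom.id_apply]
        conv_rhs => rw [← algebraMap_smul Γ(c.pt, c.π.app i ⁻¹ᵁ V) r, eL.map_smul, eL.apply_symm_apply]
        exact ξ.map_smul r m }
  obtain ⟨j, θ', hθ'⟩ := Algebraic.exists_stage_hom (LM.isColim hc hV) ξ'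
  obtain ⟨e, he⟩ := exists_bc (D.map j.hom) hG hV (hV.preimage (D.map j.hom)) le_rfl
    (fun r => by rw [Scheme.Hom.appLE_eq_app]; rfl)
  have key : ∀ z, tau (c.w j.hom) G (LM.le_π c V j) (e z) = eL ((LM.g c V j).toLinearMap.rTensor _ z) := by
    intro z
    induction z using TensorProduct.induction_on with
    | zero => rw [map_zero, map_zero, tau_zero]; exact eL.map_zero.symm
    | add a b ha hb =>
      rw [map_add, map_add, tau_add, ha, hb]
      exact (eL.map_add _ _).symm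
    | tmul a x =>
      rw [LinearMap.rTensor_tmul, he, tau_smul, tau_pullSec (c.w j.hom) G le_rfl (LM.le_π c V j) le_rfl]
      exact (heL _ x).symm
  refine ⟨j, { toFun := fun m => e (θ' m)
               map_add' := fun a b => (congrArg e (θ'.map_add a b)).trans (e.map_add _ _)
               map_smul' := fun r m => by
                 rw [map_smul, RingHom.id_apply, ← algebraMap_smul Γ(D.obj j.left, D.map j.hom ⁻¹ᵁ V) r]
                 exact e.map_smul _ _ }, fun m => ?_⟩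
  exact (key (θ' m)).trans ((congrArg eL (hθ' m)).trans (eL.apply_symm_apply _))

theorem exists_affine_finset {X : Scheme.{u}} {O : X.Opens} (hO : IsCompact (O : Set X)) :
    ∃ S : Finset X.affineOpens, (∀ W ∈ S, W.1 ≤ O) ∧ ∀ x ∈ O, ∃ W ∈ S, x ∈ W.1 := by
  classical
  obtain ⟨S, hS⟩ := hO.elim_finite_subcover
    (fun W : {W : X.affineOpens // W.1 ≤ O} => (W.1.1 : Set X)) (fun W => W.1.1.2) fun x hx => by
      obtain ⟨_, ⟨U, hU, rfl⟩, hx', hle⟩ := X.isBasis_affineOpens.exists_subset_of_mem_open hx O.2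
      exact Set.mem_iUnion.2 ⟨⟨⟨U, hU⟩, hle⟩, hx'⟩
  refine ⟨S.image (·.1), fun W hW => ?_, fun x hx => ?_⟩
  · obtain ⟨W', -, rfl⟩ := Finset.mem_image.1 hW
    exact W'.2
  · obtain ⟨W, hW, hxW⟩ := Set.mem_iUnion₂.1 (hS hx)
    exact ⟨W.1, Finset.mem_image_of_mem _ hW, hxW⟩

variable {F : (D.obj i).Modules}

variable (c) in
/-- The linear map on sections given by a morphism on the limit. -/
noncomputable def secHom (h : (Scheme.Modules.pullback (c.π.app i)).obj F ⟶ (Scheme.Modules.pullback (c.π.app i)).obj G)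
    (V : (D.obj i).Opens) : Γ(F, V) →ₗ[Γ(D.obj i, V)] Γ(Ninf c G, V) where
  toFun m := h.app _ (QCoh.pullSec (c.π.app i) F le_rfl m)
  map_add' a b := by rw [QCoh.pullSec_add, map_add]
  map_smul' r m := by
    rw [QCoh.pullSec_smul, Scheme.Modules.Hom.app_smul, Scheme.Hom.appLE_eq_app]
    rfl

omit [IsCofiltered I] [∀ (a b : I) (f : a ⟶ b), IsAffineHom (D.map f)] in
theorem secHom_res (h : (Scheme.Modules.pullback (c.π.app i)).obj F ⟶ (Scheme.Modules.pullback (c.π.app i)).obj G)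
    {V W : (D.obj i).Opens} (hle : W ≤ V) (m : Γ(F, V)) :
    (Ninf c G).presheaf.map (homOfLE hle).op (secHom c h V m) =
      secHom c h W (F.presheaf.map (homOfLE hle).op m) := by
  refine ((QCoh.map_app_comm h (homOfLE ((c.π.app i).preimage_mono hle)) _).symm).trans ?_
  exact congrArg (h.app _) (ExistEasy.pullSec_res (c.π.app i) F hle ((c.π.app i).preimage_mono hle) le_rfl le_rfl m)

include hG in
/-- Two stage maps with the same limit agree at a further stage on a piece of an overlap. -/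
theorem exists_stage_agree (hc : IsLimit c) (hF : Coh.IsQCoh F) (hFp : CohB1.IsFP F)
    (h : (Scheme.Modules.pullback (c.π.app i)).obj F ⟶ (Scheme.Modules.pullback (c.π.app i)).obj G)
    {l₀ : Over i} {A B W : (D.obj i).Opens} (hA : IsAffineOpen A) (hB : IsAffineOpen B) (hW : IsAffineOpen W)
    (ha : W ≤ A) (hb : W ≤ B) (θa : Γ(F, A) →ₗ[Γ(D.obj i, A)] Γ(N G l₀, A))
    (θb : Γ(F, B) →ₗ[Γ(D.obj i, B)] Γ(N G l₀, B)) (hθa : ∀ m, pushLim c G l₀ A (θa m) = secHom c h A m)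
    (hθb : ∀ m, pushLim c G l₀ B (θb m) = secHom c h B m) :
    ∃ (k : Over i) (f : k ⟶ l₀), ∀ k' (g : k' ⟶ k),
      ∃ l : Γ(F, W) →ₗ[Γ(D.obj i, W)] Γ(N G k', W),
        GlueHom.Ext ha ((push G (g ≫ f) _).comp θa) l ∧ GlueHom.Ext hb ((push G (g ≫ f) _).comp θb) l := by
  classical
  obtain ⟨la, hla⟩ := GlueHom.exists_ext hF hA hW ha θa
  obtain ⟨lb, hlb⟩ := GlueHom.exists_ext hF hB hW hb θb
  have hlim : ∀ {U : (D.obj i).Opens} (hUa : IsAffineOpen U) (hU : W ≤ U)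
      (θ : Γ(F, U) →ₗ[Γ(D.obj i, U)] Γ(N G l₀, U)), (∀ m, pushLim c G l₀ U (θ m) = secHom c h U m) →
      ∀ (l : Γ(F, W) →ₗ[Γ(D.obj i, W)] Γ(N G l₀, W)),
      GlueHom.Ext hU θ l → ∀ m, pushLim c G l₀ W (l m) = secHom c h W m := by
    intro U hUa hU θ hθ l hl m
    have he : GlueHom.Ext hU (secHom c h U) ((pushLim c G l₀ W).comp l) := fun s => by
      rw [LinearMap.comp_apply, hl, ← pushLim_res, hθ]
    have he' : GlueHom.Ext hU (secHom c h U) (secHom c h W) := fun s => (secHom_res h hU s).symm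
    have := GlueHom.ext_nat hF hUa hW hU le_rfl he he' m
    rwa [ArtFunLib.FamilyHom.map_refl, ArtFunLib.FamilyHom.map_refl] at this
  haveI := QCoh.finitePresentation_of_isFP hFp hW
  obtain ⟨gen, hgen⟩ := Module.Finite.fg_top (R := Γ(D.obj i, W)) (M := Γ(F, W))
  obtain ⟨k, f, hk⟩ := exists_stage_push_eq hG hW hc (gen.image fun m => (la m, lb m)) (by
    intro p hp
    obtain ⟨m, -, rfl⟩ := Finset.mem_image.1 hp
    exact (hlim hA ha θa hθa la hla m).trans (hlim hB hb θb hθb lb hlb m).symm)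
  refine ⟨k, f, fun k' g => ⟨(push G (g ≫ f) W).comp la, fun s => ?_, fun s => ?_⟩⟩
  · rw [LinearMap.comp_apply, hla, LinearMap.comp_apply, push_res]
  · have heq : (push G (g ≫ f) W).comp la = (push G (g ≫ f) W).comp lb := by
      refine LinearMap.ext_on (s := (gen : Set Γ(F, W))) hgen fun m hm => ?_
      rw [LinearMap.comp_apply, LinearMap.comp_apply, ← push_push hG hW, ← push_push hG hW]
      exact congrArg (push G g W) (hk (la m, lb m) (Finset.mem_image_of_mem (fun m => (la m, lb m)) hm))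
    rw [heq, LinearMap.comp_apply, hlb, LinearMap.comp_apply, push_res]

omit [∀ (a b : I) (f : a ⟶ b), IsAffineHom (D.map f)] in
theorem exists_common_refinement {l₀ : Over i} {β : Type*} [Finite β] (k : β → Over i) (f : ∀ b, k b ⟶ l₀) :
    ∃ (k₁ : Over i) (f₁ : k₁ ⟶ l₀), ∀ b, ∃ g : k₁ ⟶ k b, g ≫ f b = f₁ := by
  classical
  cases nonempty_fintype β
  suffices ∀ s : Finset β, ∃ (k₁ : Over i) (f₁ : k₁ ⟶ l₀), ∀ b ∈ s, ∃ g : k₁ ⟶ k b, g ≫ f b = f₁ by
    obtain ⟨k₁, f₁, h⟩ := this Finset.univ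
    exact ⟨k₁, f₁, fun b => h b (Finset.mem_univ b)⟩
  intro s
  induction s using Finset.induction_on with
  | empty => exact ⟨l₀, 𝟙 l₀, by simp⟩
  | insert b s _ ih =>
    obtain ⟨k₁, f₁, h⟩ := ih
    obtain ⟨m, r, t, hrt⟩ := IsCofiltered.cospan f₁.left (f b).left
    let m' : Over i := Over.mk (r ≫ k₁.hom)
    let r' : m' ⟶ k₁ := Over.homMk r rfl
    refine ⟨m', r' ≫ f₁, fun b' hb' => ?_⟩
    rcases Finset.mem_insert.1 hb' with rfl | hb'
    · refine ⟨Over.homMk t (show t ≫ (k b').hom = r ≫ k₁.hom by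
        rw [← Over.w (f b'), ← Over.w f₁, ← Category.assoc, ← Category.assoc, hrt]), ?_⟩
      ext
      exact hrt.symm
    · obtain ⟨g, hg⟩ := h b' hb'
      exact ⟨r' ≫ g, by rw [Category.assoc, hg]⟩

include hG in
set_option maxHeartbeats 1000000 in
/-- A compatible family of stage maps on a cover, inducing a given morphism on the limit. -/
theorem exists_stage_family (hc : IsLimit c) [CompactSpace (D.obj i)] [QuasiSeparatedSpace (D.obj i)]
    (hF : Coh.IsQCoh F) (hFp : CohB1.IsFP F)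
    (h : (Scheme.Modules.pullback (c.π.app i)).obj F ⟶ (Scheme.Modules.pullback (c.π.app i)).obj G) :
    ∃ (k : Over i) (φ' : F ⟶ N G k) (S : Finset (D.obj i).affineOpens), (∀ x, ∃ U ∈ S, x ∈ U.1) ∧
      ∀ U ∈ S, ∀ m, pushLim c G k U.1 (φ'.app U.1 m) = secHom c h U.1 m := by
  classical
  obtain ⟨S, -, hS⟩ := exists_affine_finset (X := D.obj i) (O := ⊤) isCompact_univ
  have lift : ∀ U : S, ∃ (j : Over i) (θ : Γ(F, U.1.1) →ₗ[Γ(D.obj i, U.1.1)] Γ(N G j, U.1.1)),
      ∀ m, pushLim c G j U.1.1 (θ m) = secHom c h U.1.1 m := by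
    intro U
    have hfp := QCoh.finitePresentation_of_isFP hFp U.1.2
    exact exists_stage_linearMap (M := Γ(F, U.1.1)) hG U.1.2 hc (secHom c h U.1.1)
  choose j₀ θ₀ hθ₀ using lift
  obtain ⟨l₀, hl₀⟩ := LM.exists_le_all (Finset.univ : Finset S) j₀
  let θ₁ : ∀ U : S, Γ(F, U.1.1) →ₗ[Γ(D.obj i, U.1.1)] Γ(N G l₀, U.1.1) := fun U =>
    (push G (hl₀ U (Finset.mem_univ U)).some U.1.1).comp (θ₀ U)
  have hθ₁ : ∀ (U : S) (m : Γ(F, U.1.1)), pushLim c G l₀ U.1.1 (θ₁ U m) = secHom c h U.1.1 m := by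
    intro U m
    show pushLim c G l₀ U.1.1 (push G (hl₀ U (Finset.mem_univ U)).some U.1.1 (θ₀ U m)) = _
    rw [pushLim_push hG U.1.2]
    exact hθ₀ U m
  have hov : ∀ p : S × S, ∃ T : Finset (D.obj i).affineOpens, (∀ W ∈ T, W.1 ≤ p.1.1.1 ⊓ p.2.1.1) ∧
      ∀ x ∈ p.1.1.1 ⊓ p.2.1.1, ∃ W ∈ T, x ∈ W.1 := fun p =>
    exists_affine_finset (IsCompact.inter_of_isOpen (IsAffineOpen.isCompact p.1.1.2)
      (IsAffineOpen.isCompact p.2.1.2) p.1.1.1.2 p.2.1.1.2)
  choose T hT hTcov using hov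
  have agree : ∀ b : Σ p : S × S, T p, ∃ (k : Over i) (f : k ⟶ l₀), ∀ k' (g : k' ⟶ k),
      ∃ l : Γ(F, b.2.1.1) →ₗ[Γ(D.obj i, b.2.1.1)] Γ(N G k', b.2.1.1),
        GlueHom.Ext ((hT b.1 b.2.1 b.2.2).trans inf_le_left)
          ((push G (g ≫ f) b.1.1.1.1).comp (θ₁ b.1.1)) l ∧
        GlueHom.Ext ((hT b.1 b.2.1 b.2.2).trans inf_le_right)
          ((push G (g ≫ f) b.1.2.1.1).comp (θ₁ b.1.2)) l := fun b =>
    exists_stage_agree hG hc hF hFp h (l₀ := l₀) (A := b.1.1.1.1) (B := b.1.2.1.1) (W := b.2.1.1)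
      b.1.1.1.2 b.1.2.1.2 b.2.1.2
      ((hT b.1 b.2.1 b.2.2).trans inf_le_left) ((hT b.1 b.2.1 b.2.2).trans inf_le_right)
      (θ₁ b.1.1) (θ₁ b.1.2) (hθ₁ b.1.1) (hθ₁ b.1.2)
  choose kB fB hB using agree
  obtain ⟨k, f₁, hk⟩ := exists_common_refinement kB fB
  obtain ⟨φ', hφ'⟩ := GlueHom.exists_hom_of_cover (N := N G k) hF (fun U : S => U.1)
    (fun x => by obtain ⟨U, hU, hx⟩ := hS x trivial; exact ⟨⟨U, hU⟩, hx⟩)
    (fun U => (push G f₁ U.1.1).comp (θ₁ U)) (fun a b x hx => by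
      obtain ⟨W, hW, hxW⟩ := hTcov (a, b) x hx
      obtain ⟨g, hg⟩ := hk ⟨(a, b), W, hW⟩
      obtain ⟨l, hla, hlb⟩ := hB ⟨(a, b), W, hW⟩ k g
      rw [hg] at hla hlb
      exact ⟨W.1, W.2, _, _, hxW, l, hla, hlb⟩)
  refine ⟨k, φ', S, fun x => hS x trivial, fun U hU m => ?_⟩
  rw [hφ' ⟨U, hU⟩ m]
  exact (pushLim_push hG U.2 f₁ _).trans (hθ₁ ⟨U, hU⟩ m)

include hG in
set_option maxHeartbeats 800000 in
/-- A morphism between pullbacks to the limit, out of a module of finite presentation, comes from a stage. -/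
theorem exists_stage_hom (hc : IsLimit c) [CompactSpace (D.obj i)] [QuasiSeparatedSpace (D.obj i)]
    (hF : Coh.IsQCoh F) (hFp : CohB1.IsFP F)
    (h : (Scheme.Modules.pullback (c.π.app i)).obj F ⟶ (Scheme.Modules.pullback (c.π.app i)).obj G) :
    ∃ (j : I) (φ : j ⟶ i) (hj : (Scheme.Modules.pullback (D.map φ)).obj F ⟶ (Scheme.Modules.pullback (D.map φ)).obj G),
      (LM.limIso c φ).inv.app F ≫ (Scheme.Modules.pullback (c.π.app j)).map hj ≫
        (LM.limIso c φ).hom.app G = h := by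
  haveI := isAffineHom_π_app D c hc
  obtain ⟨k, φ', S, hS, hφ'⟩ := exists_stage_family hG hc hF hFp h
  let adj := Scheme.Modules.pullbackPushforwardAdjunction (D.map k.hom)
  let hj := (adj.homEquiv F _).symm φ'
  have hhj : ∀ (V : (D.obj i).Opens) (m : Γ(F, V)),
      hj.app (D.map k.hom ⁻¹ᵁ V) (QCoh.pullSec (D.map k.hom) F le_rfl m) = φ'.app V m := by
    intro V m
    have e : φ' = adj.unit.app F ≫ (Scheme.Modules.pushforward (D.map k.hom)).map hj := by
      exact ((adj.homEquiv F ((Scheme.Modules.pullback (D.map k.hom)).obj G)).apply_symm_apply φ').symm.trans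
        (adj.homEquiv_unit (X := F) (Y := (Scheme.Modules.pullback (D.map k.hom)).obj G) (f := hj))
    conv_rhs => rw [e]
    unfold QCoh.pullSec
    rw [QCoh.map_id']
    rfl
  refine ⟨k.left, k.hom, hj, sub_eq_zero.1 (QCoh.hom_eq_zero_of_cover (QCoh.isQCoh_pullback _ hF)
    (QCoh.isQCoh_pullback _ hG) _ (fun U : S => c.π.app i ⁻¹ᵁ U.1.1) (fun U => U.1.2.preimage (c.π.app i))
    (fun x => by obtain ⟨U, hU, hx⟩ := hS (c.π.app i x); exact ⟨⟨U, hU⟩, hx⟩) fun U y => ?_)⟩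
  have key : ∀ m : Γ(F, U.1.1), ((LM.limIso c k.hom).hom.app G).app (c.π.app i ⁻¹ᵁ U.1.1)
      (((Scheme.Modules.pullback (c.π.app k.left)).map hj).app _
        (((LM.limIso c k.hom).inv.app F).app _ (QCoh.pullSec (c.π.app i) F le_rfl m))) =
      h.app _ (QCoh.pullSec (c.π.app i) F le_rfl m) := by
    intro m
    have e1 := tw_pullSec (c.w k.hom) F (W := D.map k.hom ⁻¹ᵁ U.1.1) le_rfl (LM.le_π c U.1.1 k) le_rfl m
    rw [← e1]
    have e2 : ∀ z, ((LM.limIso c k.hom).inv.app F).app (c.π.app i ⁻¹ᵁ U.1.1)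
        ((tw (c.w k.hom) F).app (c.π.app i ⁻¹ᵁ U.1.1) z) = z := fun z =>
      congr(($((LM.limIso c k.hom).hom_inv_id_app F)).app (c.π.app i ⁻¹ᵁ U.1.1) z)
    rw [e2, ExistEasy.pullSec_natural, hhj, e1]
    exact hφ' U.1 U.2 m
  have hy : y ∈ Submodule.span Γ(c.pt, c.π.app i ⁻¹ᵁ U.1.1)
      (QCoh.pullSec (c.π.app i) F (le_refl (c.π.app i ⁻¹ᵁ U.1.1)) '' Set.univ) :=
    (LM.span_pullSec (X' := c.pt) (c.π.app i) hF U.1.2 (U.1.2.preimage (c.π.app i)) le_rfl Submodule.span_univ).symm ▸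
      Submodule.mem_top
  have hker : Submodule.span Γ(c.pt, c.π.app i ⁻¹ᵁ U.1.1)
      (QCoh.pullSec (c.π.app i) F (le_refl (c.π.app i ⁻¹ᵁ U.1.1)) '' Set.univ) ≤
      LinearMap.ker (QCoh.appLin ((LM.limIso c k.hom).inv.app F ≫
        (Scheme.Modules.pullback (c.π.app k.left)).map hj ≫ (LM.limIso c k.hom).hom.app G - h)
          (c.π.app i ⁻¹ᵁ U.1.1)) := by
    rw [Submodule.span_le]
    rintro _ ⟨m, -, rfl⟩
    rw [SetLike.mem_coe, LinearMap.mem_ker]
    show _ - h.app _ _ = 0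
    rw [sub_eq_zero]
    exact key m
  exact hker hy

end Groth.Agent.LimitsH94.LimHom
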