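import Groth.Agent.RelSpecX.Spec
import Groth.Agent.MorLib.LimExists

/-! Relative spectra of a filtered colimit of quasi-coherent algebras form a limit. -/

set_option autoImplicit false
set_option backward.isDefEq.respectTransparency false
set_option backward.isDefEq.respectTransparency.types false
set_option linter.style.haveILetI false
universe u

open CategoryTheory CategoryTheory.Limits AlgebraicGeometry TopologicalSpace Opposite

namespace Groth.Agent.LimitsH94.RelSpecLim

variable {S : Scheme.{u}} {A B C : RelSpec.QCAlg S}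

theorem specMap_id (A : RelSpec.QCAlg S) : RelSpec.QCAlg.specMap (𝟙 A) = 𝟙 A.spec := by
  refine RelSpecX.spec_hom_ext fun y => ?_
  obtain ⟨U, hU, hy, -⟩ := exists_isAffineOpen_mem_and_subset (x := y) (U := ⊤) trivial
  refine ⟨U, hU, hy, ?_⟩
  rw [RelSpec.QCAlg.ι_specMap, RelSpec.QCAlg.id_hom, NatTrans.id_app, Spec.map_id, Category.id_comp,
    Category.comp_id]

theorem specMap_comp (φ : A ⟶ B) (ψ : B ⟶ C) :
    RelSpec.QCAlg.specMap (φ ≫ ψ) = RelSpec.QCAlg.specMap ψ ≫ RelSpec.QCAlg.specMap φ := by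
  refine RelSpecX.spec_hom_ext fun y => ?_
  obtain ⟨U, hU, hy, -⟩ := exists_isAffineOpen_mem_and_subset (x := y) (U := ⊤) trivial
  refine ⟨U, hU, hy, ?_⟩
  rw [RelSpec.QCAlg.ι_specMap, ← Category.assoc, RelSpec.QCAlg.ι_specMap, Category.assoc,
    RelSpec.QCAlg.ι_specMap, RelSpec.QCAlg.comp_hom, NatTrans.comp_app, Spec.map_comp, Category.assoc]

theorem algHom_specMap (φ : A ⟶ B) :
    AffAlg.algHom A.π B.π (RelSpec.QCAlg.specMap φ) (RelSpec.QCAlg.specMap_π φ) ≫ B.gammaMap =
      A.gammaMap ≫ φ.hom := by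
  have key : ∀ (U : S.Opens), IsAffineOpen U →
      (AffAlg.algHom A.π B.π (RelSpec.QCAlg.specMap φ) (RelSpec.QCAlg.specMap_π φ)).app (op U) ≫
        B.gammaMap.app (op U) = A.gammaMap.app (op U) ≫ φ.hom.app (op U) := by
    intro U hU
    rw [RelSpecX.algHom_app, B.gammaMap_app U hU, A.gammaMap_app U hU, RelSpec.QCAlg.gammaAff,
      RelSpec.QCAlg.gammaAff, ← Category.assoc, Scheme.Hom.appLE_comp_appLE]
    have e' : ⊤ ≤ (Spec.map (φ.hom.app (op U)) ≫ A.ι U hU) ⁻¹ᵁ (A.π ⁻¹ᵁ U) := fun x _ =>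
      A.top_le_preimage U hU (show Spec.map (φ.hom.app (op U)) x ∈ ⊤ from trivial)
    have h : (B.ι U hU ≫ RelSpec.QCAlg.specMap φ).appLE (A.π ⁻¹ᵁ U) ⊤
        (by rw [RelSpec.QCAlg.ι_specMap]; exact e') =
        (Spec.map (φ.hom.app (op U)) ≫ A.ι U hU).appLE (A.π ⁻¹ᵁ U) ⊤ e' := by
      congr 1
      exact RelSpec.QCAlg.ι_specMap U hU φ
    rw [h, ← Scheme.Hom.appLE_comp_appLE (Spec.map (φ.hom.app (op U))) (A.ι U hU) (A.π ⁻¹ᵁ U) ⊤ ⊤
      (A.top_le_preimage U hU) le_top, Category.assoc, Category.assoc]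
    congr 1
    rw [show (Spec.map (φ.hom.app (op U))).appLE ⊤ ⊤ le_top = (Spec.map (φ.hom.app (op U))).appTop by
      simp [Scheme.Hom.appLE, Scheme.Hom.appTop], Scheme.ΓSpecIso_naturality]
  rw [← cancel_mono (inv B.gammaMap)]
  refine RelSpecX.hom_ext_affine B.π fun U hU => ?_
  simp only [Category.assoc, IsIso.hom_inv_id, Category.comp_id]
  show _ = A.gammaMap.app (op U) ≫ φ.hom.app (op U) ≫ (inv B.gammaMap).app (op U)
  rw [← reassoc_of% (key U hU)]
  exact ((congrArg ((AffAlg.algHom A.π B.π (RelSpec.QCAlg.specMap φ) (RelSpec.QCAlg.specMap_π φ)).app (op U) ≫ ·)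
    (NatTrans.congr_app (IsIso.hom_inv_id B.gammaMap) (op U))).trans (Category.comp_id _)).symm

theorem specMap_injective {φ ψ : A ⟶ B} (h : RelSpec.QCAlg.specMap φ = RelSpec.QCAlg.specMap ψ) : φ = ψ := by
  refine RelSpec.QCAlg.hom_ext ((cancel_epi A.gammaMap).1 ?_)
  rw [← algHom_specMap φ, ← algHom_specMap ψ]
  congr 1
  congr 1

theorem exists_specMap (h : B.spec ⟶ A.spec) (w : h ≫ A.π = B.π) :
    ∃ φ : A ⟶ B, RelSpec.QCAlg.specMap φ = h := by
  let ω := AffAlg.algHom A.π B.π h w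
  have hstr : A.str ≫ inv A.gammaMap ≫ ω ≫ B.gammaMap = B.str := by
    rw [← A.π_c_gammaMap, Category.assoc, IsIso.hom_inv_id_assoc, ← Category.assoc,
      AffAlg.algHom_comm, B.π_c_gammaMap]
  refine ⟨⟨inv A.gammaMap ≫ ω ≫ B.gammaMap, hstr⟩, ?_⟩
  haveI : IsAffineHom A.π := inferInstance
  refine RelSpecX.algHom_injective A.π B.π (RelSpec.QCAlg.specMap_π _) w fun U => ?_
  have h2 : AffAlg.algHom A.π B.π _ (RelSpec.QCAlg.specMap_π
      (⟨inv A.gammaMap ≫ ω ≫ B.gammaMap, hstr⟩ : A ⟶ B)) ≫ B.gammaMap = ω ≫ B.gammaMap := by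
    rw [algHom_specMap, IsIso.hom_inv_id_assoc]
  rw [(cancel_mono B.gammaMap).1 h2]

theorem exists_iso_directImage {X : Scheme.{u}} (p : X ⟶ S) [IsAffineHom p] :
    ∃ e : X ⟶ (RelSpec.QCAlg.directImage p).spec, IsIso e ∧ e ≫ (RelSpec.QCAlg.directImage p).π = p := by
  let B := RelSpec.QCAlg.directImage p
  let Ω : AffAlg.algHoms B.π p := ⟨B.gammaMap, B.π_c_gammaMap⟩
  refine ⟨RelSpecX.ofAlgHom B.π p Ω, ?_, RelSpecX.ofAlgHom_comp _ _ _⟩
  rw [RelSpecX.isIso_iff B.π p _ (RelSpecX.ofAlgHom_comp _ _ _), RelSpecX.algHom_ofAlgHom]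
  exact (inferInstance : IsIso B.gammaMap)

variable {J : Type u} [SmallCategory J] [IsFiltered J] (A : J ⥤ RelSpec.QCAlg S)

/-- The inverse system of relative spectra. -/
noncomputable def sys : Jᵒᵖ ⥤ Scheme.{u} where
  obj j := (A.obj j.unop).spec
  map f := RelSpec.QCAlg.specMap (A.map f.unop)
  map_id j := by rw [unop_id, A.map_id, specMap_id]
  map_comp f g := by rw [unop_comp, A.map_comp, specMap_comp]

instance (i j : Jᵒᵖ) (f : i ⟶ j) : IsAffineHom ((sys A).map f) :=
  MorphismProperty.of_postcomp @IsAffineHom (W' := @IsSeparated) _ (A.obj j.unop).π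
    (inferInstance : IsSeparated (A.obj j.unop).π)
    (by
      show IsAffineHom (RelSpec.QCAlg.specMap (A.map f.unop) ≫ (A.obj j.unop).π)
      rw [RelSpec.QCAlg.specMap_π]; infer_instance)

theorem existsUnique_lift (c : Cocone A) (hc : IsColimit c)
    (T : Scheme.{u}) (v : ∀ j : J, T ⟶ (A.obj j).spec)
    (hv : ∀ (j j' : J) (φ : j ⟶ j'), v j' ≫ RelSpec.QCAlg.specMap (A.map φ) = v j) :
    ∃! w : T ⟶ c.pt.spec, ∀ j : J, w ≫ RelSpec.QCAlg.specMap (c.ι.app j) = v j := by
  haveI : ∀ {i j : Jᵒᵖ} (f : i ⟶ j), IsAffineHom ((sys A).map f) := fun f => inferInstance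
  haveI := MorLib.LimExists.hasLimit (D := sys A)
  let cL := limit.cone (sys A)
  let hL : IsLimit cL := limit.isLimit _
  obtain ⟨j₀⟩ := IsFiltered.nonempty (C := J)
  haveI : IsAffineHom (cL.π.app (op j₀)) := isAffineHom_π_app (sys A) cL hL _
  let p : cL.pt ⟶ S := cL.π.app (op j₀) ≫ (A.obj j₀).π
  haveI : IsAffineHom (A.obj j₀).π := inferInstance
  haveI : IsAffineHom p := inferInstance
  have hp : ∀ j, cL.π.app (op j) ≫ (A.obj j).π = p := by
    have hstep : ∀ {j k : J} (f : j ⟶ k), cL.π.app (op j) ≫ (A.obj j).π = cL.π.app (op k) ≫ (A.obj k).π := by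
      intro j k f
      rw [← cL.w f.op, Category.assoc]
      exact congrArg (cL.π.app (op k) ≫ ·) (RelSpec.QCAlg.specMap_π (A.map f))
    intro j
    exact (hstep (IsFiltered.leftToMax j j₀)).trans (hstep (IsFiltered.rightToMax j j₀)).symm
  obtain ⟨e, he, hep⟩ := exists_iso_directImage p
  haveI := he
  have hβ' : ∀ j, ∃ β : A.obj j ⟶ RelSpec.QCAlg.directImage p,
      RelSpec.QCAlg.specMap β = inv e ≫ cL.π.app (op j) := fun j =>
    exists_specMap _ ((Category.assoc _ _ _).trans ((congrArg (inv e ≫ ·) (hp j)).trans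
      ((IsIso.inv_comp_eq e).2 hep.symm)))
  choose β hβ using hβ'
  let cB : Cocone A :=
    { pt := RelSpec.QCAlg.directImage p
      ι :=
        { app := β
          naturality := fun j k f => (specMap_injective (by
            rw [specMap_comp, hβ, hβ, Category.assoc]
            exact congrArg (inv e ≫ ·) (cL.w f.op))).trans (Category.comp_id _).symm } }
  let d : c.pt ⟶ RelSpec.QCAlg.directImage p := hc.desc cB
  let g : cL.pt ⟶ c.pt.spec := e ≫ RelSpec.QCAlg.specMap d
  have hg : ∀ j, g ≫ RelSpec.QCAlg.specMap (c.ι.app j) = cL.π.app (op j) := by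
    intro j
    rw [Category.assoc, ← specMap_comp, hc.fac cB j, hβ, IsIso.hom_inv_id_assoc]
  let cv : Cone (sys A) :=
    { pt := T
      π :=
        { app := fun j => v j.unop
          naturality := fun j k f => by
            simp only [Functor.const_obj_map, Category.id_comp]
            exact (hv _ _ f.unop).symm } }
  let cr : Cone (sys A) :=
    { pt := c.pt.spec
      π :=
        { app := fun j => RelSpec.QCAlg.specMap (c.ι.app j.unop)
          naturality := fun j k f => by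
            simp only [Functor.const_obj_map, Category.id_comp]
            exact (congrArg RelSpec.QCAlg.specMap (c.w f.unop).symm).trans (specMap_comp _ _) } }
  have hr : hL.lift cr ≫ g = 𝟙 c.pt.spec := by
    have hπ : (hL.lift cr ≫ g) ≫ c.pt.π = c.pt.π := by
      rw [Category.assoc, show g ≫ c.pt.π = p from by
          rw [Category.assoc, RelSpec.QCAlg.specMap_π, hep],
        ← hp j₀, ← Category.assoc, hL.fac cr (op j₀)]
      exact RelSpec.QCAlg.specMap_π _
    obtain ⟨θ, hθ⟩ := exists_specMap _ hπ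
    have : θ = 𝟙 c.pt := hc.hom_ext fun j => by
      rw [Category.comp_id]
      refine specMap_injective ?_
      rw [specMap_comp, hθ, Category.assoc, hg]
      exact hL.fac cr (op j)
    rw [← hθ, this, specMap_id]
  refine ⟨hL.lift cv ≫ g, fun j => ?_, fun w' hw' => ?_⟩
  · rw [Category.assoc, hg]; exact hL.fac cv (op j)
  · have : w' ≫ hL.lift cr = hL.lift cv := hL.hom_ext fun j => by
      rw [Category.assoc, hL.fac cr j, hL.fac cv j]; exact hw' j.unop
    rw [← this, Category.assoc, hr, Category.comp_id]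

end Groth.Agent.LimitsH94.RelSpecLim
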