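import Groth.Agent.MorLib.RingUnivHomeoTower
import Mathlib.AlgebraicGeometry.AffineScheme

/-! Relative seminormalization and weak normalization as unions of elementary towers. -/

set_option autoImplicit false
universe u

namespace Groth.Agent.LimitsH94

open AlgebraicGeometry CategoryTheory MorLib.RUH

variable {A B : Type u} [CommRing A] [CommRing B] [Algebra A B]

theorem ker_le_nilradical_of_isDominant
    [IsDominant (Spec.map (CommRingCat.ofHom (algebraMap A B)))] :
    RingHom.ker (algebraMap A B) ≤ nilradical A :=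
  (PrimeSpectrum.denseRange_comap_iff_ker_le_nilRadical (algebraMap A B)).mp
    (Spec.map (CommRingCat.ofHom (algebraMap A B))).denseRange

theorem isUnivHomeo_sub (hk : RingHom.ker (algebraMap A B) ≤ nilradical A) (S : Subalgebra A B)
    (hi : (algebraMap A S).IsIntegral) (hr : Radicial (algebraMap A S)) :
    FlatMor.IsUnivHomeo (Spec.map (CommRingCat.ofHom (algebraMap A S))) := by
  refine (isUnivHomeo_SpecMap_iff _).mpr ⟨hi, hr, ?_⟩
  intro p
  have : Algebra.IsIntegral A S := ⟨hi⟩
  have hker : RingHom.ker (algebraMap A S) ≤ p.asIdeal := fun a ha => by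
    refine le_trans hk (nilradical_le_prime p.asIdeal) ?_
    exact congrArg Subtype.val ha
  obtain ⟨Q, -, hQ, hQc⟩ := Ideal.exists_ideal_over_prime_of_isIntegral p.asIdeal (⊥ : Ideal S)
    (by rw [← RingHom.ker_eq_comap_bot]; exact hker)
  exact ⟨⟨Q, hQ⟩, PrimeSpectrum.ext hQc⟩

variable (Step : Subalgebra A B → B → Prop) (hmono : ∀ S S' b, S ≤ S' → Step S b → Step S' b)
  (hfin : ∀ (S : Subalgebra A B) b, Step S b → ∃ E : Finset B, (E : Set B) ⊆ S ∧
      ∀ S' : Subalgebra A B, (E : Set B) ⊆ S' → Step S' b)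

variable {Step}

include hfin in
theorem mem_towerUnion_of_step (S : Subalgebra A B) (hS : S ≤ towerUnion Step hmono) (b : B)
    (h : Step S b) : b ∈ towerUnion Step hmono := by
  obtain ⟨E, hE, hE'⟩ := hfin S b h
  obtain ⟨l, hl, hlg⟩ := exists_good_finset hmono E fun e he => hS (hE he)
  exact ⟨l ++ [b], good_snoc hmono hlg (hE' _ hl), Algebra.subset_adjoin (by simp)⟩

include hmono in
theorem towerUnion_le (C : Subalgebra A B) (h : ∀ b, Step C b → b ∈ C) :
    towerUnion Step hmono ≤ C := by
  rintro x ⟨l, hl, hx⟩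
  exact adjoin_le_of_good C hmono h l hl hx

include hfin in
theorem le_towerUnion {R : Subalgebra A B}
    (h : ∀ T : Subalgebra A R, T ≠ ⊤ → ∃ b : R, b ∉ T ∧ Step (T.map R.val) (b : B)) :
    R ≤ towerUnion Step hmono := by
  let T : Subalgebra A R := (towerUnion Step hmono).comap R.val
  by_contra hR
  obtain ⟨b, hb, hs⟩ := h T fun hT => hR fun x hx => (hT ▸ Algebra.mem_top : (⟨x, hx⟩ : R) ∈ T)
  exact hb (mem_towerUnion_of_step hmono hfin _ (by
    rintro _ ⟨y, hy, rfl⟩
    exact hy) _ hs)

theorem isIntegral_towerP : (algebraMap A (towerUnion (A := A) (B := B) StepP stepP_mono)).IsIntegral := by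
  intro x
  have h := towerUnion_le stepP_mono (integralClosure A B) (fun b hb => by
    rcases hb with ⟨h2, -⟩ | ⟨p, hp, -, h2⟩
    · exact IsIntegral.of_pow (by norm_num) h2
    · exact IsIntegral.of_pow hp.pos h2) x.2
  exact (isIntegral_algHom_iff (towerUnion (A := A) (B := B) StepP stepP_mono).val
    Subtype.val_injective).mp h

theorem radicial_towerP : Radicial (algebraMap A (towerUnion (A := A) (B := B) StepP stepP_mono)) := by
  intro K _ f g hfg
  let U := towerUnion (A := A) (B := B) StepP stepP_mono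
  let E : Subalgebra A U := { RingHom.eqLocus f g with algebraMap_mem' := fun a => congr($hfg a) }
  have h := towerUnion_le stepP_mono (E.map U.val) (fun b hb => by
    have hbU : b ∈ U := mem_towerUnion_of_step stepP_mono stepP_fin _ (by
      rintro _ ⟨y, -, rfl⟩
      exact y.2) b hb
    have key : ∀ y : U, (y : B) ∈ E.map U.val → f y = g y := by
      rintro y ⟨z, hz, hzy⟩
      obtain rfl : z = y := Subtype.ext hzy
      exact hz
    refine ⟨⟨b, hbU⟩, ?_, rfl⟩
    show f ⟨b, hbU⟩ = g ⟨b, hbU⟩
    rcases hb with ⟨h2, h3⟩ | ⟨p, hp, h1, h2⟩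
    · exact eq_of_sq_cube (by rw [← map_pow, ← map_pow]; exact key _ h2)
        (by rw [← map_pow, ← map_pow]; exact key _ h3)
    · refine eq_of_prime_step hp ?_ (by rw [← map_pow, ← map_pow]; exact key _ h2)
      have := key ((p : U) * ⟨b, hbU⟩) (by simpa using h1)
      simpa using this)
  ext ⟨x, hx⟩
  obtain ⟨z, hz, hzx⟩ := h hx
  obtain rfl : z = ⟨x, hx⟩ := Subtype.ext hzx
  exact hz

theorem isIntegral_tower23 : (algebraMap A (towerUnion (A := A) (B := B) Step23 step23_mono)).IsIntegral := by
  intro x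
  have h := towerUnion_le step23_mono (integralClosure A B)
    (fun b hb => IsIntegral.of_pow (by norm_num) hb.1) x.2
  exact (isIntegral_algHom_iff (towerUnion (A := A) (B := B) Step23 step23_mono).val
    Subtype.val_injective).mp h

theorem radicial_tower23 : Radicial (algebraMap A (towerUnion (A := A) (B := B) Step23 step23_mono)) := by
  intro K _ f g hfg
  let U := towerUnion (A := A) (B := B) Step23 step23_mono
  let E : Subalgebra A U := { RingHom.eqLocus f g with algebraMap_mem' := fun a => congr($hfg a) }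
  have h := towerUnion_le step23_mono (E.map U.val) (fun b hb => by
    have hbU : b ∈ U := mem_towerUnion_of_step step23_mono step23_fin _ (by
      rintro _ ⟨y, -, rfl⟩
      exact y.2) b hb
    have key : ∀ y : U, (y : B) ∈ E.map U.val → f y = g y := by
      rintro y ⟨z, hz, hzy⟩
      obtain rfl : z = y := Subtype.ext hzy
      exact hz
    refine ⟨⟨b, hbU⟩, ?_, rfl⟩
    show f ⟨b, hbU⟩ = g ⟨b, hbU⟩
    exact eq_of_sq_cube (by rw [← map_pow, ← map_pow]; exact key _ hb.1)
      (by rw [← map_pow, ← map_pow]; exact key _ hb.2))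
  ext ⟨x, hx⟩
  obtain ⟨z, hz, hzx⟩ := h hx
  obtain rfl : z = ⟨x, hx⟩ := Subtype.ext hzx
  exact hz

theorem surjective_residueFieldMap_tower23
    (q : Spec (CommRingCat.of (towerUnion (A := A) (B := B) Step23 step23_mono))) :
    Function.Surjective ((Spec.map (CommRingCat.ofHom
      (algebraMap A (towerUnion (A := A) (B := B) Step23 step23_mono)))).residueFieldMap q) := by
  let U := towerUnion (A := A) (B := B) Step23 step23_mono
  let g := (Spec.map (CommRingCat.ofHom (algebraMap A U))).residueFieldMap q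
  let E : Subalgebra A U :=
    { (g.hom.fieldRange.toSubring.comap (ev q).hom) with
      algebraMap_mem' := fun a => ⟨ev _ a, residueFieldMap_ev _ q a⟩ }
  have hmem : ∀ y : U, y ∈ E ↔ ev q y ∈ g.hom.fieldRange := fun y => Iff.rfl
  have h := towerUnion_le step23_mono (E.map U.val) (fun b hb => by
    have hbU : b ∈ U := mem_towerUnion_of_step step23_mono step23_fin _ (by
      rintro _ ⟨y, -, rfl⟩
      exact y.2) b hb
    have key : ∀ y : U, (y : B) ∈ E.map U.val → ev q y ∈ g.hom.fieldRange := by
      rintro y ⟨z, hz, hzy⟩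
      obtain rfl : z = y := Subtype.ext hzy
      exact hz
    refine ⟨⟨b, hbU⟩, (hmem _).mpr ?_, rfl⟩
    set y : U := ⟨b, hbU⟩
    have h2 := key (y ^ 2) hb.1
    have h3 := key (y ^ 3) hb.2
    by_cases hy : ev q y = 0
    · rw [hy]; exact zero_mem _
    · have : ev q y = ev q (y ^ 3) / ev q (y ^ 2) := by
        rw [map_pow, map_pow, eq_div_iff (pow_ne_zero 2 hy)]
        ring
      rw [this]
      exact div_mem h3 h2)
  have all : ∀ y : U, ev q y ∈ g.hom.fieldRange := by
    rintro ⟨x, hx⟩
    obtain ⟨z, hz, hzx⟩ := h hx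
    obtain rfl : z = ⟨x, hx⟩ := Subtype.ext hzx
    exact hz
  intro z
  obtain ⟨b, c, -, rfl⟩ := exists_eq_ev_div q z
  exact div_mem (all b) (all c)

section range

variable {C : Type u} [CommRing C] [Algebra A C] (g : C →ₐ[A] B)

theorem isUnivHomeo_range (hk : RingHom.ker (algebraMap A B) ≤ nilradical A)
    (hC : FlatMor.IsUnivHomeo (Spec.map (CommRingCat.ofHom (algebraMap A C)))) :
    FlatMor.IsUnivHomeo (Spec.map (CommRingCat.ofHom (algebraMap A g.range))) := by
  obtain ⟨hi, hr, -⟩ := (isUnivHomeo_SpecMap_iff _).mp hC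
  have : Algebra.IsIntegral A C := ⟨hi⟩
  refine isUnivHomeo_sub hk g.range ?_ ?_
  · intro x
    obtain ⟨c, rfl⟩ := g.rangeRestrict_surjective x
    exact (Algebra.IsIntegral.isIntegral (R := A) c).map g.rangeRestrict
  · intro K _ f f' h
    refine RingHom.ext fun x => ?_
    obtain ⟨c, rfl⟩ := g.rangeRestrict_surjective x
    have := hr K (f.comp g.rangeRestrict.toRingHom) (f'.comp g.rangeRestrict.toRingHom) (by
      ext a
      simpa using congr($h a))
    exact congr($this c)

theorem surjective_residueFieldMap_range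
    (hres : ∀ x : Spec (CommRingCat.of C),
      Function.Surjective ((Spec.map (CommRingCat.ofHom (algebraMap A C))).residueFieldMap x))
    (q : Spec (CommRingCat.of g.range)) :
    Function.Surjective
      ((Spec.map (CommRingCat.ofHom (algebraMap A g.range))).residueFieldMap q) := by
  refine (residueFieldMap_surjective_iff _ q).mpr fun b => ?_
  obtain ⟨c, rfl⟩ := g.rangeRestrict_surjective b
  obtain ⟨a, s, hs, h⟩ := (residueFieldMap_surjective_iff (algebraMap A C)
    (PrimeSpectrum.comap g.rangeRestrict.toRingHom q)).mp (hres _) c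
  refine ⟨a, s, fun h' => hs ?_, ?_⟩
  · show g.rangeRestrict (algebraMap A C s) ∈ q.asIdeal
    rwa [AlgHom.commutes]
  · have : g.rangeRestrict (algebraMap A C s * c - algebraMap A C a) ∈ q.asIdeal := h
    simpa using this

theorem range_le_towerP (hk : RingHom.ker (algebraMap A B) ≤ nilradical A)
    (hC : FlatMor.IsUnivHomeo (Spec.map (CommRingCat.ofHom (algebraMap A C)))) :
    g.range ≤ towerUnion StepP stepP_mono := by
  have hU := isUnivHomeo_range g hk hC
  refine le_towerUnion stepP_mono stepP_fin fun T hT => ?_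
  obtain ⟨b, hb, hs⟩ := exists_step_subalgebra hU Nat.Prime (fun _ h => h.two_le)
    (fun q b => exists_pow_of_radicial _ ((isUnivHomeo_SpecMap_iff _).mp hU).2.1 q b) T hT
  refine ⟨b, hb, ?_⟩
  rcases hs with ⟨h2, h3⟩ | ⟨p, hp, h1, h2⟩
  · exact Or.inl ⟨⟨_, h2, by simp⟩, ⟨_, h3, by simp⟩⟩
  · exact Or.inr ⟨p, hp, ⟨_, h1, by simp⟩, ⟨_, h2, by simp⟩⟩

theorem range_le_tower23 (hk : RingHom.ker (algebraMap A B) ≤ nilradical A)
    (hC : FlatMor.IsUnivHomeo (Spec.map (CommRingCat.ofHom (algebraMap A C))))
    (hres : ∀ x : Spec (CommRingCat.of C),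
      Function.Surjective ((Spec.map (CommRingCat.ofHom (algebraMap A C))).residueFieldMap x)) :
    g.range ≤ towerUnion Step23 step23_mono := by
  have hU := isUnivHomeo_range g hk hC
  refine le_towerUnion step23_mono step23_fin fun T hT => ?_
  obtain ⟨b, hb, hs⟩ := exists_step_subalgebra hU (fun _ => False) (fun _ h => h.elim)
    (fun q b => by
      obtain ⟨a, s, hs, h⟩ := (residueFieldMap_surjective_iff _ q).mp
        (surjective_residueFieldMap_range g hres q) b
      refine ⟨1, Or.inl rfl, 0, a, s, hs, ?_⟩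
      rw [pow_zero, pow_one]
      exact h) T hT
  obtain ⟨h2, h3⟩ := hs.resolve_right fun ⟨_, h, _⟩ => h.elim
  exact ⟨b, hb, ⟨_, h2, by simp⟩, ⟨_, h3, by simp⟩⟩

end range

end Groth.Agent.LimitsH94
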